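import Cfsg.Agent.H400.FprE6B
import Cfsg.Agent.H441.FPR.HeisG
import Cfsg.Agent.S1066
import Cfsg.Agent.S1070

/-!
# Fixed point ratios of `p`-elements: `²E₆(q)`, `q > 2`, orders `6` and `10`
-/

set_option autoImplicit false
set_option linter.unusedSectionVars false
set_option linter.unusedVariables false
set_option maxRecDepth 100000

namespace Cfsg.Agent.H441.FPR.TwE

open CoxeterSystem Cfsg.Agent.ChevalleyStructure.CoxeterGeom Cfsg.Agent.Tits.Roots Cfsg.Agent.Tits.Core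
  Cfsg.Agent.Nodes.Reps Cfsg.Agent.Nodes.BNOf Cfsg.Agent.Nodes.RGDTwGen Cfsg.Agent.Nodes.RGDChev Cfsg.Agent.Nodes.RGDFold
  Cfsg.Agent.Nodes.RGDFoldSL Cfsg.Agent.Nodes.RGDTwE6 Cfsg.Agent.Nodes.RGDTwCoord Cfsg.Agent.Nodes.RGDTwCoordE6
  Cfsg.Agent.Nodes.RGDTwComE6 Cfsg.Agent.Nodes.RGDTwActE6 Cfsg.Agent.Nodes.KindChev Cfsg.Agent.Nodes.Coroot
  Cfsg.Agent.Nodes.PosPair Cfsg.Agent.Nodes.LeviDec Cfsg.Agent.Nodes.StabComb Cfsg.Agent.Nodes.Bruhat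
  Cfsg.Agent.Nodes.Unique Cfsg.Agent.KFacts.RgdTI Cfsg.Agent.KFacts.RgdPar Cfsg.Agent.KFacts.RgdSL Cfsg.Agent.Nodes.PosPair
open Cfsg.Lie Cfsg.Agent.ChevalleyStructure Cfsg.Agent.ChevalleyStructure.Elts
open Cfsg.Agent.H400.TwoExc Cfsg.Agent.H400.TwoExc.TwE Cfsg.Agent.H400.Fpr Cfsg.Agent.H400.Fpr.E6
open Cfsg.Agent.H398.FPR (UGood Good)
open Cfsg.Agent.H409 (FprRow)
open Cfsg.Agent.H441.FPR.Heis

universe u

/-! ### The order of the parabolic subgroup -/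

theorem idE6t (q : ℤ) : ((exF4t.map fun z => q ^ z.1 + q ^ z.2).sum) * ((q - 1) * (q ^ 3 + 1) * (q ^ 4 - 1)) =
    (q ^ 8 - 1) * (q ^ 9 + 1) * (q ^ 12 - 1) := by
  unfold exF4t
  simp only [List.map_cons, List.map_nil, List.sum_cons, List.sum_nil]
  ring

variable {K : Type u} [Field K] [Fintype K] {q : ℕ} {φ : K →+* K}

/-- the exponent of the torus -/
theorem tor_pow {D : ChevalleyDatum} (hD : InList D) {g : GL D.Idx K} (hg : g ∈ D.diagonalSubgroup K) :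
    g ^ (Fintype.card K - 1) = 1 := by
  obtain ⟨χ, hχ⟩ := HMatDiagAll.mem_torus.1 (HMatDiagAll.diagonalSubgroup_le_torus hD hg)
  have hinv : ((g⁻¹ : GL D.Idx K) : Matrix D.Idx D.Idx K) * ((g : GL D.Idx K) : Matrix _ _ K) = 1 := by
    rw [← Units.val_mul, inv_mul_cancel]; rfl
  have hne : ∀ i, χ i ≠ 0 := by
    intro i h0
    rw [hχ] at hinv
    have h1 := congrFun (congrFun hinv (Sum.inr i)) (Sum.inr i)
    rw [Matrix.mul_diagonal, Matrix.one_apply_eq, Sum.elim_inr, h0, mul_zero] at h1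
    exact zero_ne_one h1
  apply Units.ext
  rw [Units.val_pow_eq_pow_val, hχ, Matrix.diagonal_pow, Units.val_one, ← Matrix.diagonal_one]
  congr 1
  funext i
  rcases i with i | i
  · simp [Sum.elim_inl]
  · rw [Pi.pow_apply, Sum.elim_inr]
    exact FiniteField.pow_card_sub_one_eq_one _ (hne i)

section

variable {W : Type} [Group W] [Finite W] (cs : CoxeterSystem CoxeterMatrix.F₄ W) (hφ : ∀ x, φ x = x ^ q)
  (hqq : ∀ t : K, (t ^ q) ^ q = t)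

include hφ hqq

theorem index_P (hK : Fintype.card K = q ^ 2) (hq1 : 1 < q) (p : ℕ) [Fact p.Prime] [CharP K p] :
    (PS (Nodes.RGDTwE6.T K q) (Nodes.RGDTwE6.X φ q) (Ge cs isCartan rr)).index =
      (exF4t.map fun z => q ^ z.1 + q ^ z.2).sum := by
  have R := Nodes.RGDTwE6.rgd cs hφ hqq p
  have hG1 := Nodes.RGDTwE6.G1_eq_top cs hφ hqq
  have hG : GG cs isCartan (Nodes.RGDTwE6.T K q) (Nodes.RGDTwE6.X φ q) = ⊤ := KFacts.RgdRigid.GG_eq_top hG1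
  have hfin : Finite ↥(twistedE6 K q) := inferInstance
  obtain ⟨H, F⟩ := pr cs
  have GG' := gi (cs := cs) hφ hqq p hK hq1
  have hN : qf Nodes.RGDTwE6.A (toV dlF4t) (toV [2, 3, 4, 2]) (toV [2, 3, 4, 2]) = 4 := by decide +kernel
  have hdom := dom_of_chk hA F domF4t hN
  have hindex := index_tab (R := R) hG H GG'.hd GG'.lr (GG'.qf_pos GG'.rr) GG'.dom hdom (q := q) eF4t
    (fun t ht => card_X (cs := cs) hφ hqq hK hq1 (H.isRoot ht))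
  rw [F.sum_eq, hN, expF4t] at hindex
  exact hindex

theorem card_P (hq : IsPrimePow q) (hK : Fintype.card K = q ^ 2) (p : ℕ) [Fact p.Prime] [CharP K p] :
    ((Nat.gcd 3 (q + 1) : ℕ) : ℤ) *
    (Nat.card ↥(PS (Nodes.RGDTwE6.T K q) (Nodes.RGDTwE6.X φ q) (Ge cs isCartan rr)) : ℤ) =
    (q : ℤ) ^ 36 * ((q : ℤ) - 1) * ((q : ℤ) ^ 2 - 1) * ((q : ℤ) ^ 3 + 1) * ((q : ℤ) ^ 4 - 1) * ((q : ℤ) ^ 5 + 1) *
      ((q : ℤ) ^ 6 - 1) := by
  have hq1 := hq.one_lt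
  have h1 := index_P cs hφ hqq hK hq1 p
  have h2 := Subgroup.card_mul_index (PS (Nodes.RGDTwE6.T K q) (Nodes.RGDTwE6.X φ q) (Ge cs isCartan rr))
  have h0 := Cfsg.Agent.S1066.result hq hK
  rw [h1] at h2
  rw [← h2] at h0
  have h3 := congrArg (Nat.cast : ℕ → ℤ) h0
  push_cast [cast_sub (q := q) (by omega : 0 < q)] at h3
  have h4 := cast_sum exF4t q
  push_cast at h4
  rw [h4] at h3
  have h5 := idE6t (q : ℤ)
  have h6 : ((q : ℤ) ^ 8 - 1) * ((q : ℤ) ^ 9 + 1) * ((q : ℤ) ^ 12 - 1) ≠ 0 :=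
    mul_ne_zero (mul_ne_zero (pow_sub_ne hq1 (by norm_num)) (by positivity)) (pow_sub_ne hq1 (by norm_num))
  refine mul_right_cancel₀ h6 ?_
  set S := (exF4t.map fun z => (q : ℤ) ^ z.1 + (q : ℤ) ^ z.2).sum with hS
  set P := (Nat.card ↥(PS (Nodes.RGDTwE6.T K q) (Nodes.RGDTwE6.X φ q) (Ge cs isCartan rr)) : ℤ) with hP
  set g := ((Nat.gcd 3 (q + 1) : ℕ) : ℤ) with hg
  rw [← h5]
  calc g * P * (S * ((↑q - 1) * (↑q ^ 3 + 1) * (↑q ^ 4 - 1))) = (g * (P * S)) * ((↑q - 1) * (↑q ^ 3 + 1) * (↑q ^ 4 - 1)) := by ring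
    _ = _ := by rw [h3, h5]; ring

end

theorem ord_pow_ne {ℓ e m : ℕ} (ho : orderOf (q : ZMod ℓ) = e) (hm : 0 < m) (hme : m < e) : ¬ (ℓ : ℤ) ∣ (q : ℤ) ^ m - 1 := by
  intro h
  rw [← ZMod.intCast_zmod_eq_zero_iff_dvd] at h
  push_cast at h
  rw [sub_eq_zero] at h
  have := Nat.le_of_dvd hm (orderOf_dvd_of_pow_eq_one h)
  omega

theorem ord_pow_dvd {ℓ e : ℕ} (ho : orderOf (q : ZMod ℓ) = e) : (ℓ : ℤ) ∣ (q : ℤ) ^ e - 1 := by
  rw [← ZMod.intCast_zmod_eq_zero_iff_dvd]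
  push_cast
  rw [sub_eq_zero, ← ho]
  exact pow_orderOf_eq_one _

/-- **`²E₆(q)`, `q > 2`, order `6` and `10`.** -/
theorem good_six_ten (hs : IsSimpleGroup ↥(twistedE6 K q)) (hcen : Subgroup.center ↥(twistedE6 K q) = ⊥)
    (hK : Fintype.card K = q ^ 2) (hφ : ∀ x, φ x = x ^ q) (hqq : ∀ t : K, (t ^ q) ^ q = t)
    (hq2 : 2 < q) (p : ℕ) [Fact p.Prime] [CharP K p] {ℓ : ℕ} (hℓ : ℓ.Prime) (hℓp : ℓ ≠ p)
    (ho : orderOf (q : ZMod ℓ) = 6 ∨ orderOf (q : ZMod ℓ) = 10) : Good 1 (ℓ + 1) ℓ ↥(twistedE6 K q) := by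
  obtain ⟨e, he⟩ : ∃ e, orderOf (q : ZMod ℓ) = e := ⟨_, rfl⟩
  rw [he] at ho
  let cs : CoxeterSystem CoxeterMatrix.F₄ _ := CoxeterMatrix.F₄.toCoxeterSystem
  have hW : Finite CoxeterMatrix.F₄.Group := Nodes.RGDFold.finite_W (hp := Nodes.RGDTwE6.hp) cs isCartan foldData
  have hp : p.Prime := Fact.out
  have hfin : Finite ↥(twistedE6 K q) := inferInstance
  have hq1 : 1 < q := by omega
  obtain ⟨f, hf⟩ := exists_powE hK p
  have hf0 : f ≠ 0 := by rintro rfl; rw [pow_zero] at hf; omega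
  have hqp : IsPrimePow q := by rw [hf]; exact hp.isPrimePow.pow hf0
  obtain ⟨b, hb, hb0, hM⟩ := exists_base (e := e) hp hℓ hℓp (a := f) (by rw [← hf]; exact he)
  obtain ⟨hb1, hb2⟩ := hb0 hf0
  obtain ⟨s, hsd⟩ : ∃ s, s = p ^ b := ⟨_, rfl⟩
  rw [← hsd] at hb hM
  have hs2 : 2 ≤ s := by rw [hsd]; exact two_le_pow hp hb1
  have hℓ2 : ¬ ℓ ∣ q ^ 2 - 1 := by
    intro h1
    refine ord_pow_ne he (m := 2) (by norm_num) (by rcases ho with rfl | rfl <;> norm_num) ?_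
    have h2 := Int.natCast_dvd_natCast.2 h1
    rwa [cast_sub (by omega)] at h2
  have hgcd : ¬ ℓ ∣ Nat.gcd 3 (q + 1) := by
    intro h1
    apply hℓ2
    have h2 := h1.trans (Nat.gcd_dvd_right _ _)
    have h3 : q ^ 2 - 1 = (q + 1) * (q - 1) := by
      obtain ⟨m, rfl⟩ : ∃ m, q = m + 1 := ⟨q - 1, by omega⟩
      rw [Nat.add_sub_cancel]
      have e2 : (m + 1) ^ 2 = (m + 1 + 1) * m + 1 := by ring
      rw [e2, Nat.add_sub_cancel]
    rw [h3]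
    exact h2.mul_right _
  -- the element of order `ℓ`
  have hd : ℓ ∣ Nat.card ↥(PS (Nodes.RGDTwE6.T K q) (Nodes.RGDTwE6.X φ q) (Ge cs isCartan rr)) := by
    have h1 := card_P cs hφ hqq hqp hK p
    have hℓi : Prime (ℓ : ℤ) := Nat.prime_iff_prime_int.1 hℓ
    have h2 : (ℓ : ℤ) ∣ ((q : ℤ) ^ 5 + 1) * ((q : ℤ) ^ 6 - 1) := by
      rcases ho with rfl | rfl
      · exact (ord_pow_dvd he).mul_left _
      · have h3 : (ℓ : ℤ) ∣ ((q : ℤ) ^ 5 - 1) * ((q : ℤ) ^ 5 + 1) := by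
          have : ((q : ℤ) ^ 5 - 1) * ((q : ℤ) ^ 5 + 1) = (q : ℤ) ^ 10 - 1 := by ring
          rw [this]
          exact ord_pow_dvd he
        exact ((hℓi.dvd_or_dvd h3).resolve_left (ord_pow_ne he (by norm_num) (by norm_num))).mul_right _
    have h4 : (ℓ : ℤ) ∣ ((Nat.gcd 3 (q + 1) : ℕ) : ℤ) *
        (Nat.card ↥(PS (Nodes.RGDTwE6.T K q) (Nodes.RGDTwE6.X φ q) (Ge cs isCartan rr)) : ℤ) := by
      rw [h1, mul_assoc]
      exact h2.mul_left _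
    have h5 : ℓ ∣ Nat.gcd 3 (q + 1) *
        Nat.card ↥(PS (Nodes.RGDTwE6.T K q) (Nodes.RGDTwE6.X φ q) (Ge cs isCartan rr)) := by exact_mod_cast h4
    exact ((hℓ.dvd_mul).1 h5).resolve_left hgcd
  have H : Hs (Nodes.RGDTwE6.rgd cs hφ hqq p) rr := (gi hφ hqq p hK hq1).hs
  have hQp := isPGroup_QQE (cs := cs) hφ hqq hK hq1 p
  obtain ⟨x, hx, hxo⟩ := exists_L0 (N := q ^ 2 - 1) H hℓ hℓp (((Nat.Prime.coprime_iff_not_dvd hℓ).2 hℓ2).symm) (by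
    intro t ht
    have h1 : ((t : ↥(twistedE6 K q)) : GL chevE6.Idx K) ∈ chevE6.diagonalSubgroup K := (Subgroup.mem_subgroupOf.1 ht).1
    apply Subtype.ext
    rw [Subgroup.coe_pow, Subgroup.coe_one, ← hK]
    exact tor_pow (by simp) h1) hQp hd
  obtain ⟨h, S⟩ := exists_scR (cs := cs) hφ hqq hK hq2 p
  have key := heis_rgd (D := 20) (k := 1) (M' := s ^ e) H hs hcen (Nodes.RGDTwE6.G1_eq_top cs hφ hqq) S hℓ hℓp hx
    (by rw [pow_one, ← hxo]; exact pow_orderOf_eq_one x) (by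
      rintro rfl
      rw [orderOf_one] at hxo
      exact hℓ.one_lt.ne hxo) hQp (by
      rw [card_QQE hφ hqq hK hq1 p, card_Xr hφ hqq hK hq1, ← pow_succ]
      exact Nat.pow_lt_pow_right hq1 (by norm_num)) hM (Nat.one_le_pow _ _ (by omega))
  refine good_of_uGood (k := 1) hℓ (by rw [pow_one, ← hxo]; exact pow_orderOf_eq_one x) key ?_
  have := hℓ.two_le
  rcases ho with rfl | rfl
  · have h1 := ar_six (by exact_mod_cast base_six hℓ hb hs2) (le_six hℓ hb)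
    have h2 : 22 * (ℓ + 1) ≤ s ^ 6 + 15 := by exact_mod_cast h1
    omega
  · have hs' : (2 : ℤ) ≤ s := by exact_mod_cast hs2
    have h1 := ar58 (e := 10) (ℓ := (ℓ : ℤ)) hs' (Or.inl ⟨rfl, le_ten hℓ hb hs2⟩)
    have h2 : 58 * (ℓ + 1) ≤ s ^ 10 + 57 := by exact_mod_cast h1
    omega

end Cfsg.Agent.H441.FPR.TwE
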