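import Cfsg.Agent.H441.FPR.GrowC

/-!
# Growth: `E₈(q)`, `q` a power of `3`, `p = 757`
-/

set_option autoImplicit false
set_option linter.unusedSectionVars false
set_option linter.unusedVariables false
set_option maxRecDepth 100000

namespace Cfsg.Agent.H441.FPR.Grow

open CoxeterSystem Cfsg.Agent.ChevalleyStructure.CoxeterGeom Cfsg.Agent.Tits.Roots Cfsg.Agent.Tits.Core
  Cfsg.Agent.Nodes.Reps Cfsg.Agent.Nodes.BNOf Cfsg.Agent.Nodes.Coroot Cfsg.Agent.Nodes.LeviDec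
  Cfsg.Agent.Nodes.PosPair Cfsg.Agent.Nodes.StabComb Cfsg.Agent.Nodes.KindChev Cfsg.Agent.KFacts.RgdCent
  Cfsg.Agent.Nodes.Bruhat Cfsg.Agent.Nodes.OppDec Cfsg.Agent.Tits.Exchange
  Cfsg.Agent.KFacts.RgdPar Cfsg.Agent.KFacts.RgdSL Cfsg.Agent.KFacts.RgdTI Cfsg.Agent.Nodes.RGDChev
  Cfsg.Agent.ChevalleyStructure.CoxeterGeomTypes
open Cfsg.Lie Cfsg.Agent.ChevalleyStructure Cfsg.Agent.ChevalleyStructure.Elts Cfsg.Agent.ChevalleyStructure.NPerm
open Cfsg.Agent.KFacts.RgdChevCoord Cfsg.Agent.Nodes.ChevCls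
open Cfsg.Agent.H400.TwoExc Cfsg.Agent.H400.Fpr
open Cfsg.Agent.H398.FPR (UGood Good)
open Cfsg.Agent.H409 (FprRow)
open Cfsg.Agent.H79.SimpleGen
open Cfsg.Agent.H400
open Cfsg.Agent.H441.FPR.Heis Cfsg.Agent.H441.FPR.Bit
open Cfsg.Agent.ChevalleyStructure.StEmbed

universe u

variable {K : Type u} [Field K] [Fintype K]

/-- the homomorphism to `E₈(q)` is not trivial -/
theorem f78_ne (θ8 : chevE8.SteinbergGroup K →* ↥(chevE8.group K))
    (he8 : ∀ (r : ℕ) (t : K), r < chevE8.nroots → ((θ8 (chevE8.stGen K r t) : ↥(chevE8.group K)) : GL chevE8.Idx K) = chevE8.x K r t) :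
    (θ8.comp (hom emb78 K)) (chevE7.stGen K 0 1) ≠ 1 := by
  intro h2
  have h0 : (0 : ℕ) < chevE7.nroots := by decide +kernel
  have h7 : ι78 0 < chevE8.nroots := by decide +kernel
  rw [MonoidHom.comp_apply, hom_stGen emb78 h0] at h2
  have h3 := he8 (ι78 0) 1 h7
  rw [h2] at h3
  have hD : InList chevE8 := by simp
  have h4 : xG (F := K) hD (ι78 0) 1 = 1 := Units.ext h3.symm
  exact one_ne_zero ((xG_eq_one_iff hD h7 _).1 h4)

/-- an element of order `l`, `l` of order `14`, with small ratios -/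
theorem e8_y (hK : 2 < Fintype.card K) : ∃ l : ℕ, l.Prime ∧ 14 < l ∧ ¬ l ∣ Fintype.card K ∧
    orderOf (Fintype.card K : ZMod l) = 14 ∧
    ∃ y : ↥(chevE8.group K), orderOf y = l ∧ ∀ b, 58 * b ≤ Fintype.card K ^ 14 + 57 → UGood 1 b y := by
  have hK1 : 1 < Fintype.card K := Fintype.one_lt_card
  have hfin : Finite ↥(chevE8.group K) := inferInstance
  have hsimp := Cfsg.Agent.S1054.result (F := K) chevE8 (by simp)
  have hsim : IsSimpleGroup ↥(chevE8.group K) := hsimp.1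
  have hcen : Subgroup.center ↥(chevE8.group K) = ⊥ := center_eq_bot hsimp.2
  let cs : CoxeterSystem CoxeterMatrix.E₈ _ := CoxeterMatrix.E₈.toCoxeterSystem
  have hT : IsType chevE8 8 CoxeterMatrix.E₈ := by simp [IsType, typeList]
  have hW : Finite CoxeterMatrix.E₈.Group := finite_W hT cs
  obtain ⟨r, hrK⟩ := CharP.exists K
  have hr := CharP.char_is_prime K r
  have : Fact r.Prime := ⟨hr⟩
  obtain ⟨a, -, ha⟩ := FiniteField.card K r
  have HD := hd_E8 (K := K) cs r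
  obtain ⟨l, hl, hlr, hl8, hlo, hM⟩ := exists_zsig (m := 14) hr.two_le a.pos (by norm_num)
  rw [← ha] at hlo hM
  have hlK : ¬ l ∣ Fintype.card K := by
    rw [ha]
    intro h
    exact hlr ((Nat.prime_dvd_prime_iff_eq hl hr).1 (hl.dvd_of_dvd_pow h))
  have hlq : ¬ l ∣ Fintype.card K - 1 := by
    intro h1
    have h2 : (Fintype.card K : ZMod l) = 1 := by
      have h3 := (ZMod.natCast_eq_zero_iff _ _).2 h1
      rwa [Nat.cast_sub Fintype.card_pos, Nat.cast_one, sub_eq_zero] at h3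
    rw [h2, orderOf_one] at hlo
    omega
  obtain ⟨x, hx, hxo⟩ := e8_x (m := 14) cs hl hlr hlq hlo (by decide) dvd_rfl hT
  have key := uGood_x (M' := Fintype.card K ^ 14) HD hsim hcen hK hl hlr hx hxo hM (Nat.one_le_pow _ _ (by omega))
  refine ⟨l, hl, hl8, hlK, hlo, x, hxo, fun b hb => key.mono (by omega) ?_⟩
  omega

/-- **`E₈(q)`, `q` of order `9` modulo `p`, `p ≤ 757`, `q > 2`.** -/
theorem e8_nine_small {p : ℕ} (hp : p.Prime) (ho : orderOf (Fintype.card K : ZMod p) = 9) (hK : 2 < Fintype.card K)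
    (h757 : p ≤ 757) : FprRow (p + 1) 1 p ↥(chevE8.group K) := by
  have : Fact p.Prime := ⟨hp⟩
  have hs7 := (Cfsg.Agent.S1054.result (F := K) chevE7 (by simp)).1
  have hs8 := (Cfsg.Agent.S1054.result (F := K) chevE8 (by simp)).1
  obtain ⟨l, hl, hl8, hlK, hlo, y, hyo, hy⟩ := e8_y (K := K) hK
  have : Fact l.Prime := ⟨hl⟩
  obtain ⟨q, hF⟩ : ∃ q, Fintype.card K = q := ⟨_, rfl⟩
  rw [hF] at ho hlK hlo hy hK
  have hi : ∀ H : Subgroup ↥(chevE7.group K), H ≠ ⊤ → 2 * q ^ 17 ≤ H.index := fun H hH => by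
    rw [← hF]; exact Cfsg.Agent.H934.HeisE7.two_mul_le hs7 H hH
  have hp8 := Cfsg.Agent.H448.FprExc.le_of_ord hp (by norm_num) ho
  obtain ⟨M, hM, hM0, hM1⟩ : ∃ M : ℕ, (M : ℤ) = -1 + (q : ℤ) - (q : ℤ) ^ 3 + (q : ℤ) ^ 4 - (q : ℤ) ^ 6 + (q : ℤ) ^ 7 ∧
      0 < M ∧ M ≤ q ^ 8 := by
    obtain ⟨a, rfl⟩ : ∃ a, q = a + 1 := ⟨q - 1, by omega⟩
    have h1 : 0 < a := by omega
    refine ⟨a * (1 + (a + 1) ^ 3 + (a + 1) ^ 6), by push_cast; ring, by positivity, ?_⟩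
    have h2 : 1 + (a + 1) ^ 3 + (a + 1) ^ 6 ≤ (a + 1) ^ 7 := by
      have h3 : (a + 1) ^ 7 = (a + 1) * (a + 1) ^ 6 := by ring
      have h4 : 2 * (a + 1) ^ 6 ≤ (a + 1) * (a + 1) ^ 6 := Nat.mul_le_mul_right _ (by omega)
      have h5 : (a + 1) ^ 6 = (a + 1) ^ 3 * (a + 1) ^ 3 := by ring
      have h6 : 2 ^ 3 ≤ (a + 1) ^ 3 := Nat.pow_le_pow_left (by omega) 3
      have h7 : 2 ^ 3 * (a + 1) ^ 3 ≤ (a + 1) ^ 3 * (a + 1) ^ 3 := Nat.mul_le_mul_right _ h6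
      omega
    calc a * (1 + (a + 1) ^ 3 + (a + 1) ^ 6) ≤ (a + 1) * (a + 1) ^ 7 := Nat.mul_le_mul (by omega) h2
      _ = (a + 1) ^ 8 := by ring
  obtain ⟨N, hN⟩ : ∃ N : ℕ, (N : ℤ) = 1 + (q : ℤ) ^ 3 + (q : ℤ) ^ 6 := ⟨1 + q ^ 3 + q ^ 6, by push_cast; ring⟩
  have hpN := Cfsg.Agent.H448.FprExc.dvd_9' ho hN
  obtain ⟨T, -, h1, h2, h3⟩ := Cfsg.Agent.H448.FprExc.torus9s hF hN hM hp (by omega) hpN
  have hpM : p ∣ M := by
    have h4 : (p : ℤ) ∣ (N : ℤ) := Int.natCast_dvd_natCast.2 hpN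
    have h5 : (M : ℤ) = (N : ℤ) * ((q : ℤ) - 1) := by rw [hM, hN]; ring
    have h6 : (p : ℤ) ∣ (M : ℤ) := by rw [h5]; exact h4.mul_right _
    exact Int.natCast_dvd_natCast.1 h6
  have h37 : 2187 ≤ q ^ 7 := by
    calc 2187 = 3 ^ 7 := by norm_num
      _ ≤ _ := Nat.pow_le_pow_left hK 7
  obtain ⟨x7, hx7, hb⟩ := uGood_torus (b := 2 * (p + 1)) h1 h2 hpM (fun h => by
      have := Nat.le_of_dvd (by norm_num) h
      omega) hM0 h3 hi (by
    calc 2 * (p + 1) * M ≤ 2 * q ^ 7 * q ^ 8 := Nat.mul_le_mul (Nat.mul_le_mul_left _ (by omega)) hM1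
      _ = 2 * q ^ 15 := by ring
      _ ≤ 2 * q ^ 17 := Nat.mul_le_mul_left _ (Nat.pow_le_pow_right (by omega) (by norm_num)))
  obtain ⟨θ7, hs7', hk7, he7⟩ := Cfsg.Agent.S1077.result (K := K) chevE7 (by simp)
  obtain ⟨θ8, hs8', hk8, he8⟩ := Cfsg.Agent.S1077.result (K := K) chevE8 (by simp)
  have hperf := Cfsg.Agent.H65.UnivE.Typ.perfect Cfsg.Agent.H65.UnivE.typE7 K
  -- the prime `l` divides the order of `E₇(q)`
  have hlq14 : l ∣ q ^ 14 - 1 := dvd_of_ord (by omega) (by rw [hlo])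
  have hl7 : l ∣ Nat.card ↥(chevE7.group K) := by
    have h7 := Cfsg.Agent.S1064.result (F := K) hF
    have h8 : l ∣ Nat.gcd 2 (q - 1) * Nat.card ↥(chevE7.group K) := by
      rw [h7]
      exact Dvd.dvd.mul_right (Dvd.dvd.mul_left hlq14 _) _
    refine ((hl.dvd_mul).1 h8).resolve_left fun h9 => ?_
    have := Nat.le_of_dvd (by norm_num) (h9.trans (Nat.gcd_dvd_left _ _))
    omega
  have hl8' : l ∣ Nat.card ↥(chevE8.group K) := by rw [← hyo]; exact orderOf_dvd_natCard y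
  obtain ⟨P⟩ : Nonempty (Sylow l ↥(chevE8.group K)) := inferInstance
  have hP := syl_cyc (K := K) (c := (chevE8, [2, 8, 12, 14, 18, 20, 24, 30])) (by simp) (p := l) (e := 14) (by rwa [hF])
    (by
      show ¬ l ∣ 2 * (8 * (12 * (14 * (18 * (20 * (24 * (30 * 1)))))))
      intro h9
      have h10 : l ∣ 2 ^ 14 * 3 ^ 5 * 5 ^ 2 * 7 := by
        have : 2 * (8 * (12 * (14 * (18 * (20 * (24 * (30 * 1))))))) = 2 ^ 14 * 3 ^ 5 * 5 ^ 2 * 7 := by norm_num
        rwa [this] at h9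
      rcases (hl.dvd_mul).1 h10 with h11 | h11
      · rcases (hl.dvd_mul).1 h11 with h12 | h12
        · rcases (hl.dvd_mul).1 h12 with h13 | h13
          · have := Nat.le_of_dvd (by norm_num) (hl.dvd_of_dvd_pow h13); omega
          · have := Nat.le_of_dvd (by norm_num) (hl.dvd_of_dvd_pow h13); omega
        · have := Nat.le_of_dvd (by norm_num) (hl.dvd_of_dvd_pow h12); omega
      · have := Nat.le_of_dvd (by norm_num) h11; omega) hl8' (by rw [hF]; exact hlo) (by decide) P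
  refine growth_main hs7 (θ8.comp (hom emb78 K)) θ7 hs7' hk7.le hperf (f78_ne θ8 he8) hp hx7 hb hl7 hP hyo
    (hy _ ?_)
  have h14 : q ^ 14 = q ^ 7 * q ^ 7 := by ring
  have h15 : 2187 * 2187 ≤ q ^ 7 * q ^ 7 := Nat.mul_le_mul h37 h37
  omega

/-- **`E₈(q)`, order `9`.** -/
theorem e8_nine_all {p : ℕ} (hp : p.Prime) (hpK : (p : K) ≠ 0) (ho : orderOf (Fintype.card K : ZMod p) = 9) :
    FprRow (p + 1) 1 p ↥(chevE8.group K) := by
  by_cases h : p = 757 ∧ (3 : K) = 0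
  · obtain ⟨rfl, h3⟩ := h
    refine e8_nine_small hp ho ?_ le_rfl
    have h1 : 1 < Fintype.card K := Fintype.one_lt_card
    rcases Nat.lt_or_ge 2 (Fintype.card K) with h2 | h2
    · exact h2
    · exfalso
      have h4 : Fintype.card K = 2 := by omega
      have h5 : ((Fintype.card K : ℕ) : K) = 0 := Nat.cast_card_eq_zero K
      rw [h4] at h5
      have h6 : (1 : K) = 0 := by push_cast at h5; linear_combination h3 - h5
      exact one_ne_zero h6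
  · refine e8_nine' hp hpK ho ?_
    by_cases h1 : p = 757
    · exact Or.inr fun h2 => h ⟨h1, h2⟩
    · exact Or.inl h1

end Cfsg.Agent.H441.FPR.Grow
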