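import Mathlib

/-!
# Linear algebra over `F₂` in an elementary abelian group: bit vectors
-/

set_option autoImplicit false
set_option linter.unusedSectionVars false
set_option linter.unusedVariables false

namespace Cfsg.Agent.H441.FPR.Bit

open scoped Pointwise

/-- matrix times vector over `F₂` -/
def app : List ℕ → ℕ → ℕ
  | [], _ => 0
  | a :: L, v => (if v % 2 = 1 then a else 0) ^^^ app L (v / 2)

/-- the unit matrix -/
def idL : ℕ → List ℕ
  | 0 => []
  | n + 1 => 1 :: (idL n).map (2 * ·)

/-- the product of matrices -/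
def mmul (L M : List ℕ) : List ℕ := M.map (app L)

section Psi

variable {A : Type*} [CommGroup A]

/-- the element of a bit vector -/
def psi : List A → ℕ → A
  | [], _ => 1
  | a :: L, v => (if v % 2 = 1 then a else 1) * psi L (v / 2)

theorem psi_zero (L : List A) : psi L 0 = 1 := by
  induction L with
  | nil => rfl
  | cons a L ih => simp [psi, ih]

theorem xor_div_two (v w : ℕ) : (v ^^^ w) / 2 = (v / 2) ^^^ (w / 2) := by
  apply Nat.eq_of_testBit_eq
  intro i
  rw [Nat.testBit_xor, Nat.testBit_div_two, Nat.testBit_div_two, Nat.testBit_div_two, Nat.testBit_xor]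

theorem xor_mod_two (v w : ℕ) : (v ^^^ w) % 2 = (v + w) % 2 := Nat.xor_mod_two_eq

theorem psi_xor {L : List A} (hL : ∀ a ∈ L, a * a = 1) (v w : ℕ) : psi L (v ^^^ w) = psi L v * psi L w := by
  induction L generalizing v w with
  | nil => simp [psi]
  | cons a L ih =>
    have ha := hL a List.mem_cons_self
    simp only [psi, xor_div_two, ih fun b hb => hL b (List.mem_cons_of_mem _ hb)]
    have h1 := xor_mod_two v w
    rcases Nat.mod_two_eq_zero_or_one v with hv | hv <;> rcases Nat.mod_two_eq_zero_or_one w with hw | hw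
    · have h2 : (v ^^^ w) % 2 = 0 := by omega
      simp [hv, hw, h2]
    · have h2 : (v ^^^ w) % 2 = 1 := by omega
      simp only [hv, hw, h2, if_true, if_neg (show ¬ (0 = 1) by norm_num), one_mul]
      rw [mul_left_comm]
    · have h2 : (v ^^^ w) % 2 = 1 := by omega
      simp only [hv, hw, h2, if_true, if_neg (show ¬ (0 = 1) by norm_num), one_mul]
      rw [mul_assoc]
    · have h2 : (v ^^^ w) % 2 = 0 := by omega
      simp only [hv, hw, h2, if_true, if_neg (show ¬ (0 = 1) by norm_num), one_mul]
      rw [mul_mul_mul_comm, ha, one_mul]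

theorem psi_sq {L : List A} (hL : ∀ a ∈ L, a * a = 1) (v : ℕ) : psi L v * psi L v = 1 := by
  rw [← psi_xor hL, Nat.xor_self, psi_zero]

theorem psi_two_mul (a : A) (L : List A) (v : ℕ) : psi (a :: L) (2 * v) = psi L v := by
  simp [psi]

theorem forall₂_idL (L : List A) : List.Forall₂ (fun a m => a = psi L m) L (idL L.length) := by
  induction L with
  | nil => exact List.Forall₂.nil
  | cons a L ih =>
    rw [List.length_cons, idL]
    refine List.Forall₂.cons ?_ ?_
    · simp [psi, psi_zero]
    · rw [List.forall₂_map_right_iff]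
      refine ih.imp fun b m hb => ?_
      rw [psi_two_mul]
      exact hb

/-- the matrix of an endomorphism -/
def Rep (α : A →* A) (L : List A) (M : List ℕ) : Prop := List.Forall₂ (fun a m => α a = psi L m) L M

theorem psi_app {B : List A} {L : List A} (hL : ∀ a ∈ L, a * a = 1) {α : A →* A} {M : List ℕ}
    (h : List.Forall₂ (fun a m => α a = psi L m) B M) (v : ℕ) : α (psi B v) = psi L (app M v) := by
  induction h generalizing v with
  | nil => simp [psi, app, psi_zero]
  | @cons a m B M ha h ih =>
    simp only [psi, app, map_mul, ih, psi_xor hL]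
    congr 1
    split_ifs
    · exact ha
    · rw [map_one, psi_zero]

theorem Rep.psi {α : A →* A} {L : List A} {M : List ℕ} (hL : ∀ a ∈ L, a * a = 1) (h : Rep α L M) (v : ℕ) :
    α (psi L v) = Bit.psi L (app M v) := psi_app hL h v

theorem Rep.comp {α β : A →* A} {L : List A} {M N : List ℕ} (hL : ∀ a ∈ L, a * a = 1) (h : Rep α L M)
    (h' : Rep β L N) : Rep (α.comp β) L (mmul M N) := by
  unfold Rep mmul
  rw [List.forall₂_map_right_iff]
  refine h'.imp fun a m ha => ?_
  rw [MonoidHom.comp_apply, ha, h.psi hL]

theorem Rep.one (L : List A) : Rep (MonoidHom.id A) L (idL L.length) := forall₂_idL L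

theorem Rep.eq_self {α : A →* A} {L : List A} (h : Rep α L (idL L.length)) : ∀ a ∈ L, α a = a := by
  have h1 := forall₂_idL L
  unfold Rep at h
  intro a ha
  obtain ⟨i, hi, rfl⟩ := List.getElem_of_mem ha
  have hi' : i < (idL L.length).length := by rw [← h.length_eq]; exact hi
  have e1 := h.get hi hi'
  have e2 := h1.get hi hi'
  simp only [List.get_eq_getElem] at e1 e2
  rw [e1, ← e2]

theorem psi_app_mem {L : List A} (hL : ∀ a ∈ L, a * a = 1) {H : Subgroup A} {bs : List ℕ} (hH : ∀ b ∈ bs, psi L b ∈ H)
    (u : ℕ) : psi L (app bs u) ∈ H := by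
  induction bs generalizing u with
  | nil => simp [app, psi_zero, one_mem]
  | cons b bs ih =>
    simp only [app, psi_xor hL]
    refine mul_mem ?_ (ih (fun c hc => hH c (List.mem_cons_of_mem _ hc)) _)
    split_ifs
    · exact hH b List.mem_cons_self
    · rw [psi_zero]; exact one_mem _

theorem psi_map_mul {X : Type*} {f g h : X → A} (l : List X) (e : ∀ x ∈ l, h x = f x * g x) (v : ℕ) :
    psi (l.map h) v = psi (l.map f) v * psi (l.map g) v := by
  induction l generalizing v with
  | nil => simp [psi]
  | cons x l ih =>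
    simp only [List.map_cons, psi, ih (fun y hy => e y (List.mem_cons_of_mem _ hy)), e x List.mem_cons_self]
    split_ifs
    · rw [mul_mul_mul_comm]
    · simp only [one_mul]

end Psi

section Card

variable {A : Type*} [CommGroup A]

theorem card_sup_le [Finite A] (H J : Subgroup A) : Nat.card ↥(H ⊔ J) ≤ Nat.card H * Nat.card J := by
  have h1 : ((H ⊔ J : Subgroup A) : Set A) = (H : Set A) * (J : Set A) := (Subgroup.mul_normal H J)
  have h2 := Set.natCard_mul_le (s := (H : Set A)) (t := (J : Set A))
  rw [← h1] at h2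
  exact h2

variable {K : Type*} [AddGroup K] [Finite K] (F : ℕ → Multiplicative K →* A) (g : List ℕ)

/-- the row of the elements with parameter `t` -/
def row (t : Multiplicative K) : List A := g.map fun s => F s t

/-- the one parameter subgroup of a bit vector -/
def par (b : ℕ) : Multiplicative K →* A where
  toFun t := psi (row F g t) b
  map_one' := by
    have h1 : ∀ l : List ℕ, ∀ v, psi (l.map fun s => F s (1 : Multiplicative K)) v = 1 := by
      intro l
      induction l with
      | nil => intro v; rfl
      | cons x l ih =>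
        intro v
        rw [List.map_cons, psi, ih, map_one, ite_self, one_mul]
    exact h1 g b
  map_mul' t u := psi_map_mul (f := fun s => F s t) (g := fun s => F s u) g (fun s _ => map_mul (F s) t u) b

/-- the subgroup of a list of bit vectors -/
def SB : List ℕ → Subgroup A
  | [] => ⊥
  | b :: bs => (par F g b).range ⊔ SB bs

theorem card_SB [Finite A] (bs : List ℕ) : Nat.card ↥(SB F g bs) ≤ Nat.card K ^ bs.length := by
  induction bs with
  | nil => simp [SB]
  | cons b bs ih =>
    rw [SB, List.length_cons, pow_succ, mul_comm]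
    refine (card_sup_le _ _).trans (Nat.mul_le_mul ?_ ih)
    exact (Nat.card_le_card_of_surjective _ (MonoidHom.rangeRestrict_surjective (par F g b)))

theorem par_le_SB {b : ℕ} {bs : List ℕ} (hb : b ∈ bs) : (par F g b).range ≤ SB F g bs := by
  induction bs with
  | nil => exact absurd hb List.not_mem_nil
  | cons c bs ih =>
    rcases List.mem_cons.1 hb with rfl | hb
    · exact le_sup_left
    · exact (ih hb).trans le_sup_right

/-- the certificate: the vectors `M w + w + B u` are the unit vectors -/
def cert (M bs : List ℕ) (wu : List (ℕ × ℕ)) : List ℕ := wu.map fun c => app M c.1 ^^^ (c.1 ^^^ app bs c.2)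

/-- **the kernel of `α - 1` is small** -/
theorem card_ker_le [Finite A] {α θ : A →* A} (hθ : ∀ v, θ v = α v * v⁻¹) (h2 : ∀ s ∈ g, ∀ t, F s t * F s t = 1)
    {M bs : List ℕ} {wu : List (ℕ × ℕ)} (hrep : ∀ t, Rep α (row F g t) M) (hc : cert M bs wu = idL g.length)
    (hgen : ∀ H : Subgroup A, (∀ s ∈ g, ∀ t, F s t ∈ H) → H = ⊤) : Nat.card θ.ker ≤ Nat.card K ^ bs.length := by
  have hrow : ∀ t, ∀ a ∈ row F g t, a * a = 1 := by
    intro t a ha
    obtain ⟨s, hs, rfl⟩ := List.mem_map.1 ha
    exact h2 s hs t
  have htop : θ.range ⊔ SB F g bs = ⊤ := by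
    refine hgen _ fun s hs t => ?_
    have h1 := forall₂_idL (row F g t)
    have hlen : (row F g t).length = g.length := by unfold row; rw [List.length_map]
    rw [hlen, ← hc] at h1
    have h3 : F s t ∈ row F g t := List.mem_map.2 ⟨s, hs, rfl⟩
    obtain ⟨i, hi, e⟩ := List.getElem_of_mem h3
    have hi' : i < (cert M bs wu).length := by rw [← h1.length_eq]; exact hi
    have e1 := h1.get hi hi'
    simp only [List.get_eq_getElem] at e1
    rw [e] at e1
    rw [e1]
    unfold cert
    rw [List.getElem_map]
    set c := wu[i]'(by simpa [cert] using hi') with hcdef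
    rw [psi_xor (hrow t), psi_xor (hrow t), ← mul_assoc]
    refine mul_mem (Subgroup.mem_sup_left ?_) (Subgroup.mem_sup_right ?_)
    · refine ⟨psi (row F g t) c.1, ?_⟩
      rw [hθ, (hrep t).psi (hrow t)]
      congr 1
      rw [inv_eq_iff_mul_eq_one]
      exact psi_sq (hrow t) _
    · refine psi_app_mem (hrow t) (fun b hb => ?_) _
      exact par_le_SB F g hb ⟨t, rfl⟩
  have h4 : Nat.card A = Nat.card θ.ker * Nat.card θ.range := by
    rw [← Subgroup.index_ker]
    exact (Subgroup.card_mul_index θ.ker).symm
  have h5 : Nat.card A ≤ Nat.card θ.range * Nat.card K ^ bs.length := by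
    calc Nat.card A = Nat.card ↥(θ.range ⊔ SB F g bs) := by rw [htop, Subgroup.card_top]
      _ ≤ Nat.card θ.range * Nat.card ↥(SB F g bs) := card_sup_le _ _
      _ ≤ _ := Nat.mul_le_mul_left _ (card_SB F g bs)
  rw [h4, mul_comm] at h5
  exact Nat.le_of_mul_le_mul_left h5 Nat.card_pos

end Card

end Cfsg.Agent.H441.FPR.Bit
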