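import Cfsg.Agent.H441.FPR.ETab
import Cfsg.Agent.H956.FreeElt

/-!
# Elements of `SL_n(K)` acting without fixed vectors; the rows for the tables
-/

set_option autoImplicit false

namespace Cfsg.Agent.H441.FPR

open Cfsg.Lie Cfsg.Agent.ChevalleyStructure Cfsg.Agent.ChevalleyStructure.Elts Cfsg.Agent.H79.SimpleGen Matrix
open Cfsg.Agent.TitsThree.KExcRT Cfsg.Agent.ChevalleyStructure.RootVec Cfsg.Agent.Nodes.RGDChev
open Cfsg.Agent.H398.FPR Cfsg.Agent.H162.GaussExcMain Cfsg.Agent.KFacts.RgdChevCoord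

universe u

variable {K : Type u} [Field K]

/-- fixed vectors and determinants -/
theorem free_of_det {n : ℕ} {A : Matrix (Fin n) (Fin n) K} (h : (A - 1).det ≠ 0) :
    ∀ v : Fin n → K, A.mulVec v = v → v = 0 := by
  intro v hv
  by_contra hne
  apply h
  rw [← Matrix.exists_mulVec_eq_zero_iff]
  exact ⟨v, hne, by rw [Matrix.sub_mulVec, Matrix.one_mulVec, hv, sub_self]⟩

/-- block sums -/
theorem exists_block (m : ℕ) {B : Matrix (Fin 2) (Fin 2) K} (hdet : B.det = 1) {k : ℕ} (hk : B ^ k = 1) {s : ℕ}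
    (hs : (B ^ s - 1).det ≠ 0) : ∃ A : SpecialLinearGroup (Fin (2 * m)) K, A ^ k = 1 ∧
      ∀ v : Fin (2 * m) → K, ((A ^ s : SpecialLinearGroup (Fin (2 * m)) K) : Matrix _ _ K).mulVec v = v → v = 0 := by
  let f : Matrix (Fin 2 × Fin m) (Fin 2 × Fin m) K ≃ₐ[K] Matrix (Fin (2 * m)) (Fin (2 * m)) K :=
    Matrix.reindexAlgEquiv K K finProdFinEquiv
  have hf : ∀ M, (f M).det = M.det := fun M => Matrix.det_reindexAlgEquiv K K finProdFinEquiv M
  let A0 : Matrix (Fin 2 × Fin m) (Fin 2 × Fin m) K := Matrix.blockDiagonal fun _ => B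
  have hA0 : (f A0).det = 1 := by
    rw [hf, Matrix.det_blockDiagonal]
    simp [hdet]
  have hpow : ∀ i : ℕ, A0 ^ i = Matrix.blockDiagonal fun _ : Fin m => B ^ i := by
    intro i
    exact (Matrix.blockDiagonal_pow (fun _ : Fin m => B) i).symm
  refine ⟨⟨f A0, hA0⟩, ?_, ?_⟩
  · apply Subtype.ext
    change (f A0) ^ k = 1
    rw [← map_pow, hpow, hk]
    have h1 : (Matrix.blockDiagonal fun _ : Fin m => (1 : Matrix (Fin 2) (Fin 2) K)) = 1 :=
      Matrix.blockDiagonal_one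
    rw [h1, map_one]
  · apply free_of_det
    change ((f A0) ^ s - 1).det ≠ 0
    rw [← map_pow, ← map_one f, ← map_sub, hf, hpow]
    have h1 : (Matrix.blockDiagonal fun _ : Fin m => (1 : Matrix (Fin 2) (Fin 2) K)) = 1 :=
      Matrix.blockDiagonal_one
    rw [← h1, ← Matrix.blockDiagonal_sub, Matrix.det_blockDiagonal]
    simp only [Pi.sub_apply, Finset.prod_const, Finset.card_univ, Fintype.card_fin]
    exact pow_ne_zero _ hs

/-- the case `p = 2` -/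
theorem exists_two (m : ℕ) (h2 : (2 : K) ≠ 0) : ∃ A : SpecialLinearGroup (Fin (2 * m)) K, A ^ 2 ^ 2 = 1 ∧
      ∀ v : Fin (2 * m) → K, ((A ^ 2 ^ 1 : SpecialLinearGroup (Fin (2 * m)) K) : Matrix _ _ K).mulVec v = v →
        v = 0 := by
  have hB : (!![0, 1; -1, 0] : Matrix (Fin 2) (Fin 2) K) ^ 2 = -1 := by
    rw [pow_two]
    ext i j
    fin_cases i <;> fin_cases j <;> simp [Matrix.mul_apply, Fin.sum_univ_two]
  apply exists_block m (B := !![0, 1; -1, 0])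
  · simp [Matrix.det_fin_two]
  · rw [show (2 ^ 2 : ℕ) = 2 * 2 from rfl, pow_mul, hB]
    simp
  · rw [pow_one, hB]
    have h3 : (-1 - 1 : Matrix (Fin 2) (Fin 2) K) = (-2 : K) • 1 := by
      ext i j
      fin_cases i <;> fin_cases j <;> simp <;> norm_num
    rw [h3, Matrix.det_smul]
    simp [h2]

/-- the case of a `p`-th root of unity -/
theorem exists_diag (m : ℕ) {p : ℕ} {ζ : K} (h1 : ζ ≠ 1) (hp : ζ ^ p = 1) (hp0 : p ≠ 0) :
    ∃ A : SpecialLinearGroup (Fin (2 * m)) K, A ^ p ^ 1 = 1 ∧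
      ∀ v : Fin (2 * m) → K, ((A ^ p ^ 0 : SpecialLinearGroup (Fin (2 * m)) K) : Matrix _ _ K).mulVec v = v →
        v = 0 := by
  have hζ : ζ ≠ 0 := by
    rintro rfl
    rw [zero_pow hp0] at hp
    exact zero_ne_one hp
  have hpow : ∀ i : ℕ, (!![ζ, 0; 0, ζ⁻¹] : Matrix (Fin 2) (Fin 2) K) ^ i = !![ζ ^ i, 0; 0, ζ⁻¹ ^ i] := by
    intro i
    have h3 : (!![ζ, 0; 0, ζ⁻¹] : Matrix (Fin 2) (Fin 2) K) = Matrix.diagonal ![ζ, ζ⁻¹] := by
      ext i j
      fin_cases i <;> fin_cases j <;> simp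
    rw [h3, Matrix.diagonal_pow]
    ext i j
    fin_cases i <;> fin_cases j <;> simp
  apply exists_block m (B := !![ζ, 0; 0, ζ⁻¹])
  · simp [Matrix.det_fin_two, hζ]
  · rw [hpow, pow_one, inv_pow, hp, inv_one]
    ext i j
    fin_cases i <;> fin_cases j <;> simp
  · rw [pow_zero, pow_one]
    rw [Matrix.det_fin_two]
    simp only [Matrix.sub_apply, Matrix.of_apply, Matrix.cons_val', Matrix.cons_val_zero, Matrix.cons_val_one,
      Matrix.one_apply_eq, Matrix.cons_val_fin_one, ne_eq]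
    have h4 : (1 : Matrix (Fin 2) (Fin 2) K) 0 1 = 0 := rfl
    have h5 : (1 : Matrix (Fin 2) (Fin 2) K) 1 0 = 0 := rfl
    rw [h4, h5, sub_zero, mul_zero, sub_zero]
    apply mul_ne_zero (sub_ne_zero.2 h1)
    rw [sub_ne_zero]
    intro h6
    exact h1 (by rw [← inv_inv ζ, h6, inv_one])

/-- **The rows of the tables.** -/
theorem TabOK.tr [Finite K] {r0 : ℕ} [Fact r0.Prime] [CharP K r0] {D : ChevalleyDatum} {l : ℕ} {M : CoxeterMatrix (Fin l)} (hp : IsType D l M)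
    {n m : ℕ} {r : Fin (n + 3) → Fin (n + 3) → ℕ} {g : Fin m → Fin (n + 3) → ℕ} {steps : List (ℕ × ℕ)}
    (T : TabOK D r g steps) {p j k : ℕ} (hj : p = 2 → 1 ≤ j)
    {A : SpecialLinearGroup (Fin (n + 3)) K} (hAp : A ^ p ^ k = 1)
    (hA : ∀ v : Fin (n + 3) → K,
      ((A ^ p ^ j : SpecialLinearGroup (Fin (n + 3)) K) : Matrix _ _ K).mulVec v = v → v = 0) :
    TR r0 p ↥(D.group K) := by
  obtain ⟨φ, hφ⟩ := exists_hom_D hp (K := K) (ε := 1) (by norm_num) T.ra T.rb T.rc T.rn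
  have hφ' : ∀ a b (hab : a ≠ b) c, φ (SpecialLinearGroup.transvection hab c) =
      xS hp.inList (r a b) (((1 : ℤ) : K) * c) := by
    intro a b hab c
    rw [hφ]
    apply Subtype.ext
    rw [coe_xc hp (T.ra a b hab)]
    rfl
  exact T.crit.tr hp.inList hφ' hj hAp hA

/-- a prime dividing `|K|` is the characteristic -/
theorem cast_eq_zero_of_dvd [Fintype K] {p : ℕ} (hp : p.Prime) (h : p ∣ Fintype.card K) : (p : K) = 0 := by
  obtain ⟨p', hp'⟩ := CharP.exists K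
  obtain ⟨n, hn1, hn2⟩ := FiniteField.card K p'
  rw [hn2] at h
  have h1 := (Nat.prime_dvd_prime_iff_eq hp hn1).1 (hp.dvd_of_dvd_pow h)
  rw [h1]
  exact CharP.cast_eq_zero K p'

/-- the order of `q` modulo `2` -/
theorem ne_two_of_ord [Fintype K] {p : ℕ} (hp' : p.Prime) (hpK : (p : K) ≠ 0)
    (h1 : orderOf (Fintype.card K : ZMod p) ≠ 1) : p ≠ 2 := by
  rintro rfl
  apply h1
  rw [orderOf_eq_one_iff]
  have h3 : (Fintype.card K : ZMod 2) ≠ 0 := by
    intro h4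
    rw [ZMod.natCast_eq_zero_iff] at h4
    exact hpK (cast_eq_zero_of_dvd Nat.prime_two h4)
  generalize (Fintype.card K : ZMod 2) = z at h3 ⊢
  revert z
  decide

/-- the case of a nontrivial order of `q` modulo `p` dividing `n` -/
theorem TabOK.tr_ord [Fintype K] {r0 : ℕ} [Fact r0.Prime] [CharP K r0] {D : ChevalleyDatum} {l : ℕ} {M : CoxeterMatrix (Fin l)} (hp : IsType D l M)
    {n m : ℕ} {r : Fin (n + 3) → Fin (n + 3) → ℕ} {g : Fin m → Fin (n + 3) → ℕ} {steps : List (ℕ × ℕ)}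
    (T : TabOK D r g steps) {p : ℕ} (hp' : p.Prime) (hpK : (p : K) ≠ 0)
    (h1 : orderOf (Fintype.card K : ZMod p) ≠ 1) (hn : orderOf (Fintype.card K : ZMod p) ∣ n + 3) :
    TR r0 p ↥(D.group K) := by
  have : Fact p.Prime := ⟨hp'⟩
  obtain ⟨x, hx1, hx2, hx3⟩ := Cfsg.Agent.H956.FreeElt.exists_free (F := K) rfl hpK h1 hn
  obtain ⟨A, hA⟩ : ∃ A : SpecialLinearGroup (Fin (n + 3)) K,
      (A : Matrix (Fin (n + 3)) (Fin (n + 3)) K) = x := ⟨⟨x, hx1⟩, rfl⟩
  refine T.tr hp (j := 0) (k := 1) (fun h => absurd h (ne_two_of_ord hp' hpK h1))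
    (A := A) ?_ ?_
  · apply Subtype.ext
    rw [pow_one]
    change (A : Matrix (Fin (n + 3)) (Fin (n + 3)) K) ^ p = 1
    rw [hA]
    exact congrArg Units.val hx2
  · intro v hv
    rw [pow_zero, pow_one, hA] at hv
    exact hx3 v hv

/-- the case `p = 2` -/
theorem TabOK.tr_two [Fintype K] {r0 : ℕ} [Fact r0.Prime] [CharP K r0] {D : ChevalleyDatum} {l : ℕ} {M : CoxeterMatrix (Fin l)} (hp : IsType D l M)
    {n m : ℕ} {r : Fin (2 * (n + 2)) → Fin (2 * (n + 2)) → ℕ} {g : Fin m → Fin (2 * (n + 2)) → ℕ}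
    {steps : List (ℕ × ℕ)} (T : TabOK D r g steps) (hpK : (2 : K) ≠ 0) : TR r0 2 ↥(D.group K) := by
  obtain ⟨A, hA1, hA2⟩ := exists_two (K := K) (n + 2) hpK
  exact TabOK.tr (n := 2 * n + 1) hp T (p := 2) (j := 1) (k := 2) (fun _ => le_rfl) hA1 hA2

/-- the case of an odd prime dividing `q - 1` -/
theorem TabOK.tr_one [Fintype K] {r0 : ℕ} [Fact r0.Prime] [CharP K r0] {D : ChevalleyDatum} {l : ℕ} {M : CoxeterMatrix (Fin l)} (hp : IsType D l M)
    {n m : ℕ} {r : Fin (2 * (n + 2)) → Fin (2 * (n + 2)) → ℕ} {g : Fin m → Fin (2 * (n + 2)) → ℕ}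
    {steps : List (ℕ × ℕ)} (T : TabOK D r g steps) {p : ℕ} (hp' : p.Prime) (hp2 : p ≠ 2)
    (h1 : p ∣ Fintype.card K - 1) : TR r0 p ↥(D.group K) := by
  classical
  have : Fact p.Prime := ⟨hp'⟩
  have h2 : p ∣ Fintype.card Kˣ := by rwa [Fintype.card_units]
  obtain ⟨t, ht⟩ := exists_prime_orderOf_dvd_card p h2
  obtain ⟨A, hA1, hA2⟩ := exists_diag (K := K) (n + 2) (p := p) (ζ := (t : K))
    (fun h => hp'.ne_one (by rw [← ht, orderOf_eq_one_iff]; exact Units.ext h))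
    (by rw [← Units.val_pow_eq_pow_val, ← ht, pow_orderOf_eq_one, Units.val_one]) hp'.ne_zero
  exact TabOK.tr (n := 2 * n + 1) hp T (p := p) (j := 0) (k := 1) (fun h => absurd h hp2) hA1 hA2

end Cfsg.Agent.H441.FPR
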