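import Cfsg.Agent.H441.FPR.NC

/-!
# The criterion with normal closures
-/

set_option autoImplicit false

namespace Cfsg.Agent.H441.FPR

open Cfsg.Lie Cfsg.Agent.ChevalleyStructure Cfsg.Agent.ChevalleyStructure.Elts Cfsg.Agent.H79.SimpleGen Matrix
open Cfsg.Agent.H398.FPR Cfsg.Agent.TitsThree.KExcRT Cfsg.Agent.ChevalleyStructure.RootVec Cfsg.Agent.Nodes.RGDChev
open Cfsg.Agent.H162.GaussExcMain Cfsg.Agent.KFacts.RgdChevCoord

universe u

variable {K : Type u} [Field K] {D : ChevalleyDatum} (hD : InList D)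

/-- the starting list of roots -/
def S0 (D : ChevalleyDatum) {n m : ℕ} (g : Fin m → Fin n → ℕ) (supp : Fin n → Bool) : List ℕ :=
  (List.finRange m).flatMap fun i => ((List.finRange n).filter supp).flatMap fun a => [g i a, D.neg (g i a)]

/-- the roots of `SL_n` -/
def LL {n : ℕ} (r : Fin n → Fin n → ℕ) : List ℕ :=
  (List.finRange n).flatMap fun a => ((List.finRange n).filter fun b => a ≠ b).map fun b => r a b

theorem mem_LL {n : ℕ} {r : Fin n → Fin n → ℕ} {k : ℕ} : k ∈ LL r ↔ ∃ a b, a ≠ b ∧ k = r a b := by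
  unfold LL
  simp only [List.mem_flatMap, List.mem_finRange, true_and, List.mem_map, List.mem_filter, decide_eq_true_eq]
  constructor
  · rintro ⟨a, b, h1, h2⟩
    exact ⟨a, b, h1, h2.symm⟩
  · rintro ⟨a, b, h1, h2⟩
    exact ⟨a, b, h1, h2.symm⟩

theorem mem_S0 {n m : ℕ} {g : Fin m → Fin n → ℕ} {supp : Fin n → Bool} {k : ℕ} (h : k ∈ S0 D g supp) :
    ∃ i a, supp a = true ∧ (k = g i a ∨ k = D.neg (g i a)) := by
  unfold S0 at h
  simp only [List.mem_flatMap, List.mem_finRange, true_and, List.mem_filter, List.mem_cons, List.not_mem_nil,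
    or_false] at h
  obtain ⟨i, a, h1, h2⟩ := h
  exact ⟨i, a, h1, h2⟩

/-- the table check; `g` : natural modules, `h` : dual modules -/
structure CB (D : ChevalleyDatum) {n m m' : ℕ} (r : Fin n → Fin n → ℕ) (ε : ℤ) (g : Fin m → Fin n → ℕ)
    (u u' : Fin m → Fin n → ℤ) (h : Fin m' → Fin n → ℕ) (v v' : Fin m' → Fin n → ℤ)
    (Γ : List ℕ) (supp : Fin n → Bool) (Lg : List ℕ) (stg st0 st1 : List (ℕ × ℕ)) : Prop where
  rlt : ∀ a b, a ≠ b → r a b < D.nroots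
  nat : ∀ i, NatOK D r ε (g i) (u i)
  dual : ∀ i, NatOK D (fun a b => r b a) (-ε) (fun a => D.neg (g i a)) (u' i)
  nat' : ∀ i, NatOK D (fun a b => r b a) (-ε) (h i) (v i)
  dual' : ∀ i, NatOK D r ε (fun a => D.neg (h i a)) (v' i)
  gmem : ∀ i a, g i a ∈ Γ
  hmem : ∀ i a, h i a ∈ Γ
  pos : ∀ k ∈ Γ, D.IsPosRoot k ∧ D.IsNegRoot (D.neg k)
  inv : ∀ k ∈ Lg, Inv D Γ k
  inv' : ∀ k ∈ Lg, Inv D (Γ.map D.neg) k
  lg : ∀ a b, a ≠ b → r a b ∈ gal D [] [] Lg stg
  chain : ∀ a b, a ≠ b → r a b ∈ gal D [] [] (S0 D g supp ++ S0 D h supp) st0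
  gen : AllS D (gal D (LL r) (Γ ++ Γ.map D.neg) (gal D [] [] (S0 D g supp ++ S0 D h supp) st0) st1)

theorem natpart {n : ℕ} {r : Fin n → Fin n → ℕ} {ε : ℤ} {g : Fin n → ℕ} {u : Fin n → ℤ} (h : NatOK D r ε g u)
    (hr : ∀ a b, a ≠ b → r a b < D.nroots)
    {φ : SpecialLinearGroup (Fin n) K →* ↥(D.group K)}
    (hφ : ∀ a b (hab : a ≠ b) c, φ (SpecialLinearGroup.transvection hab c) = xS hD (r a b) ((ε : K) * c))
    {A : SpecialLinearGroup (Fin n) K} {a : Fin n}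
    (hA : ∀ t : K, ∃ w : Fin n → K, (A : Matrix (Fin n) (Fin n) K).mulVec w - w = Pi.single a t)
    {U : Subgroup ↥(D.group K)} (hU : ∀ a, ∀ t : K, xS hD (g a) t ∈ U) (t : K) :
    ∃ y ∈ U, φ A * y * (φ A)⁻¹ * y⁻¹ = xS hD (g a) t := by
  obtain ⟨w, hw⟩ := hA ((u a : K) * t)
  refine ⟨e hD h w, (QQ_le hD (h := h) hU) ((mem_QQ hD h).2 ⟨w, rfl⟩), ?_⟩
  rw [act hD h hr hφ, ← e_neg, ← e_add, ← sub_eq_add_neg, hw, e_single, ← mul_assoc, ← Int.cast_mul, (h.1 a).2,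
    Int.cast_one, one_mul]

/-- **The criterion.** -/
theorem CB.tr [Finite K] {r0 : ℕ} [Fact r0.Prime] [CharP K r0] {n m m' : ℕ} {r : Fin n → Fin n → ℕ} {ε : ℤ}
    {g : Fin m → Fin n → ℕ} {u u' : Fin m → Fin n → ℤ} {h : Fin m' → Fin n → ℕ} {v v' : Fin m' → Fin n → ℤ}
    {Γ : List ℕ} {supp : Fin n → Bool} {Lg : List ℕ}
    {stg st0 st1 : List (ℕ × ℕ)} (C : CB D r ε g u u' h v v' Γ supp Lg stg st0 st1) (hε : ε * ε = 1)
    {φ : SpecialLinearGroup (Fin n) K →* ↥(D.group K)}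
    (hφ : ∀ a b (hab : a ≠ b) c, φ (SpecialLinearGroup.transvection hab c) = xS hD (r a b) ((ε : K) * c))
    {p : ℕ} (hp : p.Prime) (hpr : p ≠ r0) (hp2 : p ≠ 2) {A : SpecialLinearGroup (Fin n) K} {k : ℕ}
    (hAp : A ^ p ^ k = 1)
    (hA : ∀ a, supp a = true → ∀ t : K, ∃ w : Fin n → K, (A : Matrix (Fin n) (Fin n) K).mulVec w - w = Pi.single a t)
    (hA' : ∀ a, supp a = true → ∀ t : K,
      ∃ w : Fin n → K, (itr n K A : Matrix (Fin n) (Fin n) K).mulVec w - w = Pi.single a t)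
    (hnc : ∀ N : Subgroup (SpecialLinearGroup (Fin n) K), N.Normal → A ∈ N → N = ⊤) :
    TR r0 p ↥(D.group K) := by
  have hfin : Finite ↥(D.group K) := inferInstance
  have hx : φ A ^ p ^ k = 1 := by rw [← map_pow, hAp, map_one]
  have hr0 : r0.Prime := Fact.out
  have hεK : (ε : K) * (ε : K) = 1 := by rw [← Int.cast_mul, hε, Int.cast_one]
  -- the dual homomorphism
  let φ' : SpecialLinearGroup (Fin n) K →* ↥(D.group K) := φ.comp (itr n K)
  have hφ' : ∀ a b (hab : a ≠ b) c, φ' (SpecialLinearGroup.transvection hab c) =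
      xS hD (r b a) (((-ε : ℤ) : K) * c) := by
    intro a b hab c
    change φ (itr n K _) = _
    rw [itr_transvection, hφ, Int.cast_neg]
    congr 1
    ring
  have hxA : φ A = φ' (itr n K A) := by
    change _ = φ (itr n K (itr n K A))
    rw [itr_itr]
  have hrlt := C.rlt
  have hr' : ∀ a b, a ≠ b → r b a < D.nroots := fun a b hab => hrlt b a hab.symm
  obtain ⟨U1, hU1⟩ : ∃ U1, U1 = UG hD K Γ := ⟨_, rfl⟩
  obtain ⟨U2, hU2⟩ : ∃ U2, U2 = UG hD K (Γ.map D.neg) := ⟨_, rfl⟩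
  have hc1 : ∀ z, ∀ y ∈ U1, φ z * y * (φ z)⁻¹ ∈ U1 := by
    intro z
    rw [hU1]
    exact conj_UG hD hφ C.inv C.lg z
  have hc2 : ∀ z, ∀ y ∈ U2, φ z * y * (φ z)⁻¹ ∈ U2 := by
    intro z
    rw [hU2]
    exact conj_UG hD hφ C.inv' C.lg z
  have hp1 : IsPGroup r0 U1 := by
    rw [hU1]
    exact UG_pos hD r0 fun k hk => (C.pos k hk).1
  have hp2' : IsPGroup r0 U2 := by
    rw [hU2]
    refine UG_neg hD r0 fun k hk => ?_
    obtain ⟨k', hk', rfl⟩ := List.mem_map.1 hk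
    exact (C.pos k' hk').2
  obtain ⟨P1, Q1⟩ := pair_comm hp hr0 hpr hx hp1 (hc1 A)
  obtain ⟨P2, Q2⟩ := pair_comm hp hr0 hpr hx hp2' (hc2 A)
  refine ⟨0, k, φ A, _, _, hx, fun h => absurd h hp2, P1, P2, Q1, Q2, ?_⟩
  obtain ⟨M, hM⟩ : ∃ M, M = Subgroup.closure (({φ A} ∪
    ((⁅U1, Subgroup.zpowers (φ A)⁆ : Subgroup ↥(D.group K)) : Set ↥(D.group K))) ∪
    ((⁅U2, Subgroup.zpowers (φ A)⁆ : Subgroup ↥(D.group K)) : Set ↥(D.group K))) := ⟨_, rfl⟩
  rw [← hM]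
  have hM1 : ∀ y ∈ U1, φ A * y * (φ A)⁻¹ * y⁻¹ ∈ M := by
    intro y hy
    rw [hM]
    exact Subgroup.subset_closure (Or.inl (Or.inr (mem_comm_zpowers hy)))
  have hM2 : ∀ y ∈ U2, φ A * y * (φ A)⁻¹ * y⁻¹ ∈ M := by
    intro y hy
    rw [hM]
    exact Subgroup.subset_closure (Or.inr (mem_comm_zpowers hy))
  have hS0 : ∀ k ∈ S0 D g supp ++ S0 D h supp, ∀ t : K, xS hD k t ∈ M := by
    intro k hk t
    rcases List.mem_append.1 hk with hk | hk
    all_goals obtain ⟨i, a, ha, rfl | rfl⟩ := mem_S0 hk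
    · obtain ⟨y, hy, hyt⟩ := natpart hD (C.nat i) hrlt hφ (hA a ha) (U := U1)
        (fun b t => by rw [hU1]; exact xS_mem_UG hD (C.gmem i b) t) t
      rw [← hyt]
      exact hM1 y hy
    · obtain ⟨y, hy, hyt⟩ := natpart hD (C.dual i) hr' hφ' (hA' a ha) (U := U2)
        (fun b t => by rw [hU2]; exact xS_mem_UG hD (List.mem_map_of_mem (C.gmem i b)) t) t
      rw [← hyt, ← hxA]
      exact hM2 y hy
    · obtain ⟨y, hy, hyt⟩ := natpart hD (C.nat' i) hr' hφ' (hA' a ha) (U := U1)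
        (fun b t => by rw [hU1]; exact xS_mem_UG hD (C.hmem i b) t) t
      rw [← hyt, ← hxA]
      exact hM1 y hy
    · obtain ⟨y, hy, hyt⟩ := natpart hD (C.dual' i) hrlt hφ (hA a ha) (U := U2)
        (fun b t => by rw [hU2]; exact xS_mem_UG hD (List.mem_map_of_mem (C.hmem i b)) t) t
      rw [← hyt]
      exact hM2 y hy
  have hS1 := gal_sound hD (M := M) (L := []) (Γ := []) (fun r hr => absurd hr List.not_mem_nil) st0 hS0
  have hφM : ∀ z, φ z ∈ M := by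
    intro z
    have h1 : (⊤ : Subgroup (SpecialLinearGroup (Fin n) K)) ≤ M.comap φ := by
      rw [← Cfsg.Agent.LieClassical.SLGen.closure_transvections, Subgroup.closure_le]
      rintro _ ⟨a, b, hab, c, rfl⟩
      change φ _ ∈ M
      rw [hφ]
      exact hS1 _ (C.chain a b hab) _
    exact h1 (Subgroup.mem_top z)
  have hn1 := nc_mem hc1 hφM hM1 hnc
  have hn2 := nc_mem hc2 hφM hM2 hnc
  have hL : ∀ r' ∈ LL r, ∀ s ∈ Γ ++ Γ.map D.neg, ∀ t u : K,
      xS hD s u * xS hD r' t * (xS hD s u)⁻¹ * (xS hD r' t)⁻¹ ∈ M := by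
    intro r' hr'' s hs t v
    obtain ⟨a, b, hab, rfl⟩ := mem_LL.1 hr''
    have h1 : xS hD (r a b) t = φ (SpecialLinearGroup.transvection hab ((ε : K) * t)) := by
      rw [hφ, ← mul_assoc, hεK, one_mul]
    have h2 : xS hD s v * xS hD (r a b) t * (xS hD s v)⁻¹ * (xS hD (r a b) t)⁻¹ =
        (xS hD (r a b) t * xS hD s v * (xS hD (r a b) t)⁻¹ * (xS hD s v)⁻¹)⁻¹ := by group
    rw [h2, h1]
    apply inv_mem
    rcases List.mem_append.1 hs with hs | hs
    · exact hn1 _ _ (by rw [hU1]; exact xS_mem_UG hD hs v)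
    · exact hn2 _ _ (by rw [hU2]; exact xS_mem_UG hD hs v)
  have hfinal := gal_sound hD (M := M) hL st1 hS1
  exact eq_top_of_simple hD M (fun i hi => hfinal _ (C.gen i hi).1) (fun i hi => hfinal _ (C.gen i hi).2)

/-! ### Normal closures in `SL_n(K)` -/

/-- a normal subgroup containing a nonscalar element is everything -/
theorem nc_top {n : ℕ} (hn : 3 ≤ n) {A : SpecialLinearGroup (Fin n) K}
    (hA : A ∉ Subgroup.center (SpecialLinearGroup (Fin n) K)) :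
    ∀ N : Subgroup (SpecialLinearGroup (Fin n) K), N.Normal → A ∈ N → N = ⊤ := by
  intro N hN hAN
  have h3 : 3 ≤ Fintype.card (Fin n) := by rwa [Fintype.card_fin]
  rcases Cfsg.Agent.S2540.normal_dichotomy (Cfsg.Agent.LieClassical.SLGen.commutator_eq_top h3)
    (Cfsg.Agent.LieClassical.SLGen.psl_isSimpleGroup h3) N with h | h
  · exact absurd (h hAN) hA
  · exact h

/-- an element of order `p` without fixed vectors is not scalar if `p` does not divide `q - 1` -/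
theorem not_center_of_free [Fintype K] {n : ℕ} [NeZero n] {p k : ℕ} (hp : p.Prime) (hpq : ¬ p ∣ Fintype.card K - 1)
    {A : SpecialLinearGroup (Fin n) K} (hAp : A ^ p ^ k = 1)
    (hA : ∀ v : Fin n → K, (A : Matrix (Fin n) (Fin n) K).mulVec v = v → v = 0) :
    A ∉ Subgroup.center (SpecialLinearGroup (Fin n) K) := by
  intro h
  obtain ⟨c, -, hc⟩ := Matrix.SpecialLinearGroup.mem_center_iff.1 h
  have h1 : c ^ p ^ k = 1 := by
    have h2 : (A : Matrix (Fin n) (Fin n) K) ^ p ^ k = 1 := congrArg Subtype.val hAp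
    rw [← hc, ← map_pow] at h2
    have h3 := congrFun (congrFun h2 0) 0
    rwa [Matrix.scalar_apply, Matrix.diagonal_apply_eq, Matrix.one_apply_eq] at h3
  have hc0 : c ≠ 0 := by
    rintro rfl
    rw [zero_pow (pow_ne_zero _ hp.ne_zero)] at h1
    exact zero_ne_one h1
  have h2 : c ^ (Fintype.card K - 1) = 1 := FiniteField.pow_card_sub_one_eq_one c hc0
  have h3 : (p ^ k).Coprime (Fintype.card K - 1) := ((Nat.Prime.coprime_iff_not_dvd hp).2 hpq).pow_left k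
  have h4 : c = 1 := by
    have h5 : orderOf c ∣ Nat.gcd (p ^ k) (Fintype.card K - 1) :=
      Nat.dvd_gcd (orderOf_dvd_of_pow_eq_one h1) (orderOf_dvd_of_pow_eq_one h2)
    rw [h3, Nat.dvd_one, orderOf_eq_one_iff] at h5
    exact h5
  have h5 : (A : Matrix (Fin n) (Fin n) K) = 1 := by
    rw [← hc, h4, map_one]
  have h6 := hA (Pi.single 0 1) (by rw [h5, Matrix.one_mulVec])
  have h7 := congrFun h6 0
  rw [Pi.single_eq_same] at h7
  exact one_ne_zero h7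

end Cfsg.Agent.H441.FPR
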