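import Cfsg.Agent.H441.FPR.Mod
import Cfsg.Agent.H398.FPR.Tools
import Cfsg.Agent.S1027
import Cfsg.Agent.H435.Fpr.Sharp
import Cfsg.Agent.H409.FprBasic
import Cfsg.Agent.S1053

/-!
# The criterion for fixed point ratios from natural modules
-/

set_option autoImplicit false

namespace Cfsg.Agent.H441.FPR

open Cfsg.Lie Cfsg.Agent.ChevalleyStructure Cfsg.Agent.ChevalleyStructure.Elts Cfsg.Agent.H79.SimpleGen Matrix
open Cfsg.Agent.H398.FPR

universe u

variable {K : Type u} [Field K] {D : ChevalleyDatum} (hD : InList D)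

/-! ### Pairs from families -/

theorem mem_norm_of_conj {G : Type*} [Group G] {R : Subgroup G} [Finite R] {x : G}
    (h : ∀ y ∈ R, x * y * x⁻¹ ∈ R) : x ∈ Subgroup.normalizer (R : Set G) := by
  let f : R → R := fun y => ⟨x * y * x⁻¹, h y y.2⟩
  have hf : Function.Injective f := by
    intro a b hab
    have h1 : x * a * x⁻¹ = x * b * x⁻¹ := congrArg Subtype.val hab
    exact Subtype.ext (mul_left_cancel (mul_right_cancel h1))
  rw [Subgroup.mem_normalizer_iff]
  intro y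
  refine ⟨h y, fun hy => ?_⟩
  obtain ⟨z, hz⟩ := (Finite.injective_iff_surjective.1 hf) ⟨_, hy⟩
  have h1 : x * z * x⁻¹ = x * y * x⁻¹ := congrArg Subtype.val hz
  have h2 : (z : G) = y := mul_left_cancel (mul_right_cancel h1)
  rw [← h2]
  exact z.2

theorem conj_mem_iSup {G : Type*} [Group G] {ι : Sort*} {Q : ι → Subgroup G} {x : G}
    (hn : ∀ i, ∀ y ∈ Q i, x * y * x⁻¹ ∈ Q i) : ∀ y ∈ ⨆ i, Q i, x * y * x⁻¹ ∈ ⨆ i, Q i := by
  intro y hy
  have h1 : (⨆ i, Q i) ≤ (⨆ i, Q i).comap (MulAut.conj x).toMonoidHom := by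
    refine iSup_le fun i z hz => ?_
    exact (le_iSup Q i) (hn i z hz)
  exact h1 hy

theorem conj_pow_mem {G : Type*} [Group G] {Q : Subgroup G} {x : G}
    (hn : ∀ y ∈ Q, x * y * x⁻¹ ∈ Q) (m : ℕ) : ∀ y ∈ Q, x ^ m * y * (x ^ m)⁻¹ ∈ Q := by
  induction m with
  | zero => intro y hy; simpa using hy
  | succ m ih =>
    intro y hy
    have h1 := hn _ (ih y hy)
    have h2 : x * (x ^ m * y * (x ^ m)⁻¹) * x⁻¹ = x ^ (m + 1) * y * (x ^ (m + 1))⁻¹ := by
      rw [pow_succ']; group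
    rwa [h2] at h1

theorem pair_iSup {G : Type*} [Group G] [Finite G] {ι : Sort*} {Q : ι → Subgroup G} {x : G} {p j : ℕ}
    (hnilp : Group.IsNilpotent ↥(⨆ i, Q i)) (hn : ∀ i, ∀ y ∈ Q i, x * y * x⁻¹ ∈ Q i)
    (hfull : ∀ i, CommFull (Q i) (x ^ p ^ j)) : Pair p j x (⨆ i, Q i) where
  nilp := hnilp
  norm := mem_norm_of_conj (conj_mem_iSup hn)
  full := commFull_of_le_iSup (le_iSup Q) le_rfl (fun i => conj_pow_mem (hn i) _) hfull

/-! ### Two radicals -/

/-- two radicals -/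
def TR (r p : ℕ) (G : Type*) [Group G] : Prop :=
  ∃ (j k : ℕ) (x : G) (R1 R2 : Subgroup G), x ^ p ^ k = 1 ∧ (p = 2 → 1 ≤ j) ∧ Pair p j x R1 ∧ Pair p j x R2 ∧
    IsPGroup r R1 ∧ IsPGroup r R2 ∧ Subgroup.closure ({x} ∪ (R1 : Set G) ∪ R2) = ⊤

theorem TR.good {r p : ℕ} {G : Type*} [Group G] [Finite G] (hp : p.Prime) (h : TR r p G) :
    Good (p - 1) (2 * p - 1) p G := by
  obtain ⟨j, k, x, R1, R2, hx, hj, h1, h2, -, -, hgen⟩ := h
  exact T3_good hp hj hx h1 h2 hgen

/-- **The ratio of S3569.** -/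
theorem TR.row {r p : ℕ} {G : Type*} [Group G] [Finite G] (hp : p.Prime) (h : TR r p G) :
    Cfsg.Agent.H409.FprRow (2 * p - 1) (p - 1) p G := h.good hp

/-- **The ratio of S3578.** -/
theorem TR.row' {r p : ℕ} {G : Type*} [Group G] [Finite G] (hp : p.Prime) (hr : r.Prime)
    (hne : ∀ t : ℕ, r ^ t ≠ p + 1) (h : TR r p G) : Cfsg.Agent.H409.FprRow (p + 1) 1 p G := by
  obtain ⟨j, k, x, R1, R2, hx, hj, h1, h2, h3, h4, hgen⟩ := h
  rcases Nat.eq_zero_or_pos j with rfl | hj0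
  · exact Cfsg.Agent.H435.Fpr.T3_sharp_good hp hr hne hx h1 h2 h3 h4 hgen
  · exact T3_good' hp hj0 hx h1 h2 hgen

/-! ### Unipotent subgroups -/

theorem pgroup_of_map {G : Type*} [Group G] {B : Subgroup G} {r : ℕ} {R : Subgroup ↥B} {U : Subgroup G}
    (h : R.map B.subtype ≤ U) (hU : IsPGroup r U) : IsPGroup r R := by
  intro g
  obtain ⟨k, hk⟩ := hU ⟨g, h ⟨g, g.2, rfl⟩⟩
  refine ⟨k, ?_⟩
  have h1 : ((g : ↥B) : G) ^ r ^ k = 1 := congrArg Subtype.val hk
  apply Subtype.ext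
  apply Subtype.ext
  exact h1

theorem pgroup_pos [Finite K] (hD : InList D) (r : ℕ) [Fact r.Prime] [CharP K r] : IsPGroup r ↥(D.posUnipotent K) := by
  have : Fintype K := Fintype.ofFinite K
  obtain ⟨n, -, hn⟩ := FiniteField.card K r
  refine IsPGroup.of_card (n := n * (D.nroots / 2)) ?_
  rw [Cfsg.Agent.S1027.result D hD, hn, pow_mul]

theorem pgroup_neg [Finite K] (hD : InList D) (r : ℕ) [Fact r.Prime] [CharP K r] : IsPGroup r ↥(D.negUnipotent K) := by
  obtain ⟨m, -, hm⟩ := Cfsg.Agent.S1053.result (F := K) D hD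
  rw [← hm]
  exact (pgroup_pos hD r).map _

theorem xS_pos {r : ℕ} (hr : D.IsPosRoot r) (t : K) :
    ((xS hD r t : ↥(D.group K)) : GL D.Idx K) ∈ D.posUnipotent K := xG_mem_posUnipotent hD hr t

theorem xS_neg {r : ℕ} (hr : D.IsNegRoot r) (t : K) :
    ((xS hD r t : ↥(D.group K)) : GL D.Idx K) ∈ D.negUnipotent K := xG_mem_negUnipotent hD hr t

/-! ### Generation -/

/-- one step of the closure -/
def gstep (D : ChevalleyDatum) (S : List ℕ) (rs : ℕ × ℕ) : List ℕ :=
  if rs.1 ∈ S ∧ rs.2 ∈ S ∧ rs.1 < D.nroots ∧ rs.2 < D.nroots ∧ rs.2 ≠ rs.1 ∧ rs.2 ≠ D.neg rs.1 then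
    match D.commTerms rs.1 rs.2 with
    | [(k, N, 1, 1)] => if N * N = 1 then k :: S else S
    | _ => S
  else S

theorem gstep_sound {M : Subgroup ↥(D.group K)} {S : List ℕ} (hS : ∀ k ∈ S, ∀ t : K, xS hD k t ∈ M)
    (rs : ℕ × ℕ) : ∀ k ∈ gstep D S rs, ∀ t : K, xS hD k t ∈ M := by
  unfold gstep
  split_ifs with h
  · obtain ⟨h1, h2, h3, h4, h5, h6⟩ := h
    split
    · rename_i k N hk
      split_ifs with hN
      · intro k' hk' t
        rcases List.mem_cons.1 hk' with rfl | hk'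
        · exact step_mem hD h3 h4 h5 h6 hk hN (hS _ h1) (hS _ h2) t
        · exact hS _ hk' t
      · exact hS
    · exact hS
  · exact hS

/-- the closure along a list of steps -/
def gall (D : ChevalleyDatum) (S : List ℕ) (steps : List (ℕ × ℕ)) : List ℕ := steps.foldl (gstep D) S

theorem gall_sound {M : Subgroup ↥(D.group K)} (steps : List (ℕ × ℕ)) :
    ∀ {S : List ℕ}, (∀ k ∈ S, ∀ t : K, xS hD k t ∈ M) → ∀ k ∈ gall D S steps, ∀ t : K, xS hD k t ∈ M := by
  induction steps with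
  | nil => intro S hS; exact hS
  | cons a steps ih =>
    intro S hS
    unfold gall
    rw [List.foldl_cons]
    exact ih (gstep_sound hD hS a)

/-- all fundamental roots and their negatives are reached -/
def GenOK (D : ChevalleyDatum) (S : List ℕ) (steps : List (ℕ × ℕ)) : Prop :=
  ∀ i < D.rank, D.simple i ∈ gall D S steps ∧ D.neg (D.simple i) ∈ gall D S steps

instance (S : List ℕ) (steps : List (ℕ × ℕ)) : Decidable (GenOK D S steps) := by
  unfold GenOK; infer_instance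

theorem GenOK.top {S : List ℕ} {steps : List (ℕ × ℕ)} (h : GenOK D S steps) {M : Subgroup ↥(D.group K)}
    (hS : ∀ k ∈ S, ∀ t : K, xS hD k t ∈ M) : M = ⊤ :=
  eq_top_of_simple hD M (fun i hi => gall_sound hD steps hS _ (h i hi).1)
    (fun i hi => gall_sound hD steps hS _ (h i hi).2)

/-! ### The modules -/

section

variable {n : ℕ} {r : Fin n → Fin n → ℕ} {ε : ℤ} {g : Fin n → ℕ} {u : Fin n → ℤ}

/-- the module as a subgroup -/
noncomputable def QQ (h : NatOK D r ε g u) : Subgroup ↥(D.group K) := (ev hD h).range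

theorem mem_QQ (h : NatOK D r ε g u) {y : ↥(D.group K)} : y ∈ QQ hD h ↔ ∃ v : Fin n → K, e hD h v = y := by
  constructor
  · rintro ⟨v, rfl⟩
    exact ⟨fun i => (v i).toAdd, rfl⟩
  · rintro ⟨v, rfl⟩
    exact ⟨_, rfl⟩

theorem xS_mem_QQ (h : NatOK D r ε g u) (i : Fin n) (t : K) : xS hD (g i) t ∈ QQ hD h := by
  rw [mem_QQ]
  refine ⟨Pi.single i ((u i : K) * t), ?_⟩
  rw [e_single, ← mul_assoc, ← Int.cast_mul, (h.1 i).2, Int.cast_one, one_mul]

theorem QQ_le {h : NatOK D r ε g u} {M : Subgroup ↥(D.group K)} (hM : ∀ i, ∀ t : K, xS hD (g i) t ∈ M) :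
    QQ hD h ≤ M := by
  intro y hy
  obtain ⟨v, rfl⟩ := (mem_QQ hD h).1 hy
  refine vec_induction (P := fun v => e hD h v ∈ M) ?_ ?_ ?_ v
  · rw [e_zero]; exact one_mem _
  · intro v w hv hw
    rw [e_add]; exact mul_mem hv hw
  · intro i t
    rw [e_single]; exact hM _ _

theorem QQ_conj (h : NatOK D r ε g u) (hr : ∀ a b, a ≠ b → r a b < D.nroots)
    {φ : SpecialLinearGroup (Fin n) K →* ↥(D.group K)}
    (hφ : ∀ a b (hab : a ≠ b) c, φ (SpecialLinearGroup.transvection hab c) = xS hD (r a b) ((ε : K) * c))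
    (A : SpecialLinearGroup (Fin n) K) {y : ↥(D.group K)} (hy : y ∈ QQ hD h) : φ A * y * (φ A)⁻¹ ∈ QQ hD h := by
  obtain ⟨v, rfl⟩ := (mem_QQ hD h).1 hy
  rw [act hD h hr hφ]
  exact (mem_QQ hD h).2 ⟨_, rfl⟩

/-- a matrix without fixed vectors: `A - 1` is onto -/
theorem exists_sub {A : Matrix (Fin n) (Fin n) K} (hA : ∀ v : Fin n → K, A.mulVec v = v → v = 0)
    (w : Fin n → K) : ∃ v, A.mulVec v - v = w := by
  let f : (Fin n → K) →ₗ[K] (Fin n → K) := Matrix.toLin' A - LinearMap.id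
  have hf : Function.Injective f := by
    rw [← LinearMap.ker_eq_bot, LinearMap.ker_eq_bot']
    intro v hv
    apply hA
    have h1 : A.mulVec v - v = 0 := hv
    exact sub_eq_zero.1 h1
  obtain ⟨v, hv⟩ := (LinearMap.injective_iff_surjective.1 hf) w
  exact ⟨v, hv⟩

theorem QQ_full (h : NatOK D r ε g u) (hr : ∀ a b, a ≠ b → r a b < D.nroots)
    {φ : SpecialLinearGroup (Fin n) K →* ↥(D.group K)}
    (hφ : ∀ a b (hab : a ≠ b) c, φ (SpecialLinearGroup.transvection hab c) = xS hD (r a b) ((ε : K) * c))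
    {A : SpecialLinearGroup (Fin n) K}
    (hA : ∀ v : Fin n → K, (A : Matrix (Fin n) (Fin n) K).mulVec v = v → v = 0) : CommFull (QQ hD h) (φ A) := by
  apply commFull_of_surj
  intro q hq
  obtain ⟨w, rfl⟩ := (mem_QQ hD h).1 hq
  obtain ⟨v, hv⟩ := exists_sub hA w
  refine ⟨e hD h v, (mem_QQ hD h).2 ⟨v, rfl⟩, ?_⟩
  rw [act hD h hr hφ, ← e_neg, ← e_add, ← sub_eq_add_neg, hv]

end

/-! ### The inverse transpose -/

/-- inverse transpose -/
def itr (n : ℕ) (K : Type*) [Field K] : SpecialLinearGroup (Fin n) K →* SpecialLinearGroup (Fin n) K where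
  toFun A := (A⁻¹).transpose
  map_one' := by
    apply Subtype.ext
    rw [inv_one]
    exact Matrix.transpose_one
  map_mul' A B := by
    apply Subtype.ext
    rw [_root_.mul_inv_rev]
    exact Matrix.transpose_mul _ _

theorem itr_itr {n : ℕ} (A : SpecialLinearGroup (Fin n) K) : itr n K (itr n K A) = A := by
  have h1 : itr n K (itr n K A) * (itr n K A).transpose = 1 := by
    change ((itr n K A)⁻¹).transpose * (itr n K A).transpose = 1
    apply Subtype.ext
    change (((itr n K A)⁻¹ : SpecialLinearGroup (Fin n) K) : Matrix (Fin n) (Fin n) K)ᵀ *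
      ((itr n K A : SpecialLinearGroup (Fin n) K) : Matrix (Fin n) (Fin n) K)ᵀ = 1
    rw [← Matrix.transpose_mul]
    have h2 : ((itr n K A : SpecialLinearGroup (Fin n) K) : Matrix (Fin n) (Fin n) K) *
        (((itr n K A)⁻¹ : SpecialLinearGroup (Fin n) K) : Matrix (Fin n) (Fin n) K) = 1 :=
      congrArg Subtype.val (mul_inv_cancel (itr n K A))
    rw [h2, Matrix.transpose_one]
  have h3 : (itr n K A).transpose = A⁻¹ := by
    apply Subtype.ext
    exact Matrix.transpose_transpose _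
  rw [h3, mul_inv_eq_one] at h1
  exact h1

theorem itr_transvection {n : ℕ} {a b : Fin n} (hab : a ≠ b) (c : K) :
    itr n K (SpecialLinearGroup.transvection hab c) = SpecialLinearGroup.transvection hab.symm (-c) := by
  have h1 : (SpecialLinearGroup.transvection hab c)⁻¹ = SpecialLinearGroup.transvection hab (-c) := by
    rw [inv_eq_iff_mul_eq_one]
    apply Subtype.ext
    change Matrix.transvection a b c * Matrix.transvection a b (-c) = 1
    rw [Matrix.transvection_mul_transvection_same _ _ hab, add_neg_cancel, Matrix.transvection_zero]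
  change ((SpecialLinearGroup.transvection hab c)⁻¹).transpose = _
  rw [h1]
  apply Subtype.ext
  change (Matrix.transvection a b (-c))ᵀ = Matrix.transvection b a (-c)
  rw [Matrix.transvection, Matrix.transvection, Matrix.transpose_add, Matrix.transpose_one,
    Matrix.transpose_single]

theorem itr_free {n : ℕ} {A : SpecialLinearGroup (Fin n) K}
    (hA : ∀ v : Fin n → K, (A : Matrix (Fin n) (Fin n) K).mulVec v = v → v = 0) :
    ∀ v : Fin n → K, (itr n K A : Matrix (Fin n) (Fin n) K).mulVec v = v → v = 0 := by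
  intro v hv
  -- `Aᵀ v = v`
  have h1 : ((A : Matrix (Fin n) (Fin n) K)ᵀ).mulVec v = v := by
    conv_lhs => rw [← hv]
    rw [Matrix.mulVec_mulVec]
    have h2 : (A : Matrix (Fin n) (Fin n) K)ᵀ * (itr n K A : Matrix (Fin n) (Fin n) K) = 1 := by
      change (A : Matrix (Fin n) (Fin n) K)ᵀ *
        ((A⁻¹ : SpecialLinearGroup (Fin n) K) : Matrix (Fin n) (Fin n) K)ᵀ = 1
      rw [← Matrix.transpose_mul]
      have h3 : ((A⁻¹ : SpecialLinearGroup (Fin n) K) : Matrix (Fin n) (Fin n) K) *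
          (A : Matrix (Fin n) (Fin n) K) = 1 := congrArg Subtype.val (inv_mul_cancel A)
      rw [h3, Matrix.transpose_one]
    rw [h2, Matrix.one_mulVec]
  by_contra hne
  have h4 : (((A : Matrix (Fin n) (Fin n) K) - 1)ᵀ).det = 0 := by
    rw [← Matrix.exists_mulVec_eq_zero_iff]
    refine ⟨v, hne, ?_⟩
    rw [Matrix.transpose_sub, Matrix.transpose_one, Matrix.sub_mulVec, h1, Matrix.one_mulVec, sub_self]
  rw [Matrix.det_transpose, ← Matrix.exists_mulVec_eq_zero_iff] at h4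
  obtain ⟨w, hw, hw0⟩ := h4
  apply hw
  apply hA
  rw [Matrix.sub_mulVec, Matrix.one_mulVec, sub_eq_zero] at hw0
  exact hw0

/-! ### The criterion -/

/-- the table check for the criterion -/
structure CritOK (D : ChevalleyDatum) {n m : ℕ} (r : Fin n → Fin n → ℕ) (ε : ℤ) (g : Fin m → Fin n → ℕ)
    (u u' : Fin m → Fin n → ℤ) (steps : List (ℕ × ℕ)) : Prop where
  rlt : ∀ a b, a ≠ b → r a b < D.nroots
  nat : ∀ i, NatOK D r ε (g i) (u i)
  dual : ∀ i, NatOK D (fun a b => r b a) (-ε) (fun a => D.neg (g i a)) (u' i)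
  pos : ∀ i a, D.IsPosRoot (g i a) ∧ D.IsNegRoot (D.neg (g i a))
  gen : GenOK D (((List.finRange m).flatMap fun i => (List.finRange n).map fun a => g i a) ++
    ((List.finRange m).flatMap fun i => (List.finRange n).map fun a => D.neg (g i a))) steps

/-- **The criterion.** -/
theorem CritOK.tr [Finite K] {r0 : ℕ} [Fact r0.Prime] [CharP K r0] {n m : ℕ} {r : Fin n → Fin n → ℕ} {ε : ℤ}
    {g : Fin m → Fin n → ℕ}
    {u u' : Fin m → Fin n → ℤ} {steps : List (ℕ × ℕ)} (C : CritOK D r ε g u u' steps)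
    {φ : SpecialLinearGroup (Fin n) K →* ↥(D.group K)}
    (hφ : ∀ a b (hab : a ≠ b) c, φ (SpecialLinearGroup.transvection hab c) = xS hD (r a b) ((ε : K) * c))
    {p j : ℕ} (hj : p = 2 → 1 ≤ j) {A : SpecialLinearGroup (Fin n) K} {k : ℕ} (hAp : A ^ p ^ k = 1)
    (hA : ∀ v : Fin n → K, ((A ^ p ^ j : SpecialLinearGroup (Fin n) K) : Matrix (Fin n) (Fin n) K).mulVec v = v →
      v = 0) :
    TR r0 p ↥(D.group K) := by
  have hfin : Finite ↥(D.group K) := inferInstance
  have hx : φ A ^ p ^ k = 1 := by rw [← map_pow, hAp, map_one]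
  -- the dual homomorphism
  let φ' : SpecialLinearGroup (Fin n) K →* ↥(D.group K) := φ.comp (itr n K)
  have hφ' : ∀ a b (hab : a ≠ b) c, φ' (SpecialLinearGroup.transvection hab c) =
      xS hD (r b a) (((-ε : ℤ) : K) * c) := by
    intro a b hab c
    change φ (itr n K _) = _
    rw [itr_transvection, hφ, Int.cast_neg]
    congr 1
    ring
  have hxA : φ A = φ' (itr n K A) := by
    change _ = φ (itr n K (itr n K A))
    rw [itr_itr]
  have hxA' : φ A ^ p ^ j = φ' (itr n K (A ^ p ^ j)) := by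
    rw [hxA, map_pow, map_pow]
  have hr' : ∀ a b, a ≠ b → r b a < D.nroots := fun a b hab => C.rlt b a hab.symm
  obtain ⟨R1, hR1⟩ : ∃ R1 : Subgroup ↥(D.group K), R1 = ⨆ i, QQ hD (C.nat i) := ⟨_, rfl⟩
  obtain ⟨R2, hR2⟩ : ∃ R2 : Subgroup ↥(D.group K), R2 = ⨆ i, QQ hD (C.dual i) := ⟨_, rfl⟩
  have hn1 : ∀ i, ∀ y ∈ QQ (K := K) hD (C.nat i), φ A * y * (φ A)⁻¹ ∈ QQ hD (C.nat i) :=
    fun i y hy => QQ_conj hD (C.nat i) C.rlt hφ A hy
  have hn2 : ∀ i, ∀ y ∈ QQ (K := K) hD (C.dual i), φ A * y * (φ A)⁻¹ ∈ QQ hD (C.dual i) := by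
    intro i y hy
    rw [hxA]
    exact QQ_conj hD (C.dual i) hr' hφ' _ hy
  have hpg1 : IsPGroup r0 ↥(⨆ i, QQ (K := K) hD (C.nat i)) := by
    refine pgroup_of_map ?_ (pgroup_pos hD r0)
    rw [Subgroup.map_le_iff_le_comap]
    exact iSup_le fun i => QQ_le hD fun a t => xS_pos hD (C.pos i a).1 t
  have hpg2 : IsPGroup r0 ↥(⨆ i, QQ (K := K) hD (C.dual i)) := by
    refine pgroup_of_map ?_ (pgroup_neg hD r0)
    rw [Subgroup.map_le_iff_le_comap]
    exact iSup_le fun i => QQ_le hD fun a t => xS_neg hD (C.pos i a).2 t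
  have hP1 : Pair p j (φ A) R1 := by
    rw [hR1]
    refine pair_iSup hpg1.isNilpotent hn1 fun i => ?_
    rw [← map_pow]
    exact QQ_full hD (C.nat i) C.rlt hφ hA
  have hP2 : Pair p j (φ A) R2 := by
    rw [hR2]
    refine pair_iSup hpg2.isNilpotent hn2 fun i => ?_
    rw [hxA']
    exact QQ_full hD (C.dual i) hr' hφ' (itr_free hA)
  have hgen : Subgroup.closure ({φ A} ∪ (R1 : Set ↥(D.group K)) ∪ R2) = ⊤ := by
    apply GenOK.top hD C.gen
    intro k hk t
    rcases List.mem_append.1 hk with hk | hk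
    · obtain ⟨i, -, hk⟩ := List.mem_flatMap.1 hk
      obtain ⟨a, -, rfl⟩ := List.mem_map.1 hk
      apply Subgroup.subset_closure
      refine Or.inl (Or.inr ?_)
      rw [hR1]
      exact (le_iSup (fun i => QQ (K := K) hD (C.nat i)) i) (xS_mem_QQ hD (C.nat i) a t)
    · obtain ⟨i, -, hk⟩ := List.mem_flatMap.1 hk
      obtain ⟨a, -, rfl⟩ := List.mem_map.1 hk
      apply Subgroup.subset_closure
      refine Or.inr ?_
      rw [hR2]
      exact (le_iSup (fun i => QQ (K := K) hD (C.dual i)) i) (xS_mem_QQ hD (C.dual i) a t)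
  exact ⟨j, k, φ A, R1, R2, hx, hj, hP1, hP2, by rw [hR1]; exact hpg1, by rw [hR2]; exact hpg2, hgen⟩

end Cfsg.Agent.H441.FPR
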