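import Cfsg.Agent.H441.FPR.Crit
import Cfsg.Agent.H162.GaussExcMain

/-!
# Tables of subgroups `SL_n(K)` and their natural modules in the groups of type `E`
-/

set_option autoImplicit false
set_option maxRecDepth 100000

namespace Cfsg.Agent.H441.FPR

open Cfsg.Lie Cfsg.Agent.ChevalleyStructure Cfsg.Agent.ChevalleyStructure.Elts Cfsg.Agent.H79.SimpleGen Matrix
open Cfsg.Agent.TitsThree.KExcRT Cfsg.Agent.ChevalleyStructure.RootVec Cfsg.Agent.Nodes.RGDChev

/-- table of an `SL_n` and natural modules -/
structure TabOK (D : ChevalleyDatum) {n m : ℕ} (r : Fin n → Fin n → ℕ) (g : Fin m → Fin n → ℕ)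
    (steps : List (ℕ × ℕ)) : Prop where
  ra : RTa D r
  rb : RTb D r fun _ _ => 1
  rc : RTc D r
  rn : ∀ i j, i ≠ j → r j i = D.neg (r i j)
  crit : CritOK D r 1 g (fun _ _ => 1) (fun _ _ => 1) steps

/-! ### `E₆` -/

def r6a : Fin 4 → Fin 4 → ℕ := ![![0, 36, 38, 41], ![35, 0, 37, 40], ![33, 34, 0, 39], ![30, 31, 32, 0]]
def g6a : Fin 3 → Fin 4 → ℕ := ![![45, 44, 43, 42], ![49, 48, 47, 46], ![60, 59, 58, 57]]
def s6a : List (ℕ × ℕ) := [(60, 26), (45, 11), (43, 29), (42, 28), (44, 28), (43, 27), (45, 27), (44, 26)]

theorem t6a : TabOK chevE6 r6a g6a s6a where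
  ra := by decide +kernel
  rb := by decide +kernel
  rc := by decide +kernel
  rn := by decide +kernel
  crit :=
    { rlt := by decide +kernel
      nat := by decide +kernel
      dual := by decide +kernel
      pos := by decide +kernel
      gen := by decide +kernel }

def r6b : Fin 3 → Fin 3 → ℕ := ![![0, 36, 38], ![35, 0, 37], ![33, 34, 0]]
def g6b : Fin 4 → Fin 3 → ℕ := ![![41, 40, 39], ![45, 44, 43], ![49, 48, 47], ![60, 59, 58]]
def s6b : List (ℕ × ℕ) := [(60, 26), (45, 11), (49, 30), (41, 22), (45, 30), (41, 26), (40, 32), (39, 31),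
  (41, 31), (40, 30)]

theorem t6b : TabOK chevE6 r6b g6b s6b where
  ra := by decide +kernel
  rb := by decide +kernel
  rc := by decide +kernel
  rn := by decide +kernel
  crit :=
    { rlt := by decide +kernel
      nat := by decide +kernel
      dual := by decide +kernel
      pos := by decide +kernel
      gen := by decide +kernel }

/-! ### `E₇` -/

def r7a : Fin 4 → Fin 4 → ℕ := ![![0, 63, 65, 68], ![62, 0, 64, 67], ![60, 61, 0, 66], ![57, 58, 59, 0]]
def g7a : Fin 4 → Fin 4 → ℕ := ![![72, 71, 70, 69], ![77, 76, 75, 74], ![82, 81, 80, 79], ![98, 97, 96, 95]]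
def s7a : List (ℕ × ℕ) := [(98, 48), (77, 27), (82, 53), (72, 43), (77, 53), (72, 48), (70, 56), (69, 55),
  (71, 55), (70, 54), (72, 54), (71, 53)]

theorem t7a : TabOK chevE7 r7a g7a s7a where
  ra := by decide +kernel
  rb := by decide +kernel
  rc := by decide +kernel
  rn := by decide +kernel
  crit :=
    { rlt := by decide +kernel
      nat := by decide +kernel
      dual := by decide +kernel
      pos := by decide +kernel
      gen := by decide +kernel }

def r7b : Fin 3 → Fin 3 → ℕ := ![![0, 63, 65], ![62, 0, 64], ![60, 61, 0]]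
def g7b : Fin 5 → Fin 3 → ℕ := ![![68, 67, 66], ![72, 71, 70], ![77, 76, 75], ![82, 81, 80], ![98, 97, 96]]
def s7b : List (ℕ × ℕ) := [(98, 48), (77, 27), (82, 53), (72, 43), (77, 53), (72, 48), (72, 57), (68, 53),
  (67, 59), (66, 58), (68, 58), (67, 57)]

theorem t7b : TabOK chevE7 r7b g7b s7b where
  ra := by decide +kernel
  rb := by decide +kernel
  rc := by decide +kernel
  rn := by decide +kernel
  crit :=
    { rlt := by decide +kernel
      nat := by decide +kernel
      dual := by decide +kernel
      pos := by decide +kernel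
      gen := by decide +kernel }

/-! ### `E₈` -/

def r8a : Fin 6 → Fin 6 → ℕ := ![![0, 120, 122, 125, 129, 134], ![119, 0, 121, 124, 128, 133],
  ![117, 118, 0, 123, 127, 132], ![114, 115, 116, 0, 126, 131], ![110, 111, 112, 113, 0, 130],
  ![105, 106, 107, 108, 109, 0]]
def g8a : Fin 3 → Fin 6 → ℕ := ![![140, 139, 138, 137, 136, 135], ![146, 145, 144, 143, 142, 141],
  ![168, 167, 166, 165, 164, 163]]
def s8a : List (ℕ × ℕ) := [(168, 99), (140, 71), (136, 104), (135, 103), (137, 103), (136, 102), (138, 102),
  (137, 101), (139, 101), (138, 100), (140, 100), (139, 99)]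

theorem t8a : TabOK chevE8 r8a g8a s8a where
  ra := by decide +kernel
  rb := by decide +kernel
  rc := by decide +kernel
  rn := by decide +kernel
  crit :=
    { rlt := by decide +kernel
      nat := by decide +kernel
      dual := by decide +kernel
      pos := by decide +kernel
      gen := by decide +kernel }

def r8b : Fin 5 → Fin 5 → ℕ := ![![0, 120, 122, 125, 129], ![119, 0, 121, 124, 128], ![117, 118, 0, 123, 127],
  ![114, 115, 116, 0, 126], ![110, 111, 112, 113, 0]]
def g8b : Fin 4 → Fin 5 → ℕ := ![![134, 133, 132, 131, 130], ![140, 139, 138, 137, 136],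
  ![146, 145, 144, 143, 142], ![168, 167, 166, 165, 164]]
def s8b : List (ℕ × ℕ) := [(168, 99), (140, 71), (146, 105), (134, 93), (140, 105), (134, 99), (131, 109),
  (130, 108), (132, 108), (131, 107), (133, 107), (132, 106), (134, 106), (133, 105)]

theorem t8b : TabOK chevE8 r8b g8b s8b where
  ra := by decide +kernel
  rb := by decide +kernel
  rc := by decide +kernel
  rn := by decide +kernel
  crit :=
    { rlt := by decide +kernel
      nat := by decide +kernel
      dual := by decide +kernel
      pos := by decide +kernel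
      gen := by decide +kernel }

def r8c : Fin 4 → Fin 4 → ℕ := ![![0, 120, 122, 125], ![119, 0, 121, 124], ![117, 118, 0, 123],
  ![114, 115, 116, 0]]
def g8c : Fin 5 → Fin 4 → ℕ := ![![129, 128, 127, 126], ![134, 133, 132, 131], ![140, 139, 138, 137],
  ![146, 145, 144, 143], ![168, 167, 166, 165]]
def s8c : List (ℕ × ℕ) := [(168, 99), (140, 71), (146, 105), (134, 93), (140, 105), (134, 99), (134, 110),
  (129, 105), (127, 113), (126, 112), (128, 112), (127, 111), (129, 111), (128, 110)]

theorem t8c : TabOK chevE8 r8c g8c s8c where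
  ra := by decide +kernel
  rb := by decide +kernel
  rc := by decide +kernel
  rn := by decide +kernel
  crit :=
    { rlt := by decide +kernel
      nat := by decide +kernel
      dual := by decide +kernel
      pos := by decide +kernel
      gen := by decide +kernel }

end Cfsg.Agent.H441.FPR
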