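import Cfsg.Agent.H441.FPR.CB

/-!
# Table: `SL_6` in `E₇`
-/

set_option autoImplicit false
set_option maxRecDepth 100000

namespace Cfsg.Agent.H441.FPR

open Cfsg.Lie Cfsg.Agent.ChevalleyStructure Cfsg.Agent.ChevalleyStructure.Elts Cfsg.Agent.H79.SimpleGen Matrix
open Cfsg.Agent.H398.FPR Cfsg.Agent.TitsThree.KExcRT

/-- the simple roots of the block and their negatives -/
def mkL (R : List (List ℕ)) (n : ℕ) : List ℕ :=
  (List.range (n - 1)).flatMap fun a => [(R.getD a []).getD (a + 1) 0, (R.getD (a + 1) []).getD a 0]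

/-- the steps to all roots of the block -/
def mkst (R : List (List ℕ)) (n : ℕ) : List (ℕ × ℕ) :=
  (List.range n).flatMap fun len => if len < 2 then [] else (List.range (n - len)).flatMap fun a =>
    [((R.getD a []).getD (a + len - 1) 0, (R.getD (a + len - 1) []).getD (a + len) 0),
      ((R.getD (a + len) []).getD (a + len - 1) 0, (R.getD (a + len - 1) []).getD a 0)]

/-! ### `E₇` -/

def R7c : List (List ℕ) := [[0, 63, 65, 68, 72, 77], [62, 0, 64, 67, 71, 76], [60, 61, 0, 66, 70, 75],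
  [57, 58, 59, 0, 69, 74], [53, 54, 55, 56, 0, 73], [48, 49, 50, 51, 52, 0]]
def r7c : Fin 6 → Fin 6 → ℕ := ![![0, 63, 65, 68, 72, 77], ![62, 0, 64, 67, 71, 76], ![60, 61, 0, 66, 70, 75],
  ![57, 58, 59, 0, 69, 74], ![53, 54, 55, 56, 0, 73], ![48, 49, 50, 51, 52, 0]]
def g7c : Fin 1 → Fin 6 → ℕ := ![![98, 97, 96, 95, 94, 93]]
def h7c : Fin 0 → Fin 6 → ℕ := ![]
def Γ7c : List ℕ := List.range' 78 48
def st7c : List (ℕ × ℕ) := [98, 97, 96, 95, 94, 93].flatMap fun a => [98, 97, 96, 95, 94, 93].map fun b => (a, 125 - b)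

theorem t7c : CB chevE7 r7c 1 g7c (fun _ _ => 1) (fun _ _ => 1) h7c (fun _ _ => 1) (fun _ _ => 1) Γ7c (fun _ => true)
    (mkL R7c 6) (mkst R7c 6) st7c [(56, 79), (69, 46)] where
  rlt := by decide +kernel
  nat := by decide +kernel
  dual := by decide +kernel
  nat' := by decide +kernel
  dual' := by decide +kernel
  gmem := by decide +kernel
  hmem := by decide +kernel
  pos := by decide +kernel
  inv := by decide +kernel
  inv' := by decide +kernel
  lg := by decide +kernel
  chain := by decide +kernel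
  gen := by decide +kernel

theorem rt7c : RTa chevE7 r7c ∧ (RTb chevE7 r7c fun _ _ => 1) ∧ RTc chevE7 r7c ∧
    ∀ i j, i ≠ j → r7c j i = chevE7.neg (r7c i j) := by decide +kernel

end Cfsg.Agent.H441.FPR
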