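import Cfsg.Agent.H441.FPR.Dich
import Cfsg.Agent.S1024

/-!
# Characteristic two: commutative sections, scalars
-/

set_option autoImplicit false
set_option maxRecDepth 100000

namespace Cfsg.Agent.H441.FPR

open Cfsg.Lie Cfsg.Agent.ChevalleyStructure Cfsg.Agent.ChevalleyStructure.Elts Cfsg.Agent.H79.SimpleGen Matrix
open Cfsg.Agent.H398.FPR Cfsg.Agent.TitsThree.KExcRT Cfsg.Agent.ChevalleyStructure.RootVec Cfsg.Agent.Nodes.RGDChev
open Cfsg.Agent.KFacts.RgdChevCoord
open Cfsg.Agent.FixBN.FieldRGD (uu vv dd ww)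

universe u

variable {K : Type u} [Field K] {D : ChevalleyDatum} (hD : InList D)

theorem xS_eq_one {r : ℕ} (hr : r < D.nroots) {t : K} (h : xS hD r t = 1) : t = 0 := by
  rw [← Cfsg.Agent.S1024.result (F := K) D hD r hr t]
  have h1 := congrArg (fun y : ↥(D.group K) => ((y : GL D.Idx K) : Matrix D.Idx D.Idx K)) h
  exact h1

/-- the two root subgroups commute in characteristic `2` -/
def EvC (D : ChevalleyDatum) (r s : ℕ) : Prop :=
  r < D.nroots ∧ s < D.nroots ∧ (s = r ∨ (s ≠ r ∧ s ≠ D.neg r ∧ ∀ c ∈ D.commTerms r s, c.2.1 % 2 = 0))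

instance (r s : ℕ) : Decidable (EvC D r s) := by
  unfold EvC; infer_instance

theorem cast_even (h2 : (2 : K) = 0) {N : ℤ} (h : N % 2 = 0) : (N : K) = 0 := by
  obtain ⟨m, rfl⟩ := Int.dvd_of_emod_eq_zero h
  rw [Int.cast_mul, Int.cast_ofNat, h2, zero_mul]

theorem cast_odd (h2 : (2 : K) = 0) {N : ℤ} (h : N % 2 = 1) : (N : K) = 1 := by
  have h1 : (N - 1) % 2 = 0 := by omega
  have h3 := cast_even h2 h1
  rw [Int.cast_sub, Int.cast_one, sub_eq_zero] at h3
  exact h3

theorem wd_even (h2 : (2 : K) = 0) {l : List (ℕ × ℤ × ℕ × ℕ)} (h : ∀ c ∈ l, c.2.1 % 2 = 0) (t u : K) :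
    wd hD l t u = 1 := by
  apply List.prod_eq_one
  intro x hx
  obtain ⟨c, hc, rfl⟩ := List.mem_map.1 hx
  rw [cast_even h2 (h c hc), zero_mul, zero_mul, xS_zero]

theorem EvC.comm (h2 : (2 : K) = 0) {r s : ℕ} (h : EvC D r s) (t u : K) : Commute (xS hD r t) (xS hD s u) := by
  obtain ⟨h3, h4, h5⟩ := h
  rcases h5 with rfl | ⟨h5, h6, h7⟩
  · change xS hD s t * xS hD s u = xS hD s u * xS hD s t
    rw [xS_mul, xS_mul, add_comm]
  · have h8 := xS_word hD h3 h4 h5 h6 t u
    rw [wd_even hD h2 h7, mul_one] at h8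
    exact h8.symm

/-- a word modulo the even terms -/
theorem wd_mem_of (h2 : (2 : K) = 0) {M : Subgroup ↥(D.group K)} {l : List (ℕ × ℤ × ℕ × ℕ)}
    (h : ∀ c ∈ l, c.2.1 % 2 = 0 ∨ ∀ t : K, xS hD c.1 t ∈ M) (t u : K) : wd hD l t u ∈ M := by
  apply Subgroup.list_prod_mem
  intro x hx
  obtain ⟨c, hc, rfl⟩ := List.mem_map.1 hx
  rcases h c hc with h | h
  · rw [cast_even h2 h, zero_mul, zero_mul, xS_zero]
    exact one_mem _
  · exact h _

/-! ### Torus elements -/

section Tor

variable {l : ℕ} {M : CoxeterMatrix (Fin l)} (hp : IsType D l M)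

/-- the element of the torus for a list of exponents -/
theorem exists_tor {c : K} (hc : c ≠ 0) (L : List (ℕ × ℤ)) (hL : ∀ a ∈ L, a.1 < D.rank) :
    ∃ y : ↥(D.group K), ∀ s < D.nroots, ∀ t : K,
      y * xS hp.inList s t * y⁻¹ = xS hp.inList s (c ^ ((L.map fun a => a.2 * D.cartan a.1 s).sum) * t) := by
  induction L with
  | nil =>
    refine ⟨1, fun s _ t => ?_⟩
    rw [List.map_nil, List.sum_nil, zpow_zero, one_mul]
    group
  | cons a L ih =>
    obtain ⟨y, hy⟩ := ih fun b hb => hL b (List.mem_cons_of_mem _ hb)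
    have ha := hL a List.mem_cons_self
    obtain ⟨φ, -, -, -, hφh, -⟩ := Cfsg.Agent.OddHalf.NI.ModelChev.exists_sl hp (K := K) (simple_lt hp.inList ha)
    have hcm : c ^ a.2 ≠ 0 := zpow_ne_zero _ hc
    refine ⟨φ (dd (c ^ a.2) hcm) * y, fun s hs t => ?_⟩
    have h1 : φ (dd (c ^ a.2) hcm) * y * xS hp.inList s t * (φ (dd (c ^ a.2) hcm) * y)⁻¹ =
        φ (dd (c ^ a.2) hcm) * (y * xS hp.inList s t * y⁻¹) * (φ (dd (c ^ a.2) hcm))⁻¹ := by group
    rw [h1, hy s hs, List.map_cons, List.sum_cons]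
    apply Subtype.ext
    have h3 := BruhatSplit.hG_simple_conj (F := K) hp.inList ha hs hcm
      (c ^ ((L.map fun a => a.2 * D.cartan a.1 s).sum) * t)
    rw [← hφh (c ^ a.2) hcm] at h3
    refine h3.trans ?_
    change xG hp.inList _ _ = xG hp.inList _ _
    rw [← _root_.zpow_mul, ← mul_assoc, ← zpow_add₀ hc]

end Tor

/-! ### Sections -/

/-- generators commute with an element -/
theorem UG_comm {L : List ℕ} {x y : ↥(D.group K)} (hx : x ∈ UG hD K L) (h : ∀ k ∈ L, ∀ t : K, Commute (xS hD k t) y) :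
    Commute x y := by
  have h1 : UG hD K L ≤ Subgroup.centralizer {y} := by
    apply UG_le
    intro k hk t
    exact Subgroup.mem_centralizer_singleton_iff.2 (h k hk t)
  exact Subgroup.mem_centralizer_singleton_iff.1 (h1 hx)

theorem UG_conj {L Γ : List ℕ} {x : ↥(D.group K)} [Finite K] (hx : x ∈ UG hD K L) (h : ∀ k ∈ L, Inv D Γ k) :
    ∀ y ∈ UG hD K Γ, x * y * x⁻¹ ∈ UG hD K Γ := by
  have h1 : UG hD K L ≤ Subgroup.normalizer (UG hD K Γ : Set ↥(D.group K)) := by
    apply UG_le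
    intro k hk t
    exact mem_norm_of_conj fun y hy => (h k hk).conj_mem hD t hy
  intro y hy
  exact (Subgroup.mem_normalizer_iff.1 (h1 hx) y).1 hy

/-- the table of a section: `g` the roots, `z` the central root, `L` the roots acting, `χ` a cocharacter -/
structure SecOK (D : ChevalleyDatum) {n : ℕ} (g : Fin n → ℕ) (z : ℕ) (L : List ℕ) (χ : List (ℕ × ℤ)) : Prop where
  comm : ∀ i j, EvC D (g i) (g j)
  commz : ∀ i, EvC D z (g i)
  inv : ∀ k ∈ L, Inv D (List.ofFn g ++ [z]) k
  cz : ∀ k ∈ L, EvC D k z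
  rk : ∀ a ∈ χ, a.1 < D.rank
  sc : ∀ i, (χ.map fun a => a.2 * D.cartan a.1 (g i)).sum = 1
  tr : ∀ k ∈ L, k < D.nroots ∧ (χ.map fun a => a.2 * D.cartan a.1 k).sum = 0

section Sec

variable {n : ℕ} {g : Fin n → ℕ} {z : ℕ} {L : List ℕ} {χ : List (ℕ × ℤ)}

theorem SecOK.pw (T : SecOK D g z L χ) (h2 : (2 : K) = 0) :
    Pairwise fun i j => ∀ (x y : Multiplicative K), Commute (rootHom hD (g i) (1 : K) x) (rootHom hD (g j) (1 : K) y) :=
  fun i j _ _ _ => (T.comm i j).comm hD h2 _ _

/-- the product map of the section -/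
noncomputable def sev (T : SecOK D g z L χ) (h2 : (2 : K) = 0) : (Fin n → Multiplicative K) →* ↥(D.group K) :=
  MonoidHom.noncommPiCoprod (fun i => rootHom hD (g i) (1 : K)) (T.pw hD h2)

theorem sev_single (T : SecOK D g z L χ) (h2 : (2 : K) = 0) (i : Fin n) (t : K) :
    sev hD T h2 (Pi.mulSingle i (Multiplicative.ofAdd t)) = xS hD (g i) t := by
  unfold sev
  rw [MonoidHom.noncommPiCoprod_mulSingle]
  change xS hD (g i) (1 * t) = _
  rw [one_mul]

theorem sev_induction {P : (Fin n → Multiplicative K) → Prop} (h0 : P 1) (ha : ∀ v w, P v → P w → P (v * w))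
    (hs : ∀ i t, P (Pi.mulSingle i t)) (v : Fin n → Multiplicative K) : P v := by
  have h1 : v = ∏ i, Pi.mulSingle i (v i) := (Finset.univ_prod_mulSingle v).symm
  rw [h1]
  exact Finset.prod_induction _ P ha h0 fun i _ => hs i _

theorem sev_comm (T : SecOK D g z L χ) (h2 : (2 : K) = 0) (s : K) (v : Fin n → Multiplicative K) :
    Commute (xS hD z s) (sev hD T h2 v) := by
  refine sev_induction (P := fun v => Commute (xS hD z s) (sev hD T h2 v)) ?_ ?_ ?_ v
  · rw [map_one]; exact Commute.one_right _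
  · intro v w hv hw
    rw [map_mul]
    exact hv.mul_right hw
  · intro i t
    have h3 := sev_single hD T h2 i t.toAdd
    rw [ofAdd_toAdd] at h3
    rw [h3]
    exact (T.commz i).comm hD h2 _ _

/-- the parametrization of the section -/
noncomputable def spsi (T : SecOK D g z L χ) (h2 : (2 : K) = 0) :
    Multiplicative ((Fin n → K) × K) →* ↥(D.group K) :=
  MonoidHom.mk' (fun w => sev hD T h2 (fun i => Multiplicative.ofAdd (w.toAdd.1 i)) * xS hD z w.toAdd.2) (by
    intro a b
    have h1 : (fun i => Multiplicative.ofAdd ((a * b).toAdd.1 i)) =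
        (fun i => Multiplicative.ofAdd (a.toAdd.1 i)) * fun i => Multiplicative.ofAdd (b.toAdd.1 i) := by
      funext i
      rfl
    change sev hD T h2 (fun i => Multiplicative.ofAdd ((a * b).toAdd.1 i)) * xS hD z (a.toAdd.2 + b.toAdd.2) = _
    rw [h1, map_mul, ← xS_mul]
    have h3 := (sev_comm hD T h2 a.toAdd.2 (fun i => Multiplicative.ofAdd (b.toAdd.1 i))).eq
    simp only [mul_assoc]
    rw [← mul_assoc (xS hD z a.toAdd.2), h3, mul_assoc])

theorem spsi_def (T : SecOK D g z L χ) (h2 : (2 : K) = 0) (v : Fin n → K) (s : K) :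
    spsi hD T h2 (Multiplicative.ofAdd (v, s)) = sev hD T h2 (fun i => Multiplicative.ofAdd (v i)) * xS hD z s := rfl

theorem spsi_zero (T : SecOK D g z L χ) (h2 : (2 : K) = 0) (s : K) :
    spsi hD T h2 (Multiplicative.ofAdd (0, s)) = xS hD z s := by
  rw [spsi_def]
  have h1 : (fun i : Fin n => Multiplicative.ofAdd ((0 : Fin n → K) i)) = 1 := rfl
  rw [h1, map_one, one_mul]

theorem spsi_single (T : SecOK D g z L χ) (h2 : (2 : K) = 0) (i : Fin n) (t : K) :
    spsi hD T h2 (Multiplicative.ofAdd (Pi.single i t, 0)) = xS hD (g i) t := by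
  rw [spsi_def, xS_zero, mul_one, ← sev_single hD T h2 i t]
  congr 1

theorem spsi_split (T : SecOK D g z L χ) (h2 : (2 : K) = 0) (v : Fin n → K) (s : K) :
    spsi hD T h2 (Multiplicative.ofAdd (v, s)) =
      spsi hD T h2 (Multiplicative.ofAdd (v, 0)) * xS hD z s := by
  rw [spsi_def, spsi_def, xS_zero, mul_one]

theorem spsi_add (T : SecOK D g z L χ) (h2 : (2 : K) = 0) (v w : Fin n → K) :
    spsi hD T h2 (Multiplicative.ofAdd (v + w, 0)) =
      spsi hD T h2 (Multiplicative.ofAdd (v, 0)) * spsi hD T h2 (Multiplicative.ofAdd (w, 0)) := by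
  rw [← map_mul, ← ofAdd_add, Prod.mk_add_mk, add_zero]

theorem spsi_range (T : SecOK D g z L χ) (h2 : (2 : K) = 0) :
    (spsi hD T h2).range = UG hD K (List.ofFn g ++ [z]) := by
  apply le_antisymm
  · rintro _ ⟨w, rfl⟩
    have h1 : spsi hD T h2 w = sev hD T h2 (fun i => Multiplicative.ofAdd (w.toAdd.1 i)) * xS hD z w.toAdd.2 := rfl
    rw [h1]
    refine mul_mem ?_ (xS_mem_UG hD (List.mem_append_right _ (List.mem_singleton.2 rfl)) _)
    refine sev_induction (P := fun v => sev hD T h2 v ∈ UG hD K (List.ofFn g ++ [z])) ?_ ?_ ?_ _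
    · rw [map_one]; exact one_mem _
    · intro v w hv hw
      rw [map_mul]
      exact mul_mem hv hw
    · intro i t
      have h3 := sev_single hD T h2 i t.toAdd
      rw [ofAdd_toAdd] at h3
      rw [h3]
      exact xS_mem_UG hD (List.mem_append_left _ (List.mem_ofFn.2 ⟨i, rfl⟩)) _
  · apply UG_le
    intro k hk t
    rcases List.mem_append.1 hk with hk | hk
    · obtain ⟨i, rfl⟩ := List.mem_ofFn.1 hk
      exact ⟨_, spsi_single hD T h2 i t⟩
    · rw [List.mem_singleton.1 hk]
      exact ⟨_, spsi_zero hD T h2 t⟩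

end Sec

/-! ### The action of a `p`-element of the Levi subgroup -/

section Act

variable {n : ℕ} {g : Fin n → ℕ} {z : ℕ} {L : List ℕ} {χ : List (ℕ × ℤ)}

/-- `x` centralises the section -/
def Dead (hD : InList D) (x : ↥(D.group K)) (Γ : List ℕ) : Prop := ∀ k ∈ Γ, ∀ t : K, Commute x (xS hD k t)

/-- modulo the centre `x` has no fixed points -/
def Alive (hD : InList D) (x : ↥(D.group K)) (Γ : List ℕ) (z : ℕ) : Prop :=
  ∀ y ∈ UG hD K Γ, ∃ m ∈ ⁅UG hD K Γ, Subgroup.zpowers x⁆, ∃ s : K, y = m * xS hD z s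

theorem SecOK.dichotomy {l : ℕ} {Mx : CoxeterMatrix (Fin l)} (hp : IsType D l Mx) (T : SecOK D g z L χ)
    (h2 : (2 : K) = 0) [Fintype K] {p k : ℕ} (hp' : p.Prime) (hpK : ¬ p ∣ Fintype.card K)
    (hpn : ¬ n < orderOf (Fintype.card K : ZMod p) → n = orderOf (Fintype.card K : ZMod p))
    {x : ↥(D.group K)} (hx : x ^ p ^ k = 1) (hxL : x ∈ UG hp.inList K L) :
    Dead hp.inList x (List.ofFn g ++ [z]) ∨ Alive hp.inList x (List.ofFn g ++ [z]) z := by
  have hfin : Finite ↥(D.group K) := inferInstance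
  have : Fact p.Prime := ⟨hp'⟩
  have hrange := spsi_range hp.inList T h2 (K := K)
  have hzc : ∀ s : K, Commute x (xS hp.inList z s) := fun s =>
    UG_comm hp.inList hxL fun k hk t => (T.cz k hk).comm hp.inList h2 t s
  obtain ⟨f, hf, hdvd, hn, h0⟩ := dich hpK (spsi hp.inList T h2) hx (fun s => by
      rw [spsi_zero]; exact hzc s) (fun w => by
      have h3 := UG_conj hp.inList hxL T.inv (spsi hp.inList T h2 w) (by rw [← hrange]; exact ⟨w, rfl⟩)
      rw [← hrange] at h3
      obtain ⟨w', hw'⟩ := h3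
      exact ⟨w', hw'.symm⟩) (fun c hc => by
      obtain ⟨y, hy⟩ := exists_tor hp hc χ T.rk
      refine ⟨y, ?_, fun v => ⟨0, ?_⟩⟩
      · refine UG_comm hp.inList hxL fun k hk t => ?_
        obtain ⟨h3, h4⟩ := T.tr k hk
        have h5 := hy k h3 t
        rw [h4, zpow_zero, one_mul, mul_inv_eq_iff_eq_mul] at h5
        exact h5.symm
      · have h6 : ∀ v : Fin n → Multiplicative K, y * sev hp.inList T h2 v * y⁻¹ =
            sev hp.inList T h2 (fun i => Multiplicative.ofAdd (c * (v i).toAdd)) := by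
          intro v
          refine sev_induction (P := fun v => y * sev hp.inList T h2 v * y⁻¹ =
            sev hp.inList T h2 (fun i => Multiplicative.ofAdd (c * (v i).toAdd))) ?_ ?_ ?_ v
          · have h7 : (fun i : Fin n => Multiplicative.ofAdd (c * ((1 : Fin n → Multiplicative K) i).toAdd)) = 1 := by
              funext i
              change Multiplicative.ofAdd (c * 0) = 1
              rw [mul_zero]
              rfl
            rw [h7, map_one]
            group
          · intro v w hv hw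
            have h7 : (fun i : Fin n => Multiplicative.ofAdd (c * ((v * w) i).toAdd)) =
                (fun i => Multiplicative.ofAdd (c * (v i).toAdd)) * fun i => Multiplicative.ofAdd (c * (w i).toAdd) := by
              funext i
              change Multiplicative.ofAdd (c * ((v i).toAdd + (w i).toAdd)) = _
              rw [mul_add]
              rfl
            rw [h7, map_mul, map_mul, ← hv, ← hw]
            group
          · intro i t
            have h7 : (fun j : Fin n => Multiplicative.ofAdd (c * ((Pi.mulSingle i t : Fin n → Multiplicative K) j).toAdd)) =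
                Pi.mulSingle i (Multiplicative.ofAdd (c * t.toAdd)) := by
              funext j
              by_cases hj : j = i
              · subst hj; simp
              · rw [Pi.mulSingle_eq_of_ne hj, Pi.mulSingle_eq_of_ne hj]
                change Multiplicative.ofAdd (c * 0) = 1
                rw [mul_zero]
                rfl
            have h3 := sev_single hp.inList T h2 i t.toAdd
            rw [ofAdd_toAdd] at h3
            rw [h7, sev_single, h3]
            have h5 := hy (g i) (T.comm i i).1 t.toAdd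
            rw [T.sc i, zpow_one] at h5
            exact h5
        rw [spsi_def, spsi_def, xS_zero, mul_one, mul_one, h6]
        rfl)
  have hcase : f = n ∨ (f = 0 ∧ n = orderOf (Fintype.card K : ZMod p)) := by
    by_cases h3 : f = n
    · exact Or.inl h3
    · right
      have h4 : orderOf (Fintype.card K : ZMod p) ≤ n - f := Nat.le_of_dvd (by omega) hdvd
      have h5 := hpn (by omega)
      omega
  rcases hcase with hfn | ⟨hf0, -⟩
  · left
    intro k hk t
    have h3 : xS hp.inList k t ∈ (spsi hp.inList T h2).range := by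
      rw [hrange]
      exact xS_mem_UG hp.inList hk t
    obtain ⟨w, hw⟩ := h3
    rw [← hw]
    exact hn hfn w
  · right
    intro y hy
    have hcop : ¬ p ∣ Nat.card ↥(UG hp.inList K (List.ofFn g ++ [z])) := by
      rw [← hrange]
      intro h3
      have h4 := h3.trans (Subgroup.card_range_dvd (spsi hp.inList T h2))
      rw [Nat.card_eq_fintype_card, Fintype.card_multiplicative, Fintype.card_prod, Fintype.card_fun] at h4
      rcases (hp'.dvd_mul).1 h4 with h4 | h4
      · exact hpK (hp'.dvd_of_dvd_pow h4)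
      · exact hpK h4
    have hzp : IsPGroup p (Subgroup.zpowers x) := by
      rw [IsPGroup.iff_card]
      obtain ⟨i, -, hi⟩ := (Nat.dvd_prime_pow hp').1 (orderOf_dvd_of_pow_eq_one hx)
      exact ⟨i, by rw [Nat.card_zpowers, hi]⟩
    have hnorm : Subgroup.zpowers x ≤ Subgroup.normalizer (UG hp.inList K (List.ofFn g ++ [z]) : Set ↥(D.group K)) := by
      rw [Subgroup.zpowers_le]
      exact mem_norm_of_conj (UG_conj hp.inList hxL T.inv)
    obtain ⟨m, hm, c, ⟨hc1, hc2⟩, hy2⟩ :=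
      Cfsg.Agent.Lib.CoprimeCommutator.exists_commutator_mul_fixed_of_isPGroup p (Subgroup.zpowers x)
        (UG hp.inList K (List.ofFn g ++ [z])) hzp hnorm hcop y hy
    refine ⟨m, hm, ?_⟩
    rw [← hrange] at hc1
    obtain ⟨w, hw⟩ := hc1
    have hcx : Commute x c := by
      have h3 := (Subgroup.mem_centralizer_iff.1 hc2) x (Subgroup.mem_zpowers x)
      exact h3
    have h4 := h0 hf0 w (by rw [hw]; exact hcx)
    refine ⟨w.toAdd.2, ?_⟩
    rw [hy2, ← hw]
    have h5 : w = Multiplicative.ofAdd ((0 : Fin n → K), w.toAdd.2) := by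
      rw [← h4]
      rfl
    rw [h5, spsi_zero]
    rfl

/-- the table of a pairing -/
def PairOK (D : ChevalleyDatum) (a : ℕ) (Γ : List ℕ) (ζ : ℕ) : Prop :=
  a < D.nroots ∧ ζ < D.nroots ∧ ∀ c ∈ Γ, (c < D.nroots ∧ c ≠ a ∧ c ≠ D.neg a ∧ ∀ e ∈ D.commTerms a c, e.2.1 % 2 = 0 ∨ e.1 = ζ) ∧
    EvC D ζ c

instance (a : ℕ) (Γ : List ℕ) (ζ : ℕ) : Decidable (PairOK D a Γ ζ) := by
  unfold PairOK; infer_instance

/-- a dead root and a live section commute -/
theorem pair_dead (h2 : (2 : K) = 0) [Finite K] {a ζ z : ℕ} {Γ : List ℕ} (hP : PairOK D a Γ ζ) (hz : EvC D a z)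
    {x : ↥(D.group K)} (hζ : ∀ s : K, Commute x (xS hD ζ s)) (hdead : ∀ t : K, Commute x (xS hD a t))
    (hnorm : ∀ y ∈ UG hD K Γ, x * y * x⁻¹ ∈ UG hD K Γ) (halive : Alive hD x Γ z) {c : ℕ} (hc : c ∈ Γ) (t u : K) :
    Commute (xS hD a t) (xS hD c u) := by
  have hfin : Finite ↥(D.group K) := inferInstance
  have hζc : ∀ w ∈ UG hD K [ζ], ∀ y ∈ UG hD K Γ, Commute w y := by
    intro w hw y hy
    obtain ⟨s, rfl⟩ := (mem_UG_single hD).1 hw
    refine (UG_comm hD hy fun k hk t => ?_).symm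
    exact ((hP.2.2 k hk).2.comm hD h2 s t).symm
  have key : ∀ y ∈ UG hD K Γ, ∃ w ∈ UG hD K [ζ], xS hD a t * y * (xS hD a t)⁻¹ = w * y := by
    intro y hy
    refine Subgroup.closure_induction (p := fun y _ => ∃ w ∈ UG hD K [ζ], xS hD a t * y * (xS hD a t)⁻¹ = w * y)
      ?_ ?_ ?_ ?_ hy
    · rintro _ ⟨k, hk, s, rfl⟩
      obtain ⟨⟨h3, h4, h5, h6⟩, h7⟩ := hP.2.2 k hk
      have h8 : wd hD (D.commTerms a k) (-t) s ∈ UG hD K [ζ] := by
        refine wd_mem_of hD h2 (fun e he => ?_) _ _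
        rcases h6 e he with h6 | h6
        · exact Or.inl h6
        · right
          intro t
          rw [h6]
          exact xS_mem_UG hD (List.mem_singleton.2 rfl) t
      refine ⟨_, h8, ?_⟩
      rw [conj_word hD hP.1 h3 h4 h5]
      exact (hζc _ h8 _ (xS_mem_UG hD hk s)).eq.symm
    · exact ⟨1, one_mem _, by group⟩
    · intro y1 y2 hy1 hy2 h3 h4
      obtain ⟨w1, hw1, e1⟩ := h3
      obtain ⟨w2, hw2, e2⟩ := h4
      refine ⟨w1 * w2, mul_mem hw1 hw2, ?_⟩
      have h5 := (hζc w2 hw2 y1 hy1).eq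
      calc xS hD a t * (y1 * y2) * (xS hD a t)⁻¹ = (xS hD a t * y1 * (xS hD a t)⁻¹) * (xS hD a t * y2 * (xS hD a t)⁻¹) := by
            group
        _ = w1 * (y1 * w2) * y2 := by rw [e1, e2]; group
        _ = _ := by rw [← h5]; group
    · intro y1 hy1 h3
      obtain ⟨w1, hw1, e1⟩ := h3
      refine ⟨w1⁻¹, inv_mem hw1, ?_⟩
      have h5 := (hζc _ (inv_mem hw1) _ (inv_mem hy1)).eq
      calc xS hD a t * y1⁻¹ * (xS hD a t)⁻¹ = (xS hD a t * y1 * (xS hD a t)⁻¹)⁻¹ := by group
        _ = y1⁻¹ * w1⁻¹ := by rw [e1]; group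
        _ = _ := h5.symm
  -- commutators with `x` commute with `a`
  have hle : ⁅UG hD K Γ, Subgroup.zpowers x⁆ ≤ Subgroup.centralizer {xS hD a t} := by
    refine comm_le_of hnorm fun y hy => ?_
    rw [Subgroup.mem_centralizer_singleton_iff]
    obtain ⟨w, hw, e1⟩ := key y hy
    obtain ⟨s, rfl⟩ := (mem_UG_single hD).1 hw
    have h3 := (hζ s).eq
    have h4 := (hdead t).eq
    have e2 : xS hD a t * (x * y * x⁻¹) * (xS hD a t)⁻¹ = xS hD ζ s * (x * y * x⁻¹) := by
      have h5 : (xS hD a t) * x = x * xS hD a t := h4.symm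
      have h6 : x⁻¹ * (xS hD a t)⁻¹ = (xS hD a t)⁻¹ * x⁻¹ := by
        rw [← _root_.mul_inv_rev, ← _root_.mul_inv_rev, h4]
      calc xS hD a t * (x * y * x⁻¹) * (xS hD a t)⁻¹ = (xS hD a t * x) * y * (x⁻¹ * (xS hD a t)⁻¹) := by group
        _ = x * (xS hD a t * y * (xS hD a t)⁻¹) * x⁻¹ := by rw [h5, h6]; group
        _ = (x * xS hD ζ s) * y * x⁻¹ := by rw [e1]; group
        _ = _ := by rw [h3]; group
    have e3 : xS hD a t * (x * y * x⁻¹ * y⁻¹) * (xS hD a t)⁻¹ = x * y * x⁻¹ * y⁻¹ := by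
      have h7 : Commute (xS hD ζ s) (x * y * x⁻¹ * y⁻¹) :=
        hζc _ hw _ (mul_mem (hnorm y hy) (inv_mem hy))
      calc xS hD a t * (x * y * x⁻¹ * y⁻¹) * (xS hD a t)⁻¹ =
          (xS hD a t * (x * y * x⁻¹) * (xS hD a t)⁻¹) * (xS hD a t * y * (xS hD a t)⁻¹)⁻¹ := by group
        _ = (xS hD ζ s * (x * y * x⁻¹ * y⁻¹)) * (xS hD ζ s)⁻¹ := by rw [e1, e2]; group
        _ = _ := by rw [h7.eq]; group
    rw [mul_inv_eq_iff_eq_mul] at e3
    exact e3.symm
  obtain ⟨m, hm, s, hms⟩ := halive _ (xS_mem_UG hD hc u)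
  rw [hms]
  have h3 : Commute (xS hD a t) m := (Subgroup.mem_centralizer_singleton_iff.1 (hle hm)).symm
  exact h3.mul_right (hz.comm hD h2 t s)

end Act

end Cfsg.Agent.H441.FPR
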