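import Cfsg.Agent.H441.FPR.GrowA

/-!
# Growth through the image of a covering group: the main lemma
-/

set_option autoImplicit false

namespace Cfsg.Agent.H441.FPR.Grow

open Subgroup MulAction
open scoped commutatorElement
open Cfsg.Agent.H398.FPR (UGood Good growth_uGood)
open Cfsg.Agent.H409 (FprRow fix_le_of_map)

theorem ker_le {S G Q : Type*} [Group S] [Group G] [Group Q] (hQ : IsSimpleGroup Q) (f : S →* G) (θ : S →* Q)
    (hθ : Function.Surjective θ) (hk : θ.ker ≤ Subgroup.center S) (hperf : commutator S = ⊤) {s : S} (hs : f s ≠ 1) :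
    f.ker ≤ θ.ker := by
  have hn : (f.ker.map θ).Normal := Subgroup.Normal.map inferInstance θ hθ
  rcases hn.eq_bot_or_eq_top with h | h
  · intro x hx
    have h1 : θ x ∈ f.ker.map θ := ⟨x, hx, rfl⟩
    rw [h] at h1
    exact h1
  · exfalso
    have hc : ∀ x y : S, f x * f y = f y * f x := by
      intro x y
      have h1 : θ x ∈ f.ker.map θ := by rw [h]; exact Subgroup.mem_top _
      obtain ⟨n, hn, e⟩ := h1
      have h2 : n⁻¹ * x ∈ θ.ker := by rw [MonoidHom.mem_ker, map_mul, map_inv, e, inv_mul_cancel]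
      have h2' := hk h2
      rw [Subgroup.mem_center_iff] at h2'
      have h3 := congrArg f (h2' y)
      have h4 : f n = 1 := hn
      simp only [map_mul, map_inv, h4, inv_one, one_mul] at h3
      exact h3.symm
    have h1 : commutator S ≤ f.ker := by
      rw [commutator_def, Subgroup.commutator_le]
      intro x _ y _
      rw [MonoidHom.mem_ker, map_commutatorElement, commutatorElement_eq_one_iff_mul_comm]
      exact hc x y
    rw [hperf] at h1
    exact hs (h1 (Subgroup.mem_top _))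

theorem card_dvd {S G Q : Type*} [Group S] [Group G] [Finite G] [Group Q] [Finite Q] (f : S →* G) (θ : S →* Q)
    (hθ : Function.Surjective θ) (hker : f.ker ≤ θ.ker) : Nat.card Q ∣ Nat.card f.range := by
  have hker' : f.rangeRestrict.ker ≤ θ.ker := by rw [MonoidHom.ker_rangeRestrict]; exact hker
  let ρ : f.range →* Q := f.rangeRestrict.liftOfSurjective f.rangeRestrict_surjective ⟨θ, hker'⟩
  have hρ : ∀ s, ρ (f.rangeRestrict s) = θ s := fun s =>
    f.rangeRestrict.liftOfRightInverse_comp_apply (Function.surjInv f.rangeRestrict_surjective)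
      (Function.rightInverse_surjInv f.rangeRestrict_surjective) ⟨θ, hker'⟩ s
  have hρs : Function.Surjective ρ := by
    intro y
    obtain ⟨s, rfl⟩ := hθ y
    exact ⟨_, hρ s⟩
  exact Subgroup.card_dvd_of_surjective ρ hρs

theorem mem_zpowers_of_cyclic {A : Type*} [Group A] [Finite A] [IsCyclic A] {l : ℕ} (hl : 0 < l) {a b : A}
    (ha : orderOf a = l) (hb : b ^ l = 1) : b ∈ zpowers a := by
  classical
  have := Fintype.ofFinite A
  have h1 := IsCyclic.card_pow_eq_one_le (α := A) hl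
  have h2 : ((zpowers a : Subgroup A) : Set A).toFinset ⊆ Finset.univ.filter fun x : A => x ^ l = 1 := by
    intro x hx
    rw [Set.mem_toFinset] at hx
    rw [Finset.mem_filter]
    refine ⟨Finset.mem_univ _, ?_⟩
    obtain ⟨k, rfl⟩ := hx
    have e : (a ^ k) ^ l = (a ^ l) ^ k := by rw [← zpow_natCast, ← zpow_natCast, ← zpow_mul, ← zpow_mul, mul_comm]
    show (a ^ k) ^ l = 1
    rw [e, ← ha, pow_orderOf_eq_one, one_zpow]
  have h3 : (Finset.univ.filter fun x : A => x ^ l = 1).card ≤ ((zpowers a : Subgroup A) : Set A).toFinset.card := by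
    refine h1.trans ?_
    rw [Set.toFinset_card, ← Nat.card_eq_fintype_card]
    have : Nat.card ↥(zpowers a) = l := by rw [Nat.card_zpowers, ha]
    exact this.ge
  have h4 := Finset.eq_of_subset_of_card_le h2 h3
  have h5 : b ∈ Finset.univ.filter fun x : A => x ^ l = 1 := Finset.mem_filter.2 ⟨Finset.mem_univ _, hb⟩
  rw [← h4, Set.mem_toFinset] at h5
  exact h5

theorem exists_conj_mem {G : Type*} [Group G] [Finite G] {l : ℕ} [hl : Fact l.Prime] (P : Sylow l G) {y : G}
    (hy : orderOf y = l) : ∃ g : G, g * y * g⁻¹ ∈ (P : Subgroup G) := by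
  have h1 : IsPGroup l (zpowers y) := IsPGroup.of_card (n := 1) (by rw [Nat.card_zpowers, hy, pow_one])
  obtain ⟨P1, hP1⟩ := h1.exists_le_sylow
  obtain ⟨g, rfl⟩ := MulAction.exists_smul_eq G P1 P
  refine ⟨g, ?_⟩
  rw [Sylow.coe_subgroup_smul]
  exact Subgroup.smul_mem_pointwise_smul y (MulAut.conj g) (P1 : Subgroup G) (hP1 (mem_zpowers y))

theorem orderOf_cj {G : Type*} [Group G] (g y : G) : orderOf (g * y * g⁻¹) = orderOf y :=
  orderOf_injective (MulAut.conj g).toMonoidHom (MulEquiv.injective _) y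

theorem exists_conj_zpowers {G : Type*} [Group G] [Finite G] {l : ℕ} [hl : Fact l.Prime] {P : Sylow l G}
    (hP : IsCyclic (P : Subgroup G)) {y y' : G} (hy : orderOf y = l) (hy' : orderOf y' = l) :
    ∃ g, y ∈ zpowers (g * y' * g⁻¹) := by
  obtain ⟨g1, h1⟩ := exists_conj_mem P hy
  obtain ⟨g2, h2⟩ := exists_conj_mem P hy'
  have o1 : orderOf (g1 * y * g1⁻¹) = l := by rw [orderOf_cj, hy]
  have o2 : orderOf (g2 * y' * g2⁻¹) = l := by rw [orderOf_cj, hy']
  have h3 := mem_zpowers_of_cyclic (A := (P : Subgroup G)) hl.out.pos (a := ⟨_, h2⟩) (b := ⟨_, h1⟩)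
    (by rw [Subgroup.orderOf_mk, o2]) (by
      apply Subtype.ext
      show (g1 * y * g1⁻¹) ^ l = 1
      rw [← o1]
      exact pow_orderOf_eq_one _)
  obtain ⟨k, hk⟩ := h3
  have h4 : (g2 * y' * g2⁻¹) ^ k = g1 * y * g1⁻¹ := congrArg Subtype.val hk
  refine ⟨g1⁻¹ * g2, k, ?_⟩
  show (g1⁻¹ * g2 * y' * (g1⁻¹ * g2)⁻¹) ^ k = y
  have h5 : g1⁻¹ * g2 * y' * (g1⁻¹ * g2)⁻¹ = g1⁻¹ * (g2 * y' * g2⁻¹) * (g1⁻¹)⁻¹ := by group
  rw [h5, conj_zpow, h4]
  group

/-- **Growth, main lemma.** -/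
theorem growth_main {S G Q : Type*} [Group S] [Group G] [Finite G] [Group Q] [Finite Q] (hQ : IsSimpleGroup Q)
    (f : S →* G) (θ : S →* Q) (hθ : Function.Surjective θ) (hk : θ.ker ≤ Subgroup.center S)
    (hperf : commutator S = ⊤) {s : S} (hs : f s ≠ 1) {p l : ℕ} (hp : p.Prime) [hl : Fact l.Prime] {x6 : Q}
    (hx6 : orderOf x6 = p) (hb : UGood 1 (2 * (p + 1)) x6) (hlQ : l ∣ Nat.card Q) {P : Sylow l G}
    (hP : IsCyclic (P : Subgroup G)) {y : G} (hy : orderOf y = l) (hyG : UGood 1 (2 * (p + 1)) y) :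
    FprRow (p + 1) 1 p G := by
  have hker := ker_le hQ f θ hθ hk hperf hs
  obtain ⟨x, hx, hxp, hxK⟩ := exists_lift f θ hθ hker hk hperf hp hx6 hb
  obtain ⟨y', hy'⟩ := exists_prime_orderOf_dvd_card' l (hlQ.trans (card_dvd f θ hθ hker))
  have hy'' : orderOf (y' : G) = l := by rw [← hy']; exact Subgroup.orderOf_coe y'
  obtain ⟨g, hg⟩ := exists_conj_zpowers hP hy hy''
  have h1 := uGood_conj (uGood_of_zpowers hyG hg) g⁻¹
  have h2 : g⁻¹ * (g * (y' : G) * g⁻¹) * g⁻¹⁻¹ = y' := by group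
  rw [h2] at h1
  exact row_of_growth hp hx y'.2 hxp hxK h1

end Cfsg.Agent.H441.FPR.Grow
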