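import Cfsg.Agent.H441.FPR.HeisA

/-!
# Elements of prime order in the Levi subgroup `L₀` of a long root
-/

set_option autoImplicit false
set_option linter.unusedSectionVars false
set_option linter.unusedVariables false

namespace Cfsg.Agent.H441.FPR.Heis

open CoxeterSystem Cfsg.Agent.ChevalleyStructure.CoxeterGeom Cfsg.Agent.Tits.Roots Cfsg.Agent.Tits.Core
  Cfsg.Agent.Tits.Exchange Cfsg.Agent.Nodes.Reps Cfsg.Agent.Nodes.BNOf Cfsg.Agent.Nodes.StabComb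
  Cfsg.Agent.Nodes.Bruhat Cfsg.Agent.Nodes.OppDec Cfsg.Agent.Nodes.PosPair Cfsg.Agent.Nodes.Coroot
  Cfsg.Agent.KFacts.RgdPar Cfsg.Agent.KFacts.RgdSL Cfsg.Agent.KFacts.RgdTI Cfsg.Agent.Nodes.LeviDec
open Cfsg.Agent.H400.TwoExc Cfsg.Agent.H400.Fpr
open Cfsg.Agent.H398.FPR (CommFull UGood Pair)
open Cfsg.Agent.H435.Fpr (PairM T3M_uGood)
open Subgroup MulAction
open scoped commutatorElement Pointwise

section Abs

variable {Y : Type*} [Group Y]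

theorem mul_norm {A B : Subgroup Y} (hAB : ∀ a ∈ A, ∀ b ∈ B, a * b * a⁻¹ ∈ B) {y : Y} (hy : y ∈ A ⊔ B) :
    ∃ a ∈ A, ∃ b ∈ B, y = a * b := by
  let S : Subgroup Y :=
    { carrier := {y | ∃ a ∈ A, ∃ b ∈ B, y = a * b}
      one_mem' := ⟨1, one_mem _, 1, one_mem _, by simp⟩
      mul_mem' := by
        rintro _ _ ⟨a, ha, b, hb, rfl⟩ ⟨a', ha', b', hb', rfl⟩
        refine ⟨a * a', mul_mem ha ha', (a'⁻¹ * b * a') * b', mul_mem ?_ hb', by group⟩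
        have := hAB a'⁻¹ (inv_mem ha') b hb
        rwa [inv_inv] at this
      inv_mem' := by
        rintro _ ⟨a, ha, b, hb, rfl⟩
        exact ⟨a⁻¹, inv_mem ha, a * b⁻¹ * a⁻¹, hAB a ha _ (inv_mem hb), by group⟩ }
  have h1 : A ⊔ B ≤ S := sup_le (fun a ha => ⟨a, ha, 1, one_mem _, by simp⟩) (fun b hb => ⟨1, one_mem _, b, hb, by simp⟩)
  exact h1 hy

theorem pow_mul_norm {A B : Subgroup Y} (hAB : ∀ a ∈ A, ∀ b ∈ B, a * b * a⁻¹ ∈ B) {a b : Y} (ha : a ∈ A) (hb : b ∈ B)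
    (k : ℕ) : ∃ b' ∈ B, (a * b) ^ k = a ^ k * b' := by
  induction k with
  | zero => exact ⟨1, one_mem _, by simp⟩
  | succ k ih =>
    obtain ⟨b', hb', h1⟩ := ih
    refine ⟨(a⁻¹ * b' * a) * b, mul_mem ?_ hb, ?_⟩
    · have := hAB a⁻¹ (inv_mem ha) b' hb'
      rwa [inv_inv] at this
    · rw [pow_succ, h1, pow_succ]; group

/-- elements of prime order in a product -/
theorem exists_mem_left [Finite Y] {A B : Subgroup Y} (hAB : ∀ a ∈ A, ∀ b ∈ B, a * b * a⁻¹ ∈ B) {ℓ N : ℕ}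
    (hℓ : ℓ.Prime) (hN : N.Coprime ℓ) (hB : ∀ b ∈ B, ∃ s : ℕ, b ^ N ^ s = 1) {y : Y} (hy : y ∈ A ⊔ B)
    (ho : orderOf y = ℓ) : ∃ a ∈ A, orderOf a = ℓ := by
  obtain ⟨a, ha, b, hb, rfl⟩ := mul_norm hAB hy
  obtain ⟨b', hb', h1⟩ := pow_mul_norm hAB ha hb (orderOf a)
  rw [pow_orderOf_eq_one, one_mul] at h1
  obtain ⟨s, hs⟩ := hB b' hb'
  have h2 : ℓ ∣ orderOf a := by
    have h3 : (a * b) ^ (orderOf a * N ^ s) = 1 := by rw [pow_mul, h1, hs]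
    have h4 := orderOf_dvd_of_pow_eq_one h3
    rw [ho] at h4
    exact ((hN.symm.pow_right s)).dvd_of_dvd_mul_right h4
  obtain ⟨c, hc⟩ := h2
  have hc0 : c ≠ 0 := by
    rintro rfl
    rw [mul_zero] at hc
    exact (orderOf_pos a).ne' hc
  refine ⟨a ^ c, pow_mem ha c, ?_⟩
  rw [orderOf_pow_of_dvd hc0 ⟨ℓ, by rw [hc, mul_comm]⟩, hc]
  exact Nat.mul_div_cancel _ (Nat.pos_of_ne_zero hc0)

theorem mem_right_of_coprime [Finite Y] {A B : Subgroup Y} (hAB : ∀ a ∈ A, ∀ b ∈ B, a * b * a⁻¹ ∈ B) {ℓ N : ℕ}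
    (hN : N.Coprime ℓ) (hA : ∀ a ∈ A, a ^ N = 1) {y : Y} (hy : y ∈ A ⊔ B)
    (ho : orderOf y = ℓ) : y ∈ B := by
  obtain ⟨a, ha, b, hb, hab⟩ := mul_norm hAB hy
  obtain ⟨b', hb', h1⟩ := pow_mul_norm hAB ha hb N
  rw [hA a ha, one_mul, ← hab] at h1
  refine mem_of_coprime_pow hN (by rw [h1]; exact hb') (n := ℓ) ?_
  rw [← ho, pow_orderOf_eq_one]
  exact one_mem _

end Abs

variable {I W Y : Type*} [Fintype I] [DecidableEq I] [Group W] [Group Y] {M : CoxeterMatrix I}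
  {cs : CoxeterSystem M W} {A : I → I → ℤ} {h : IsCartan M A} {p : ℕ} {T : Subgroup Y} {n : I → Y}
  {X : (I → ℤ) → Subgroup Y}

theorem tor_Sup (R : RGD cs h p T n X) {S : Set (I → ℤ)} (hS : ∀ s ∈ S, IsRoot cs h s) {t : Y} (ht : t ∈ T) :
    ∀ y ∈ RGD.Sup X S, t * y * t⁻¹ ∈ RGD.Sup X S := by
  have h1 : RGD.Sup X S ≤ (RGD.Sup X S).comap (MulAut.conj t).toMonoidHom := by
    refine RGD.Sup_le fun s hs v hv => ?_
    show t * v * t⁻¹ ∈ RGD.Sup X S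
    refine RGD.le_Sup hs ?_
    rw [← R.tor s (hS s hs) t ht]
    exact conj_mem_cj.2 hv
  exact fun y hy => h1 hy

/-- **Elements of prime order in `L₀`.** -/
theorem exists_L0 {R : RGD cs h p T n X} {r : I → ℤ} [Finite W] [Finite Y] [Fact p.Prime] (H : Hs R r)
    {ℓ N : ℕ} (hℓ : ℓ.Prime) (hℓp : ℓ ≠ p) (hN : N.Coprime ℓ) (hT : ∀ t ∈ T, t ^ N = 1)
    (hQp : IsPGroup p (QQ cs h X r)) (hd : ℓ ∣ Nat.card (PS T X (Ge cs h r))) :
    ∃ x ∈ L0 cs h X r, orderOf x = ℓ := by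
  have : Fact ℓ.Prime := ⟨hℓ⟩
  have hp : p.Prime := Fact.out
  obtain ⟨y, hy⟩ := exists_prime_orderOf_dvd_card' ℓ hd
  have hyo : orderOf (y : Y) = ℓ := by rw [Subgroup.orderOf_coe]; exact hy
  have hSup : PS T X (Ge cs h r) ≤ T ⊔ (L0 cs h X r ⊔ QQ cs h X r) := by
    refine sup_le_sup_left ?_ _
    refine RGD.Sup_le fun s hs => ?_
    rcases lt_or_eq_of_le hs.2 with h0 | h0
    · exact (RGD.le_Sup (S := Gt cs h r) ⟨hs.1, h0⟩).trans le_sup_right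
    · exact (RGD.le_Sup (S := {s | IsRoot cs h s ∧ cpr cs h s r = 0}) ⟨hs.1, h0.symm⟩).trans le_sup_left
  have hT1 : ∀ t ∈ T, ∀ y ∈ L0 cs h X r ⊔ QQ cs h X r, t * y * t⁻¹ ∈ L0 cs h X r ⊔ QQ cs h X r := by
    intro t ht
    have h1 : L0 cs h X r ⊔ QQ cs h X r ≤ (L0 cs h X r ⊔ QQ cs h X r).comap (MulAut.conj t).toMonoidHom := by
      refine sup_le ?_ ?_
      · intro y hy
        exact Subgroup.mem_sup_left (tor_Sup R (S := {s | IsRoot cs h s ∧ cpr cs h s r = 0}) (fun s hs => hs.1) ht y hy)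
      · intro y hy
        exact Subgroup.mem_sup_right (tor_Sup R (S := Gt cs h r) (fun s hs => hs.1) ht y hy)
    exact fun y hy => h1 hy
  have h2 := mem_right_of_coprime hT1 hN hT (hSup y.2) hyo
  refine exists_mem_left (N := p) (fun a ha b hb => L0_norm H ha b hb) hℓ ((Nat.coprime_primes hp hℓ).2 hℓp.symm) ?_ h2 hyo
  intro b hb
  obtain ⟨s, hs⟩ := hQp ⟨b, hb⟩
  exact ⟨s, congrArg Subtype.val hs⟩

/-- transport of the scalar element -/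
theorem ScR.act {R : RGD cs h p T n X} {r : I → ℤ} [Finite W] (hr : IsRoot cs h r) {q : ℕ} {g : Y} (S : ScR R r q g)
    {w : W} {k : Y} (hk : Rp cs R.nsys w k) : ScR R (rep cs h w r) q (k * g * k⁻¹) := by
  have hGt : ∀ s ∈ Gt cs h (rep cs h w r), rep cs h w⁻¹ s ∈ Gt cs h r := by
    intro s hs
    refine ⟨hs.1.act _, ?_⟩
    have h1 := hs.2
    have h2 : s = rep cs h w (rep cs h w⁻¹ s) := by
      rw [← rep_mul_apply, mul_inv_cancel, map_one, Module.End.one_apply]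
    rw [h2, cpr_rep cs h w _ hr] at h1
    exact h1
  have hX : ∀ s ∈ Gt cs h (rep cs h w r), ∀ u ∈ X s, k⁻¹ * u * k ∈ X (rep cs h w⁻¹ s) := fun s hs u hu =>
    R.conj_mem' hk hs.1 hu
  have hX' : ∀ s ∈ Gt cs h (rep cs h w r), ∀ u ∈ X (rep cs h w⁻¹ s), k * u * k⁻¹ ∈ X s := by
    intro s hs u hu
    have h1 := R.conj_mem hk (hs.1.act w⁻¹) hu
    rwa [← rep_mul_apply, mul_inv_cancel, map_one, Module.End.one_apply] at h1
  refine ⟨S.two, ?_, ?_, ?_⟩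
  · have h1 : cj k (X r ⊔ X (-r)) = X (rep cs h w r) ⊔ X (-rep cs h w r) := by
      unfold cj
      rw [Subgroup.map_sup]
      congr 1
      · exact R.conj_rp hk hr
      · have := R.conj_rp hk hr.neg
        rw [map_neg] at this
        exact this
    rw [← h1]
    exact conj_mem_cj.2 S.mem
  · intro s hs u hu
    have h1 := hX' s hs _ (S.nor _ (hGt s hs) _ (hX s hs u hu))
    have h2 : k * (g * (k⁻¹ * u * k) * g⁻¹) * k⁻¹ = k * g * k⁻¹ * u * (k * g * k⁻¹)⁻¹ := by group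
    rwa [h2] at h1
  · intro i hi hiq s hs hsr u hu
    have h3 : rep cs h w⁻¹ s ≠ r := by
      intro h4
      apply hsr
      rw [← h4, ← rep_mul_apply, mul_inv_cancel, map_one, Module.End.one_apply]
    obtain ⟨u', hu', h1⟩ := S.sur i hi hiq _ (hGt s hs) h3 _ (hX s hs u hu)
    refine ⟨k * u' * k⁻¹, hX' s hs _ hu', ?_⟩
    have h2 : (k * g * k⁻¹) ^ i = k * g ^ i * k⁻¹ := conj_pow
    rw [h2]
    have h5 : ⁅k * g ^ i * k⁻¹, k * u' * k⁻¹⁆ = k * ⁅g ^ i, u'⁆ * k⁻¹ := by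
      simp only [commutatorElement_def]; group
    rw [h5, h1]
    group

/-- both Heisenberg lemmas for a long root, given the order of `C_Q(x)` -/
theorem uGood_scalar {R : RGD cs h p T n X} {r : I → ℤ} [Finite W] [Finite Y] [Fact p.Prime] (H : Hs R r)
    (hs : IsSimpleGroup Y) (hcen : Subgroup.center Y = ⊥) (hG1 : Cfsg.Agent.Nodes.RGDLib.G1 cs h X = ⊤)
    {q D ℓ k M' : ℕ} {g : Y} (S : ScR R r q g)
    (hℓ : ℓ.Prime) (hℓp : ℓ ≠ p) {x : Y} (hx : x ∈ L0 cs h X r) (hxk : x ^ ℓ ^ k = 1) (hx1 : x ≠ 1)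
    (hQp : IsPGroup p (QQ cs h X r))
    (hcard : Nat.card ↥(QQ cs h X r ⊓ centralizer {x}) < q ^ (D + 1) * Nat.card (X r))
    (hM : ∀ t : ℕ, t ≠ 0 → p ^ t ≡ 1 [MOD ℓ] → M' ≤ p ^ t) (hM1 : 1 ≤ M') :
    UGood (D + 2) (M' + D + 1) x := by
  obtain ⟨m, HXx, hm, hcj, hgen, hmx, hne⟩ := rgd_input H hs hcen hG1 hℓ hℓp hx hxk hx1 hQp
  refine heis_uGoodC (Fact.out : p.Prime) hℓ rfl HXx (S.sc H) hm ?_ hgen hmx (L0_comm H hx S.mem).symm hne hcard hM hM1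
  rw [hcj]
  exact S.mem

theorem uGood_small {R : RGD cs h p T n X} {r : I → ℤ} [Finite W] [Finite Y] [Fact p.Prime] (H : Hs R r)
    (hs : IsSimpleGroup Y) (hcen : Subgroup.center Y = ⊥) (hG1 : Cfsg.Agent.Nodes.RGDLib.G1 cs h X = ⊤)
    {d ℓ k M' : ℕ} (hℓ : ℓ.Prime) (hℓp : ℓ ≠ p) {x : Y} (hx : x ∈ L0 cs h X r) (hxk : x ^ ℓ ^ k = 1) (hx1 : x ≠ 1)
    (hQp : IsPGroup p (QQ cs h X r))
    (hcard : Nat.card ↥(QQ cs h X r ⊓ centralizer {x}) ≤ d * Nat.card (X r)) (hd : 0 < d)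
    (hM : ∀ t : ℕ, t ≠ 0 → p ^ t ≡ 1 [MOD ℓ] → M' ≤ p ^ t) (hM1 : 1 ≤ M') :
    UGood (d + 1) (M' + d) x := by
  obtain ⟨m, HXx, hm, hcj, hgen, hmx, hne⟩ := rgd_input H hs hcen hG1 hℓ hℓp hx hxk hx1 hQp
  exact heis_small (Fact.out : p.Prime) hℓ rfl HXx hm hs hgen hmx hne hcard hd hM hM1

end Cfsg.Agent.H441.FPR.Heis
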