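import Cfsg.Agent.H441.FPR.HeisB
import Cfsg.Agent.H400.TwoExcE
import Cfsg.Agent.H400.TwoExcChev
import Cfsg.Agent.OddHalf.NI.ModelChev

/-!
# The Heisenberg lemma for the Chevalley groups
-/

set_option autoImplicit false
set_option linter.unusedSectionVars false
set_option linter.unusedVariables false

namespace Cfsg.Agent.H441.FPR.Heis

open CoxeterSystem Cfsg.Agent.ChevalleyStructure.CoxeterGeom Cfsg.Agent.Tits.Roots Cfsg.Agent.Tits.Core
  Cfsg.Agent.Nodes.Reps Cfsg.Agent.Nodes.BNOf Cfsg.Agent.Nodes.Coroot Cfsg.Agent.Nodes.LeviDec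
  Cfsg.Agent.Nodes.PosPair Cfsg.Agent.Nodes.StabComb
  Cfsg.Agent.KFacts.RgdPar Cfsg.Agent.KFacts.RgdSL Cfsg.Agent.KFacts.RgdTI Cfsg.Agent.Nodes.RGDChev
  Cfsg.Agent.ChevalleyStructure.CoxeterGeomTypes
open Cfsg.Lie Cfsg.Agent.ChevalleyStructure Cfsg.Agent.ChevalleyStructure.Elts Cfsg.Agent.ChevalleyStructure.NPerm
open Cfsg.Agent.KFacts.RgdChevCoord Cfsg.Agent.Nodes.ChevCls
open Cfsg.Agent.H400.TwoExc Cfsg.Agent.H400.Fpr
open Cfsg.Agent.FixBN.FieldRGD (uu vv dd ww)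

universe u

variable {D : ChevalleyDatum} {l : ℕ} {M : CoxeterMatrix (Fin l)} (hp : IsType D l M) {K : Type u} [Field K]

/-- the torus elements act on the root groups by scalars -/
theorem spar_hc {r : ℕ} (hr : r < D.nroots) (i : Fin l) {c : K} (hc0 : c ≠ 0) (h1 : D.cartan i r = 1) :
    SPar (XX D l K (vec D l r)) (hc hp i c) c := by
  refine ⟨⊤, xc hp (vec D l r), Subfield.mem_top _, ?_, ?_, ?_, ?_⟩
  · intro u
    rw [mem_XX hp hr]
    constructor
    · rintro ⟨a, rfl⟩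
      exact ⟨a, Subfield.mem_top _, rfl⟩
    · rintro ⟨a, -, rfl⟩
      exact ⟨a, rfl⟩
  · intro a _ b _
    apply Subtype.ext
    rw [Subgroup.coe_mul, coe_xc hp hr, coe_xc hp hr, coe_xc hp hr]
    exact (xG_add hp.inList r a b).symm
  · intro a _ b _ hab
    exact xc_inj hp hr hab
  · intro a _
    obtain ⟨-, h2⟩ := act hp hr (hc_mem hp i hc0)
    rw [h2 a, ch_hc hp i hc0 hr, h1, zpow_one]

theorem spar_hc_self (i : Fin l) {c : K} (hc0 : c ≠ 0) :
    SPar (XX D l K (sr i)) (hc hp i c) (c ^ 2) := by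
  have hr := simple_lt hp.inList (lt_rank hp i)
  rw [← vec_simple hp i]
  refine ⟨⊤, xc hp (vec D l (D.simple i)), Subfield.mem_top _, ?_, ?_, ?_, ?_⟩
  · intro u
    rw [mem_XX hp hr]
    constructor
    · rintro ⟨a, rfl⟩
      exact ⟨a, Subfield.mem_top _, rfl⟩
    · rintro ⟨a, -, rfl⟩
      exact ⟨a, rfl⟩
  · intro a _ b _
    apply Subtype.ext
    rw [Subgroup.coe_mul, coe_xc hp hr, coe_xc hp hr, coe_xc hp hr]
    exact (xG_add hp.inList _ a b).symm
  · intro a _ b _ hab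
    exact xc_inj hp hr hab
  · intro a _
    obtain ⟨-, h2⟩ := act hp hr (hc_mem hp i hc0)
    rw [h2 a, ch_hc hp i hc0 hr, ← cartanOf_def D l i i, hp.isCartan.diag]
    norm_num

/-- a generator of the multiplicative group -/
theorem exists_gen (K : Type u) [Field K] [Fintype K] :
    ∃ c : K, c ≠ 0 ∧ ∀ i : ℕ, 0 < i → i + 1 < Fintype.card K → c ^ i ≠ 1 := by
  obtain ⟨g, hg⟩ := IsCyclic.exists_generator (α := Kˣ)
  have h1 : orderOf g = Fintype.card K - 1 := by
    rw [orderOf_eq_card_of_forall_mem_zpowers hg, Nat.card_units, Nat.card_eq_fintype_card]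
  refine ⟨g, g.ne_zero, fun i hi hiq h2 => ?_⟩
  have h3 : g ^ i = 1 := Units.ext (by rw [Units.val_pow_eq_pow_val, h2, Units.val_one])
  have h4 := Nat.le_of_dvd hi (orderOf_dvd_of_pow_eq_one h3)
  omega

/-- **The scalar element.** -/
theorem scR_chev [Fintype K] {W : Type*} [Group W] [Finite W] (cs : CoxeterSystem M W) (p : ℕ) [Fact p.Prime] [CharP K p]
    {i : Fin l} {w : W} {r : Fin l → ℤ} (hw : rep cs hp.isCartan w (sr i) = r)
    (hone : ∀ s ∈ Gt cs hp.isCartan (sr i), s ≠ sr i → cpr cs hp.isCartan s (sr i) = 1) (hK : 2 < Fintype.card K) :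
    ∃ g, ScR (rgd (K := K) hp cs p) r (Fintype.card K) g := by
  obtain ⟨c, hc0, hcc⟩ := exists_gen K
  have S : ScR (rgd (K := K) hp cs p) (sr i) (Fintype.card K) (hc hp i c) := by
    refine scR_of_par (t := c) hK ?_ ?_ (spar_hc_self hp i hc0) hcc
    · obtain ⟨φ, -, -, -, h4, h5⟩ := Cfsg.Agent.OddHalf.NI.ModelChev.exists_sl_node hp (K := K) i
      have h6 : φ (dd c hc0) ∈ φ.range := ⟨_, rfl⟩
      rw [h4, h5] at h6
      exact h6
    · intro s hs hsr
      obtain ⟨k, hk, rfl⟩ := (isRoot_iff hp cs _).1 hs.1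
      have h1 := hone _ hs hsr
      rw [cpr_sr, pairing_vec hp i hk] at h1
      exact spar_hc hp hk i hc0 h1
  obtain ⟨k, hk⟩ := exists_rp cs (rgd (K := K) hp cs p).nsys w
  rw [← hw]
  exact ⟨_, ScR.act (isRoot_sr cs hp.isCartan i) S hk⟩

include hp in
/-- the exponent of the torus -/
theorem tor_pow [Fintype K] {t : ↥(D.group K)} (ht : t ∈ TT D K) : t ^ (Fintype.card K - 1) = 1 := by
  rw [Subgroup.mem_subgroupOf] at ht
  obtain ⟨χ, hχ⟩ := HMatDiagAll.mem_torus.1 (HMatDiagAll.diagonalSubgroup_le_torus hp.inList ht)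
  have hinv : (((t⁻¹ : ↥(D.group K)) : GL D.Idx K) : Matrix D.Idx D.Idx K) * ((t : GL D.Idx K) : Matrix _ _ K) = 1 := by
    rw [← Units.val_mul, ← Subgroup.coe_mul, inv_mul_cancel]; rfl
  have hne : ∀ i, χ i ≠ 0 := by
    intro i h0
    rw [hχ] at hinv
    have h1 := congrFun (congrFun hinv (Sum.inr i)) (Sum.inr i)
    rw [Matrix.mul_diagonal, Matrix.one_apply_eq, Sum.elim_inr, h0, mul_zero] at h1
    exact zero_ne_one h1
  apply Subtype.ext
  apply Units.ext
  rw [Subgroup.coe_pow, Units.val_pow_eq_pow_val, hχ, Matrix.diagonal_pow, Subgroup.coe_one, Units.val_one,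
    ← Matrix.diagonal_one]
  congr 1
  funext i
  rcases i with i | i
  · simp
  · rw [Pi.pow_apply, Sum.elim_inr]
    exact FiniteField.pow_card_sub_one_eq_one _ (hne i)

end Cfsg.Agent.H441.FPR.Heis
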