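import Cfsg.Agent.H441.FPR.HeisD
import Cfsg.Agent.S1054
import Cfsg.Agent.S1062
import Cfsg.Agent.S1063
import Cfsg.Agent.S1064
import Cfsg.Agent.S1065

/-!
# The Heisenberg lemma for the Chevalley groups: orders of the parabolic subgroups
-/

set_option autoImplicit false
set_option linter.unusedSectionVars false
set_option linter.unusedVariables false
set_option maxRecDepth 100000

namespace Cfsg.Agent.H441.FPR.Heis

open CoxeterSystem Cfsg.Agent.ChevalleyStructure.CoxeterGeom Cfsg.Agent.Tits.Roots Cfsg.Agent.Tits.Core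
  Cfsg.Agent.Nodes.Reps Cfsg.Agent.Nodes.BNOf Cfsg.Agent.Nodes.Coroot Cfsg.Agent.Nodes.LeviDec
  Cfsg.Agent.Nodes.PosPair Cfsg.Agent.Nodes.StabComb Cfsg.Agent.Nodes.KindChev Cfsg.Agent.KFacts.RgdCent
  Cfsg.Agent.Nodes.Bruhat Cfsg.Agent.Nodes.OppDec Cfsg.Agent.Tits.Exchange
  Cfsg.Agent.KFacts.RgdPar Cfsg.Agent.KFacts.RgdSL Cfsg.Agent.KFacts.RgdTI Cfsg.Agent.Nodes.RGDChev
  Cfsg.Agent.ChevalleyStructure.CoxeterGeomTypes
open Cfsg.Lie Cfsg.Agent.ChevalleyStructure Cfsg.Agent.ChevalleyStructure.Elts Cfsg.Agent.ChevalleyStructure.NPerm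
open Cfsg.Agent.KFacts.RgdChevCoord Cfsg.Agent.Nodes.ChevCls
open Cfsg.Agent.H400.TwoExc Cfsg.Agent.H400.Fpr
open Cfsg.Agent.H398.FPR (UGood)

universe u

/-! ### Polynomial identities -/

theorem idE8 (q : ℤ) : ((exE8.map fun z => q ^ z.1 + q ^ z.2).sum) * ((q - 1) * (q ^ 6 - 1) * (q ^ 10 - 1)) =
    (q ^ 20 - 1) * (q ^ 24 - 1) * (q ^ 30 - 1) := by
  unfold exE8
  simp only [List.map_cons, List.map_nil, List.sum_cons, List.sum_nil]
  ring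

theorem idE7 (q : ℤ) : ((exE7.map fun z => q ^ z.1 + q ^ z.2).sum) * ((q - 1) * (q ^ 4 - 1) * (q ^ 6 - 1)) =
    (q ^ 12 - 1) * (q ^ 14 - 1) * (q ^ 18 - 1) := by
  unfold exE7
  simp only [List.map_cons, List.map_nil, List.sum_cons, List.sum_nil]
  ring

theorem idE6 (q : ℤ) : ((exE6.map fun z => q ^ z.1 + q ^ z.2).sum) * ((q - 1) * (q ^ 3 - 1) * (q ^ 4 - 1)) =
    (q ^ 8 - 1) * (q ^ 9 - 1) * (q ^ 12 - 1) := by
  unfold exE6
  simp only [List.map_cons, List.map_nil, List.sum_cons, List.sum_nil]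
  ring

theorem idF4 (q : ℤ) : ((exF4c.map fun z => q ^ z.1 + q ^ z.2).sum) * ((q - 1) * (q ^ 4 - 1)) =
    (q ^ 8 - 1) * (q ^ 12 - 1) := by
  unfold exF4c
  simp only [List.map_cons, List.map_nil, List.sum_cons, List.sum_nil]
  ring

theorem cast_sum (ex : List (ℕ × ℕ)) (q : ℕ) :
    (((ex.map fun z => q ^ z.1 + q ^ z.2).sum : ℕ) : ℤ) = (ex.map fun z => (q : ℤ) ^ z.1 + (q : ℤ) ^ z.2).sum := by
  induction ex with
  | nil => rfl
  | cons a ex ih =>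
    rw [List.map_cons, List.sum_cons, List.map_cons, List.sum_cons, Nat.cast_add, ih, Nat.cast_add, Nat.cast_pow,
      Nat.cast_pow]

theorem cast_sub {q m : ℕ} (hq : 0 < q) : ((q ^ m - 1 : ℕ) : ℤ) = (q : ℤ) ^ m - 1 := by
  rw [Nat.cast_sub (Nat.one_le_pow _ _ hq)]
  push_cast
  rfl

theorem pow_sub_ne {q m : ℕ} (hq : 2 ≤ q) (hm : m ≠ 0) : (q : ℤ) ^ m - 1 ≠ 0 := by
  have h1 : 1 < q ^ m := Nat.one_lt_pow hm (by omega)
  have h2 : (1 : ℤ) < (q : ℤ) ^ m := by exact_mod_cast h1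
  omega

section Card

variable {K : Type u} [Field K] [Fintype K]

theorem two_le_q : 2 ≤ Fintype.card K := Fintype.one_lt_card

/-- the order of the parabolic subgroup of `E₈(q)` -/
theorem card_P_E8 {W : Type} [Group W] [Finite W] (cs : CoxeterSystem CoxeterMatrix.E₈ W) (p : ℕ) [Fact p.Prime] [CharP K p]
    (hp : IsType chevE8 8 CoxeterMatrix.E₈) :
    (Nat.card ↥(PS (TT chevE8 K) (XX chevE8 8 K) (Ge cs hp.isCartan (toV [2, 3, 4, 6, 5, 4, 3, 2]))) : ℤ) =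
    (Fintype.card K : ℤ) ^ 120 * ((Fintype.card K : ℤ) - 1) * ((Fintype.card K : ℤ) ^ 2 - 1) *
      ((Fintype.card K : ℤ) ^ 6 - 1) * ((Fintype.card K : ℤ) ^ 8 - 1) * ((Fintype.card K : ℤ) ^ 10 - 1) *
      ((Fintype.card K : ℤ) ^ 12 - 1) * ((Fintype.card K : ℤ) ^ 14 - 1) * ((Fintype.card K : ℤ) ^ 18 - 1) := by
  have hH := hd_E8 (K := K) cs p
  have h1 := hH.index
  have h2 := Subgroup.card_mul_index (PS (TT chevE8 K) (XX chevE8 8 K) (Ge cs hp.isCartan (toV [2, 3, 4, 6, 5, 4, 3, 2])))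
  rw [h1, Cfsg.Agent.S1065.result (F := K) rfl] at h2
  have hq := two_le_q (K := K)
  set q := Fintype.card K with hqd
  have h3 := congrArg (Nat.cast : ℕ → ℤ) h2
  push_cast [cast_sub (q := q) (by omega : 0 < q)] at h3
  have h4 := cast_sum exE8 q
  push_cast at h4
  rw [h4] at h3
  have h5 := idE8 (q : ℤ)
  have h6 : ((q : ℤ) ^ 20 - 1) * ((q : ℤ) ^ 24 - 1) * ((q : ℤ) ^ 30 - 1) ≠ 0 :=
    mul_ne_zero (mul_ne_zero (pow_sub_ne hq (by norm_num)) (pow_sub_ne hq (by norm_num))) (pow_sub_ne hq (by norm_num))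
  refine mul_right_cancel₀ h6 ?_
  set S := (exE8.map fun z => (q : ℤ) ^ z.1 + (q : ℤ) ^ z.2).sum with hS
  set P := (Nat.card ↥(PS (TT chevE8 K) (XX chevE8 8 K) (Ge cs hp.isCartan (toV [2, 3, 4, 6, 5, 4, 3, 2]))) : ℤ) with hP
  rw [← h5]
  calc P * (S * ((↑q - 1) * (↑q ^ 6 - 1) * (↑q ^ 10 - 1))) = (P * S) * ((↑q - 1) * (↑q ^ 6 - 1) * (↑q ^ 10 - 1)) := by ring
    _ = _ := by rw [h3, h5]; ring

theorem card_P_E7 {W : Type} [Group W] [Finite W] (cs : CoxeterSystem CoxeterMatrix.E₇ W) (p : ℕ) [Fact p.Prime] [CharP K p]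
    (hp : IsType chevE7 7 CoxeterMatrix.E₇) :
    ((Nat.gcd 2 (Fintype.card K - 1) : ℕ) : ℤ) *
    (Nat.card ↥(PS (TT chevE7 K) (XX chevE7 7 K) (Ge cs hp.isCartan (toV [2, 2, 3, 4, 3, 2, 1]))) : ℤ) =
    (Fintype.card K : ℤ) ^ 63 * ((Fintype.card K : ℤ) - 1) * ((Fintype.card K : ℤ) ^ 2 - 1) *
      ((Fintype.card K : ℤ) ^ 4 - 1) * ((Fintype.card K : ℤ) ^ 6 - 1) ^ 2 * ((Fintype.card K : ℤ) ^ 8 - 1) *
      ((Fintype.card K : ℤ) ^ 10 - 1) := by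
  have hH := hd_E7 (K := K) cs p
  have h1 := hH.index
  have h2 := Subgroup.card_mul_index (PS (TT chevE7 K) (XX chevE7 7 K) (Ge cs hp.isCartan (toV [2, 2, 3, 4, 3, 2, 1])))
  have h0 := Cfsg.Agent.S1064.result (F := K) rfl
  rw [h1] at h2
  rw [← h2] at h0
  have hq := two_le_q (K := K)
  set q := Fintype.card K with hqd
  have h3 := congrArg (Nat.cast : ℕ → ℤ) h0
  push_cast [cast_sub (q := q) (by omega : 0 < q)] at h3
  have h4 := cast_sum exE7 q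
  push_cast at h4
  rw [h4] at h3
  have h5 := idE7 (q : ℤ)
  have h6 : ((q : ℤ) ^ 12 - 1) * ((q : ℤ) ^ 14 - 1) * ((q : ℤ) ^ 18 - 1) ≠ 0 :=
    mul_ne_zero (mul_ne_zero (pow_sub_ne hq (by norm_num)) (pow_sub_ne hq (by norm_num))) (pow_sub_ne hq (by norm_num))
  refine mul_right_cancel₀ h6 ?_
  set S := (exE7.map fun z => (q : ℤ) ^ z.1 + (q : ℤ) ^ z.2).sum with hS
  set P := (Nat.card ↥(PS (TT chevE7 K) (XX chevE7 7 K) (Ge cs hp.isCartan (toV [2, 2, 3, 4, 3, 2, 1]))) : ℤ) with hP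
  set g := ((Nat.gcd 2 (q - 1) : ℕ) : ℤ) with hg
  rw [← h5]
  calc g * P * (S * ((↑q - 1) * (↑q ^ 4 - 1) * (↑q ^ 6 - 1))) = (g * (P * S)) * ((↑q - 1) * (↑q ^ 4 - 1) * (↑q ^ 6 - 1)) := by ring
    _ = _ := by rw [h3, h5]; ring

theorem card_P_E6 {W : Type} [Group W] [Finite W] (cs : CoxeterSystem CoxeterMatrix.E₆ W) (p : ℕ) [Fact p.Prime] [CharP K p]
    (hp : IsType chevE6 6 CoxeterMatrix.E₆) :
    ((Nat.gcd 3 (Fintype.card K - 1) : ℕ) : ℤ) *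
    (Nat.card ↥(PS (TT chevE6 K) (XX chevE6 6 K) (Ge cs hp.isCartan (toV [1, 2, 2, 3, 2, 1]))) : ℤ) =
    (Fintype.card K : ℤ) ^ 36 * ((Fintype.card K : ℤ) - 1) * ((Fintype.card K : ℤ) ^ 2 - 1) *
      ((Fintype.card K : ℤ) ^ 3 - 1) * ((Fintype.card K : ℤ) ^ 4 - 1) * ((Fintype.card K : ℤ) ^ 5 - 1) *
      ((Fintype.card K : ℤ) ^ 6 - 1) := by
  have hH := hd_E6 (K := K) cs p
  have h1 := hH.index
  have h2 := Subgroup.card_mul_index (PS (TT chevE6 K) (XX chevE6 6 K) (Ge cs hp.isCartan (toV [1, 2, 2, 3, 2, 1])))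
  have h0 := Cfsg.Agent.S1063.result (F := K) rfl
  rw [h1] at h2
  rw [← h2] at h0
  have hq := two_le_q (K := K)
  set q := Fintype.card K with hqd
  have h3 := congrArg (Nat.cast : ℕ → ℤ) h0
  push_cast [cast_sub (q := q) (by omega : 0 < q)] at h3
  have h4 := cast_sum exE6 q
  push_cast at h4
  rw [h4] at h3
  have h5 := idE6 (q : ℤ)
  have h6 : ((q : ℤ) ^ 8 - 1) * ((q : ℤ) ^ 9 - 1) * ((q : ℤ) ^ 12 - 1) ≠ 0 :=
    mul_ne_zero (mul_ne_zero (pow_sub_ne hq (by norm_num)) (pow_sub_ne hq (by norm_num))) (pow_sub_ne hq (by norm_num))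
  refine mul_right_cancel₀ h6 ?_
  set S := (exE6.map fun z => (q : ℤ) ^ z.1 + (q : ℤ) ^ z.2).sum with hS
  set P := (Nat.card ↥(PS (TT chevE6 K) (XX chevE6 6 K) (Ge cs hp.isCartan (toV [1, 2, 2, 3, 2, 1]))) : ℤ) with hP
  set g := ((Nat.gcd 3 (q - 1) : ℕ) : ℤ) with hg
  rw [← h5]
  calc g * P * (S * ((↑q - 1) * (↑q ^ 3 - 1) * (↑q ^ 4 - 1))) = (g * (P * S)) * ((↑q - 1) * (↑q ^ 3 - 1) * (↑q ^ 4 - 1)) := by ring
    _ = _ := by rw [h3, h5]; ring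

theorem card_P_F4 {W : Type} [Group W] [Finite W] (cs : CoxeterSystem CoxeterMatrix.F₄ W) (p : ℕ) [Fact p.Prime] [CharP K p]
    (hp : IsType chevF4 4 CoxeterMatrix.F₄) :
    (Nat.card ↥(PS (TT chevF4 K) (XX chevF4 4 K) (Ge cs hp.isCartan (toV [2, 4, 3, 2]))) : ℤ) =
    (Fintype.card K : ℤ) ^ 24 * ((Fintype.card K : ℤ) - 1) * ((Fintype.card K : ℤ) ^ 2 - 1) *
      ((Fintype.card K : ℤ) ^ 4 - 1) * ((Fintype.card K : ℤ) ^ 6 - 1) := by
  have hH := hb_F4 (K := K) cs p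
  have h1 := hH.index
  have h2 := Subgroup.card_mul_index (PS (TT chevF4 K) (XX chevF4 4 K) (Ge cs hp.isCartan (toV [2, 4, 3, 2])))
  rw [h1, Cfsg.Agent.S1062.result (F := K) rfl] at h2
  have hq := two_le_q (K := K)
  set q := Fintype.card K with hqd
  have h3 := congrArg (Nat.cast : ℕ → ℤ) h2
  push_cast [cast_sub (q := q) (by omega : 0 < q)] at h3
  have h4 := cast_sum exF4c q
  push_cast at h4
  rw [h4] at h3
  have h5 := idF4 (q : ℤ)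
  have h6 : ((q : ℤ) ^ 8 - 1) * ((q : ℤ) ^ 12 - 1) ≠ 0 :=
    mul_ne_zero (pow_sub_ne hq (by norm_num)) (pow_sub_ne hq (by norm_num))
  refine mul_right_cancel₀ h6 ?_
  set S := (exF4c.map fun z => (q : ℤ) ^ z.1 + (q : ℤ) ^ z.2).sum with hS
  set P := (Nat.card ↥(PS (TT chevF4 K) (XX chevF4 4 K) (Ge cs hp.isCartan (toV [2, 4, 3, 2]))) : ℤ) with hP
  rw [← h5]
  calc P * (S * ((↑q - 1) * (↑q ^ 4 - 1))) = (P * S) * ((↑q - 1) * (↑q ^ 4 - 1)) := by ring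
    _ = _ := by rw [h3, h5]; ring

end Card

end Cfsg.Agent.H441.FPR.Heis
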