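import Cfsg.Agent.H441.FPR.HeisE
import Cfsg.Agent.H409.FprBasic

/-!
# The Heisenberg lemma for the Chevalley groups: the rows
-/

set_option autoImplicit false
set_option linter.unusedSectionVars false
set_option linter.unusedVariables false
set_option maxRecDepth 100000

namespace Cfsg.Agent.H441.FPR.Heis

open CoxeterSystem Cfsg.Agent.ChevalleyStructure.CoxeterGeom Cfsg.Agent.Tits.Roots Cfsg.Agent.Tits.Core
  Cfsg.Agent.Nodes.Reps Cfsg.Agent.Nodes.BNOf Cfsg.Agent.Nodes.Coroot Cfsg.Agent.Nodes.LeviDec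
  Cfsg.Agent.Nodes.PosPair Cfsg.Agent.Nodes.StabComb Cfsg.Agent.Nodes.KindChev Cfsg.Agent.KFacts.RgdCent
  Cfsg.Agent.Nodes.Bruhat Cfsg.Agent.Nodes.OppDec Cfsg.Agent.Tits.Exchange
  Cfsg.Agent.KFacts.RgdPar Cfsg.Agent.KFacts.RgdSL Cfsg.Agent.KFacts.RgdTI Cfsg.Agent.Nodes.RGDChev
  Cfsg.Agent.ChevalleyStructure.CoxeterGeomTypes
open Cfsg.Lie Cfsg.Agent.ChevalleyStructure Cfsg.Agent.ChevalleyStructure.Elts Cfsg.Agent.ChevalleyStructure.NPerm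
open Cfsg.Agent.KFacts.RgdChevCoord Cfsg.Agent.Nodes.ChevCls
open Cfsg.Agent.H400.TwoExc Cfsg.Agent.H400.Fpr
open Cfsg.Agent.H398.FPR (UGood Good)

universe u

section Gen

variable {D : ChevalleyDatum} {l : ℕ} {M : CoxeterMatrix (Fin l)} {hp : IsType D l M} {K : Type u} [Field K]
    [Fintype K] {W : Type} [Group W] [Finite W] {cs : CoxeterSystem M W} {p : ℕ} [Fact p.Prime] [CharP K p]
    {r : Fin l → ℤ} {k : ℕ} {ex : List (ℕ × ℕ)}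

theorem isPGroup_QQ (H : HB hp K cs p r k ex) : IsPGroup p (QQ cs hp.isCartan (XX D l K) r) := by
  obtain ⟨n, -, hn⟩ := FiniteField.card K p
  refine IsPGroup.of_card (n := n * (2 * k + 1)) ?_
  rw [H.cardQ, hn, ← pow_mul]

theorem exists_x (H : HD hp K cs p r k ex) {ℓ : ℕ} (hℓ : ℓ.Prime) (hℓp : ℓ ≠ p) (hℓq : ¬ ℓ ∣ Fintype.card K - 1)
    (hd : ℓ ∣ Nat.card (PS (TT D K) (XX D l K) (Ge cs hp.isCartan r))) :
    ∃ x ∈ L0 cs hp.isCartan (XX D l K) r, orderOf x = ℓ := by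
  have hfin : Finite ↥(D.group K) := inferInstance
  exact exists_L0 H.hs hℓ hℓp (((Nat.Prime.coprime_iff_not_dvd hℓ).2 hℓq).symm) (fun t ht => tor_pow hp ht)
    (isPGroup_QQ H.toHB) hd

theorem uGood_x (H : HD hp K cs p r k ex) (hs : IsSimpleGroup ↥(D.group K)) (hcen : Subgroup.center ↥(D.group K) = ⊥)
    (hK : 2 < Fintype.card K) {ℓ M' : ℕ} (hℓ : ℓ.Prime) (hℓp : ℓ ≠ p) {x : ↥(D.group K)}
    (hx : x ∈ L0 cs hp.isCartan (XX D l K) r) (hxo : orderOf x = ℓ)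
    (hM : ∀ t : ℕ, t ≠ 0 → p ^ t ≡ 1 [MOD ℓ] → M' ≤ p ^ t) (hM1 : 1 ≤ M') :
    UGood (2 * k + 2) (M' + 2 * k + 1) x := by
  have hfin : Finite ↥(D.group K) := inferInstance
  obtain ⟨i, w, hw, hone⟩ := H.long
  obtain ⟨g, S⟩ := scR_chev hp cs p hw hone hK
  refine uGood_scalar (k := 1) H.hs hs hcen (G1_eq_top hp cs) S hℓ hℓp hx (by rw [pow_one, ← hxo]; exact pow_orderOf_eq_one x)
    ?_ (isPGroup_QQ H.toHB) ?_ hM hM1
  · rintro rfl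
    rw [orderOf_one] at hxo
    exact hℓ.one_lt.ne hxo
  · refine lt_of_le_of_lt (Subgroup.card_le_of_le inf_le_left) ?_
    rw [H.cardQ, H.cardX, ← pow_succ]
    exact Nat.pow_lt_pow_right (by omega) (by omega)

end Gen

/-! ### Orders modulo `ℓ` -/

section Ord

variable {ℓ s : ℕ}

theorem half_ord (hℓ : ℓ.Prime) {m : ℕ} (hm : 0 < m) (h : orderOf (s : ZMod ℓ) = 2 * m) : (s : ZMod ℓ) ^ m = -1 := by
  have : Fact ℓ.Prime := ⟨hℓ⟩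
  have h1 : (s : ZMod ℓ) ^ (2 * m) = 1 := by rw [← h]; exact pow_orderOf_eq_one _
  have h2 : (s : ZMod ℓ) ^ m ≠ 1 := pow_ne_one_of_lt_orderOf (by omega) (by rw [h]; omega)
  have h3 : ((s : ZMod ℓ) ^ m - 1) * ((s : ZMod ℓ) ^ m + 1) = 0 := by
    have : (s : ZMod ℓ) ^ (2 * m) = ((s : ZMod ℓ) ^ m) ^ 2 := by rw [← pow_mul, mul_comm]
    rw [this] at h1
    linear_combination h1
  rcases mul_eq_zero.1 h3 with h4 | h4
  · exact absurd (sub_eq_zero.1 h4) h2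
  · linear_combination h4

theorem pow_ne_neg_one (hℓ : ℓ.Prime) {m e : ℕ} (h : orderOf (s : ZMod ℓ) = e) (hm : 0 < m) (hme : 2 * m < e) :
    (s : ZMod ℓ) ^ m + 1 ≠ 0 := by
  intro h1
  have h2 : (s : ZMod ℓ) ^ (2 * m) = 1 := by
    rw [mul_comm, pow_mul, eq_neg_of_add_eq_zero_left h1]; ring
  exact pow_ne_one_of_lt_orderOf (by omega) (by rw [h]; exact hme) h2

theorem le_four (hℓ : ℓ.Prime) (h : orderOf (s : ZMod ℓ) = 4) : ℓ ∣ s ^ 2 + 1 := by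
  have h1 := half_ord hℓ (m := 2) (by norm_num) h
  rw [← ZMod.natCast_eq_zero_iff]
  push_cast
  linear_combination h1

theorem le_eight (hℓ : ℓ.Prime) (h : orderOf (s : ZMod ℓ) = 8) : ℓ ∣ s ^ 4 + 1 := by
  have h1 := half_ord hℓ (m := 4) (by norm_num) h
  rw [← ZMod.natCast_eq_zero_iff]
  push_cast
  linear_combination h1

theorem le_six (hℓ : ℓ.Prime) (h : orderOf (s : ZMod ℓ) = 6) : (ℓ : ℤ) ≤ (s : ℤ) ^ 2 - s + 1 := by
  refine le_of_zmod (by nlinarith) ?_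
  push_cast
  exact phi_six hℓ h

theorem le_ten (hℓ : ℓ.Prime) (h : orderOf (s : ZMod ℓ) = 10) (hs : 2 ≤ s) :
    (ℓ : ℤ) ≤ (s : ℤ) ^ 4 - s ^ 3 + s ^ 2 - s + 1 := by
  have : Fact ℓ.Prime := ⟨hℓ⟩
  have h1 := half_ord hℓ (m := 5) (by norm_num) h
  have h2 := pow_ne_neg_one hℓ (m := 1) h (by norm_num) (by norm_num)
  have hs' : (2 : ℤ) ≤ s := by exact_mod_cast hs
  refine le_of_zmod (by nlinarith [pow_pos (by omega : (0 : ℤ) < s) 3, pow_pos (by omega : (0 : ℤ) < s) 2]) ?_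
  push_cast
  have h3 : ((s : ZMod ℓ) ^ 1 + 1) * ((s : ZMod ℓ) ^ 4 - s ^ 3 + s ^ 2 - s + 1) = 0 := by linear_combination h1
  exact (mul_eq_zero.1 h3).resolve_left h2

theorem le_twelve (hℓ : ℓ.Prime) (h : orderOf (s : ZMod ℓ) = 12) (hs : 2 ≤ s) :
    (ℓ : ℤ) ≤ (s : ℤ) ^ 4 - s ^ 2 + 1 := by
  have : Fact ℓ.Prime := ⟨hℓ⟩
  have h1 := half_ord hℓ (m := 6) (by norm_num) h
  have h2 := pow_ne_neg_one hℓ (m := 2) h (by norm_num) (by norm_num)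
  have hs' : (2 : ℤ) ≤ s := by exact_mod_cast hs
  refine le_of_zmod (by nlinarith [pow_pos (by omega : (0 : ℤ) < s) 3, pow_pos (by omega : (0 : ℤ) < s) 2]) ?_
  push_cast
  have h3 : ((s : ZMod ℓ) ^ 2 + 1) * ((s : ZMod ℓ) ^ 4 - s ^ 2 + 1) = 0 := by linear_combination h1
  exact (mul_eq_zero.1 h3).resolve_left h2

theorem le_fourteen (hℓ : ℓ.Prime) (h : orderOf (s : ZMod ℓ) = 14) (hs : 2 ≤ s) :
    (ℓ : ℤ) ≤ (s : ℤ) ^ 6 - s ^ 5 + s ^ 4 - s ^ 3 + s ^ 2 - s + 1 := by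
  have : Fact ℓ.Prime := ⟨hℓ⟩
  have h1 := half_ord hℓ (m := 7) (by norm_num) h
  have h2 := pow_ne_neg_one hℓ (m := 1) h (by norm_num) (by norm_num)
  have hs' : (2 : ℤ) ≤ s := by exact_mod_cast hs
  refine le_of_zmod ?_ ?_
  · have h5 : (0 : ℤ) < (s : ℤ) ^ 5 := pow_pos (by omega) 5
    have h3 : (0 : ℤ) < (s : ℤ) ^ 3 := pow_pos (by omega) 3
    have e6 : (s : ℤ) ^ 6 = s * s ^ 5 := by ring
    have e4 : (s : ℤ) ^ 4 = s * s ^ 3 := by ring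
    nlinarith
  push_cast
  have h3 : ((s : ZMod ℓ) ^ 1 + 1) * ((s : ZMod ℓ) ^ 6 - s ^ 5 + s ^ 4 - s ^ 3 + s ^ 2 - s + 1) = 0 := by
    linear_combination h1
  exact (mul_eq_zero.1 h3).resolve_left h2

theorem le_eighteen (hℓ : ℓ.Prime) (h : orderOf (s : ZMod ℓ) = 18) (hs : 2 ≤ s) :
    (ℓ : ℤ) ≤ (s : ℤ) ^ 6 - s ^ 3 + 1 := by
  have : Fact ℓ.Prime := ⟨hℓ⟩
  have h1 := half_ord hℓ (m := 9) (by norm_num) h
  have h2 := pow_ne_neg_one hℓ (m := 3) h (by norm_num) (by norm_num)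
  have hs' : (2 : ℤ) ≤ s := by exact_mod_cast hs
  refine le_of_zmod ?_ ?_
  · have h3 : (8 : ℤ) ≤ (s : ℤ) ^ 3 := by
      calc (8 : ℤ) = 2 ^ 3 := by norm_num
        _ ≤ (s : ℤ) ^ 3 := by gcongr
    have e6 : (s : ℤ) ^ 6 = (s ^ 3) * s ^ 3 := by ring
    nlinarith
  push_cast
  have h3 : ((s : ZMod ℓ) ^ 3 + 1) * ((s : ZMod ℓ) ^ 6 - s ^ 3 + 1) = 0 := by linear_combination h1
  exact (mul_eq_zero.1 h3).resolve_left h2

theorem le_nine (hℓ : ℓ.Prime) (h : orderOf (s : ZMod ℓ) = 9) : ℓ ∣ s ^ 6 + s ^ 3 + 1 := by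
  have : Fact ℓ.Prime := ⟨hℓ⟩
  have h1 : (s : ZMod ℓ) ^ 9 = 1 := by rw [← h]; exact pow_orderOf_eq_one _
  have h2 : (s : ZMod ℓ) ^ 3 ≠ 1 := pow_ne_one_of_lt_orderOf (by norm_num) (by rw [h]; norm_num)
  rw [← ZMod.natCast_eq_zero_iff]
  push_cast
  have h3 : ((s : ZMod ℓ) ^ 3 - 1) * ((s : ZMod ℓ) ^ 6 + s ^ 3 + 1) = 0 := by linear_combination h1
  exact (mul_eq_zero.1 h3).resolve_left (fun h4 => h2 (sub_eq_zero.1 h4))

end Ord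

end Cfsg.Agent.H441.FPR.Heis
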