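import Cfsg.Agent.H441.FPR.HeisB

/-!
# The Heisenberg lemma for groups `Q` with `[Q, Q] ≤ Z ≤ Z(Q)`, possibly `Z ≠ Z(Q)`
(after `Cfsg.Agent.H400.FprCop`, `FprHeis`)
-/

set_option autoImplicit false
set_option linter.unusedSectionVars false
open Subgroup MulAction
open scoped Pointwise commutatorElement

namespace Cfsg.Agent.H441.FPR.Heis

open Cfsg.Agent.H398.FPR (CommFull UGood Pair)
open Cfsg.Agent.H435.Fpr (PairM T3M_uGood)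
open Cfsg.Agent.H400.Fpr (C2 norm_iff mem_of_coprime_pow Sc cc cc_cc cc_one cc_le cc_mono mem_cc conj_mem_cc pairM_cc)

variable {Y : Type*} [Group Y]

/-- The group `Q` with `[Q, Q] ≤ Z`, `[Z, Q] = 1`, and the `p`-element `x` centralising `Z`; the commutator `[a, ·]` is
onto for some `a = [x, w]`. -/
structure HY (r m : ℕ) (Z Q : Subgroup Y) (x : Y) : Prop where
  c2 : C2 Z Q
  sur : ∃ w ∈ Q, ∀ z ∈ Z, ∃ b ∈ Q, ⁅⁅x, w⁆, b⁆ = z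
  rg : IsPGroup r Q
  xm : x ^ m = 1
  cop : ∀ s : ℕ, m.Coprime (r ^ s)
  xZ : ∀ z ∈ Z, x * z = z * x
  xQ : ∀ y ∈ Q, x * y * x⁻¹ ∈ Q

namespace HY

variable {r m : ℕ} {Z Q : Subgroup Y} {x : Y} (H : HY r m Z Q x)

include H

theorem comm_mem {w : Y} (hw : w ∈ Q) : ⁅x, w⁆ ∈ Q := by
  rw [commutatorElement_def]
  exact mul_mem (H.xQ w hw) (inv_mem hw)

theorem exists_pow {v : Y} (hv : v ∈ Q) : ∃ s : ℕ, v ^ r ^ s = 1 := by
  obtain ⟨s, hs⟩ := H.rg ⟨v, hv⟩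
  exact ⟨s, congrArg Subtype.val hs⟩

theorem conjZ {z : Y} (hz : z ∈ Z) : x * z * x⁻¹ = z := by
  rw [H.xZ z hz, mul_inv_cancel_right]

/-- linearity of the commutator -/
theorem lin {a b c : Y} (ha : a ∈ Q) (hb : b ∈ Q) (hc : c ∈ Q) : ⁅c, a * b⁆ = ⁅c, a⁆ * ⁅c, b⁆ := by
  have h1 : ⁅c, a * b⁆ = ⁅c, a⁆ * (a * ⁅c, b⁆ * a⁻¹) := by
    simp only [commutatorElement_def]; group
  have h2 := H.c2.cen _ (H.c2.com c hc b hb) a ha
  rw [h1, ← h2, mul_inv_cancel_right]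

theorem lin_inv {b c : Y} (hb : b ∈ Q) (hc : c ∈ Q) : ⁅c, b⁻¹⁆ = ⁅c, b⁆⁻¹ := by
  have h1 := H.lin hb (inv_mem hb) hc
  rw [mul_inv_cancel, commutatorElement_one_right] at h1
  exact (inv_eq_of_mul_eq_one_right h1.symm).symm

theorem lin_z {a z c : Y} (ha : a ∈ Q) (hz : z ∈ Z) (hc : c ∈ Q) : ⁅c, z * a⁆ = ⁅c, a⁆ := by
  rw [H.lin (H.c2.le hz) ha hc, commutatorElement_eq_one_iff_mul_comm.2 (H.c2.cen z hz c hc).symm, one_mul]

theorem lin_z' {a z c : Y} (ha : a ∈ Q) (hz : z ∈ Z) (hc : c ∈ Q) : ⁅z * a, c⁆ = ⁅a, c⁆ := by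
  rw [← commutatorElement_inv, H.lin_z ha hz hc, commutatorElement_inv]

/-- powers -/
theorem pow_conj {w v z0 : Y} (hw : w ∈ Q) (hz0 : z0 ∈ Z) (hv : v ∈ Q) (hvw : ⁅x, w⁆ = z0 * v) (hxv : ⁅x, v⁆ ∈ Z)
    (i : ℕ) : ∃ z ∈ Z, x ^ i * w * (x ^ i)⁻¹ = z * (v ^ i * w) := by
  induction i with
  | zero => exact ⟨1, one_mem _, by simp⟩
  | succ i ih =>
    obtain ⟨z, hz, h1⟩ := ih
    have h2 : x ^ (i + 1) * w * (x ^ (i + 1))⁻¹ = x * (x ^ i * w * (x ^ i)⁻¹) * x⁻¹ := by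
      rw [pow_succ']; group
    have h3 : x * v * x⁻¹ = ⁅x, v⁆ * v := by rw [commutatorElement_def]; group
    have h4 : x * w * x⁻¹ = z0 * v * w := by
      have : x * w * x⁻¹ = ⁅x, w⁆ * w := by rw [commutatorElement_def]; group
      rw [this, hvw]
    have h5 : x * v ^ i * x⁻¹ = ⁅x, v⁆ ^ i * v ^ i := by
      have h6 : x * v ^ i * x⁻¹ = (x * v * x⁻¹) ^ i := (conj_pow (i := i) (a := x) (b := v)).symm
      rw [h6, h3]
      exact (show Commute (⁅x, v⁆) v from H.c2.cen _ hxv v hv).mul_pow i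
    have h6 := H.c2.cen z0 hz0 (v ^ i) (pow_mem hv i)
    refine ⟨z * ⁅x, v⁆ ^ i * z0, mul_mem (mul_mem hz (pow_mem hxv i)) hz0, ?_⟩
    calc x ^ (i + 1) * w * (x ^ (i + 1))⁻¹ = x * (z * (v ^ i * w)) * x⁻¹ := by rw [h2, h1]
      _ = (x * z * x⁻¹) * (x * v ^ i * x⁻¹) * (x * w * x⁻¹) := by group
      _ = z * (⁅x, v⁆ ^ i * v ^ i) * (z0 * v * w) := by rw [H.conjZ hz, h5, h4]
      _ = z * ⁅x, v⁆ ^ i * (v ^ i * z0) * v * w := by group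
      _ = z * ⁅x, v⁆ ^ i * (z0 * v ^ i) * v * w := by rw [h6]
      _ = z * ⁅x, v⁆ ^ i * z0 * (v ^ (i + 1) * w) := by rw [pow_succ]; group

/-- `C_V(x) ∩ [V, x] = 0`. -/
theorem mem_Z {w v z0 : Y} (hw : w ∈ Q) (hz0 : z0 ∈ Z) (hv : v ∈ Q) (hvw : ⁅x, w⁆ = z0 * v) (hxv : ⁅x, v⁆ ∈ Z) :
    v ∈ Z := by
  obtain ⟨z, hz, h1⟩ := H.pow_conj hw hz0 hv hvw hxv m
  rw [H.xm, inv_one, one_mul, mul_one, ← mul_assoc] at h1
  have h2 : z * v ^ m = 1 := right_eq_mul.1 h1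
  have h3 : v ^ m ∈ Z := by
    rw [← inv_eq_of_mul_eq_one_right h2]
    exact inv_mem hz
  obtain ⟨s, hs⟩ := H.exists_pow hv
  exact mem_of_coprime_pow (H.cop s) h3 (by rw [hs]; exact one_mem _)

/-- `C_V(x)` is the image of `C_Q(x)`. -/
theorem comm_of_mem {c : Y} (hc : c ∈ Q) (h : ⁅x, c⁆ ∈ Z) : x * c = c * x := by
  have h1 : ∀ i : ℕ, x ^ i * c * (x ^ i)⁻¹ = ⁅x, c⁆ ^ i * c := by
    intro i
    induction i with
    | zero => simp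
    | succ i ih =>
      have h2 : x ^ (i + 1) * c * (x ^ (i + 1))⁻¹ = x * (x ^ i * c * (x ^ i)⁻¹) * x⁻¹ := by
        rw [pow_succ']; group
      have h3 : x * c * x⁻¹ = ⁅x, c⁆ * c := by rw [commutatorElement_def]; group
      calc x ^ (i + 1) * c * (x ^ (i + 1))⁻¹ = x * (⁅x, c⁆ ^ i * c) * x⁻¹ := by rw [h2, ih]
        _ = (x * ⁅x, c⁆ ^ i * x⁻¹) * (x * c * x⁻¹) := by group
        _ = ⁅x, c⁆ ^ i * (⁅x, c⁆ * c) := by rw [H.conjZ (pow_mem h i), h3]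
        _ = _ := by rw [pow_succ]; group
  have h2 := h1 m
  rw [H.xm, inv_one, one_mul, mul_one] at h2
  have h3 : ⁅x, c⁆ ^ m = 1 := right_eq_mul.1 h2
  obtain ⟨s, hs⟩ := H.exists_pow (H.c2.le h)
  have h4 : ⁅x, c⁆ ∈ (⊥ : Subgroup Y) :=
    mem_of_coprime_pow (H.cop s) (by rw [h3]; exact one_mem _) (by rw [hs]; exact one_mem _)
  exact commutatorElement_eq_one_iff_mul_comm.1 (mem_bot.1 h4)

end HY

/-- The preimage of `[Q/Z, x]`. -/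
def RY {r m : ℕ} {Z Q : Subgroup Y} {x : Y} (H : HY r m Z Q x) : Subgroup Y where
  carrier := {v | ∃ w ∈ Q, ∃ z ∈ Z, v = z * ⁅x, w⁆}
  one_mem' := ⟨1, one_mem _, 1, one_mem _, by simp⟩
  mul_mem' := by
    rintro _ _ ⟨w, hw, z, hz, rfl⟩ ⟨w', hw', z', hz', rfl⟩
    have h1 := H.c2.cen z' hz' _ (H.comm_mem hw)
    obtain ⟨y, hy, hy'⟩ := H.c2.mul_comm_mod hw (H.comm_mem hw')
    -- `⁅x, w w'⁆ = ⁅x, w⁆ w ⁅x, w'⁆ w⁻¹`
    refine ⟨w * w', mul_mem hw hw', z * z' * y⁻¹, mul_mem (mul_mem hz hz') (inv_mem hy), ?_⟩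
    have h2 : ⁅x, w * w'⁆ = ⁅x, w⁆ * (w * ⁅x, w'⁆) * w⁻¹ := by
      simp only [commutatorElement_def]; group
    have h3 := H.c2.cen y hy _ (H.comm_mem hw)
    have h4 : z * ⁅x, w⁆ * (z' * ⁅x, w'⁆) = z * z' * (⁅x, w⁆ * ⁅x, w'⁆) := by
      calc z * ⁅x, w⁆ * (z' * ⁅x, w'⁆) = z * (⁅x, w⁆ * z') * ⁅x, w'⁆ := by group
        _ = z * (z' * ⁅x, w⁆) * ⁅x, w'⁆ := by rw [h1]
        _ = _ := by group
    rw [h4, h2, hy']
    calc z * z' * (⁅x, w⁆ * ⁅x, w'⁆) = z * z' * y⁻¹ * ((y * ⁅x, w⁆) * (⁅x, w'⁆ * w) * w⁻¹) := by group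
      _ = _ := by rw [h3]; group
  inv_mem' := by
    rintro _ ⟨w, hw, z, hz, rfl⟩
    -- `⁅x, w⁻¹⁆ = w⁻¹ ⁅x, w⁆⁻¹ w`
    obtain ⟨y, hy, hy'⟩ := H.c2.mul_comm_mod (inv_mem hw) (inv_mem (H.comm_mem hw))
    refine ⟨w⁻¹, inv_mem hw, z⁻¹ * y⁻¹, mul_mem (inv_mem hz) (inv_mem hy), ?_⟩
    have h2 : ⁅x, w⁻¹⁆ = w⁻¹ * ⁅x, w⁆⁻¹ * w := by
      simp only [commutatorElement_def]; group
    rw [h2, hy']
    have h1 := H.c2.cen z hz _ (H.comm_mem hw)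
    rw [h1]
    have h3 := H.c2.cen z⁻¹ (inv_mem hz) _ (inv_mem (H.comm_mem hw))
    rw [mul_inv_rev, h3]
    have h4 := H.c2.cen z⁻¹ (inv_mem hz) _ (inv_mem (H.comm_mem hw))
    rw [← h4]
    group

namespace HY

variable {r m : ℕ} {Z Q : Subgroup Y} {x : Y} (H : HY r m Z Q x)

theorem mem_RY {v : Y} : v ∈ RY H ↔ ∃ w ∈ Q, ∃ z ∈ Z, v = z * ⁅x, w⁆ := Iff.rfl

theorem RY_le : RY H ≤ Q := by
  rintro _ ⟨w, hw, z, hz, rfl⟩
  exact mul_mem (H.c2.le hz) (H.comm_mem hw)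

theorem Z_le_RY : Z ≤ RY H := fun z hz => ⟨1, one_mem _, z, hz, by simp⟩

theorem comm_mem_RY {w : Y} (hw : w ∈ Q) : ⁅x, w⁆ ∈ RY H := ⟨w, hw, 1, one_mem _, by simp⟩

theorem xRY : ∀ y ∈ RY H, x * y * x⁻¹ ∈ RY H := by
  rintro _ ⟨w, hw, z, hz, rfl⟩
  refine ⟨x * w * x⁻¹, H.xQ w hw, z, hz, ?_⟩
  have h1 : x * (z * ⁅x, w⁆) * x⁻¹ = (x * z * x⁻¹) * (x * ⁅x, w⁆ * x⁻¹) := by group
  rw [h1, H.conjZ hz]
  simp only [commutatorElement_def]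
  group

theorem free {v : Y} (hv : v ∈ RY H) (h : ⁅x, v⁆ ∈ Z) : v ∈ Z := by
  obtain ⟨w, hw, z, hz, hvz⟩ := hv
  refine H.mem_Z hw (inv_mem hz) (H.RY_le ⟨w, hw, z, hz, hvz⟩) ?_ h
  rw [hvz]; group

/-- `V = C_V(x) + [V, x]` -/
theorem decomp [Finite Y] {w : Y} (hw : w ∈ Q) : ∃ c ∈ Q, ∃ v ∈ RY H, x * c = c * x ∧ w = c * v := by
  obtain ⟨v, hv, z, hz, h1⟩ := (H.c2.mono H.Z_le_RY H.RY_le).surj (g := x) H.xRY
    (fun y hy => by rw [H.conjZ hy]; exact hy) (fun y hy h => H.free hy h) (H.comm_mem_RY hw)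
  have hvQ := H.RY_le hv
  have hcQ : w * v⁻¹ ∈ Q := mul_mem hw (inv_mem hvQ)
  refine ⟨w * v⁻¹, hcQ, v, hv, ?_, by group⟩
  apply H.comm_of_mem hcQ
  have h2 : ⁅x, w * v⁻¹⁆ = ⁅x, w⁆ * ((w * v⁻¹) * (⁅x, v⁆)⁻¹ * (w * v⁻¹)⁻¹) := by
    simp only [commutatorElement_def]; group
  rw [h2, h1]
  set c := ⁅x, w⁆
  set d := w * v⁻¹ with hd
  have h3 : c * (d * (z * c)⁻¹ * d⁻¹) = ⁅c, d⁆ * (d * z⁻¹ * d⁻¹) := by
    have h4 : (z * c)⁻¹ = c⁻¹ * z⁻¹ := mul_inv_rev _ _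
    rw [h4, commutatorElement_def]
    group
  rw [h3]
  refine mul_mem (H.c2.com c (H.comm_mem hw) d hcQ) ?_
  have h4 := H.c2.cen z⁻¹ (inv_mem hz) d hcQ
  rw [← h4, mul_inv_cancel_right]
  exact inv_mem hz

/-- `C_V(x)` is orthogonal to `[V, x]`. -/
theorem orth {c v : Y} (hc : c ∈ Q) (hxc : x * c = c * x) (hv : v ∈ RY H) : ⁅c, v⁆ = 1 := by
  obtain ⟨w, hw, z, hz, rfl⟩ := hv
  rw [H.lin_z (H.comm_mem hw) hz hc]
  have h1 : ⁅x, w⁆ = (x * w * x⁻¹) * w⁻¹ := by rw [commutatorElement_def]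
  rw [h1, H.lin (H.xQ w hw) (inv_mem hw) hc, H.lin_inv hw hc]
  have h2 : ⁅c, x * w * x⁻¹⁆ = x * ⁅c, w⁆ * x⁻¹ := by
    have h3 : x * ⁅c, w⁆ * x⁻¹ = ⁅x * c * x⁻¹, x * w * x⁻¹⁆ := by
      simp only [commutatorElement_def]; group
    rw [h3, hxc, mul_inv_cancel_right]
  rw [h2, H.conjZ (H.c2.com c hc w hw), mul_inv_cancel]

/-- `[R, x] = R` -/
theorem commFull [Finite Y] : CommFull (RY H) x := by
  refine (H.c2.mono H.Z_le_RY H.RY_le).commFull H.xRY (fun y hy => by rw [H.conjZ hy]; exact hy)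
    (fun y hy h => H.free hy h) ?_
  intro V hV hVZ z hz
  obtain ⟨w, hw, hsur⟩ := H.sur
  have hv := H.comm_mem_RY hw
  set v := ⁅x, w⁆ with hvd
  obtain ⟨b, hb, hbz⟩ := hsur z hz
  obtain ⟨c, hc, v', hv', hxc, rfl⟩ := H.decomp hb
  have h1 : ⁅v, c * v'⁆ = ⁅v, v'⁆ := by
    rw [H.lin hc (H.RY_le hv') (H.RY_le hv), ← commutatorElement_inv, H.orth hc hxc hv, inv_one, one_mul]
  obtain ⟨v1, hv1, z1, hz1, e1⟩ := hVZ v hv
  obtain ⟨v2, hv2, z2, hz2, e2⟩ := hVZ v' hv'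
  have h2 : ⁅v1, v2⁆ = ⁅v, v'⁆ := by
    rw [e1, e2, H.lin_z' (H.RY_le hv) hz1 (mul_mem (H.c2.le hz2) (H.RY_le hv')),
      H.lin_z (H.RY_le hv') hz2 (H.RY_le hv)]
  rw [← hbz, h1, ← h2, commutatorElement_def]
  exact mul_mem (mul_mem (mul_mem hv1 hv2) (inv_mem hv1)) (inv_mem hv2)

theorem pairM [Finite Y] (hr : r.Prime) {p k M : ℕ} (hp : p.Prime) (hm : m = p ^ k)
    (hM : ∀ t : ℕ, t ≠ 0 → r ^ t ≡ 1 [MOD p] → M ≤ r ^ t) : PairM M x (RY H) := by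
  have h1 : IsPGroup r (RY H) := H.rg.to_le H.RY_le
  have hxm : x ^ p ^ k = 1 := hm ▸ H.xm
  exact PairM.of_pGroup hp hr hxm h1 (norm_iff.2 H.xRY) H.commFull hM

end HY


/-- **The Heisenberg lemma**, with the order of `C_Q(x)`. -/
theorem heis_uGoodY [Finite Y] {r m p k q D M : ℕ} (hr : r.Prime) (hp : p.Prime) (hm : m = p ^ k) {Z Q : Subgroup Y}
    {x n h : Y} (H : HY r m Z Q x) (S : Sc q Z Q h) (hn : n ∈ Z ⊔ cc n Z) (hh : h ∈ Z ⊔ cc n Z)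
    (hgen : Q ⊔ cc n Q = ⊤) (hxn : n * x = x * n) (hxh : h * x = x * h)
    (hcard : Nat.card ↥(Q ⊓ centralizer {x}) < q ^ (D + 1) * Nat.card Z)
    (hM : ∀ t : ℕ, t ≠ 0 → r ^ t ≡ 1 [MOD p] → M ≤ r ^ t) (hM1 : 1 ≤ M) :
    UGood (D + 2) (M + D + 1) x := by
  have hP := H.pairM hr hp hm hM
  -- the centraliser
  let C : Subgroup Y := Q ⊓ centralizer {x}
  have hCmem : ∀ y, y ∈ C ↔ y ∈ Q ∧ y * x = x * y := fun y => by
    rw [mem_inf, mem_centralizer_singleton_iff]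
  have hCC : ∀ y ∈ C, h * y * h⁻¹ ∈ C := by
    intro y hy
    rw [hCmem] at hy ⊢
    refine ⟨S.hQ y hy.1, ?_⟩
    have hxh' : Commute h x := hxh
    have hxy : Commute y x := hy.2
    exact ((hxh'.mul_left hxy).mul_left hxh'.inv_left)
  have hZC : Z ≤ C := fun z hz => (hCmem z).2 ⟨H.c2.le hz, (H.xZ z hz).symm⟩
  obtain ⟨e, he, hgenC⟩ := S.gens H.c2 (inf_le_left : C ≤ Q) hCC D Z le_rfl hZC S.hZ hcard
  -- the family
  let R : Option (Option (Fin D)) → Subgroup Y := fun a => match a with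
    | none => RY H
    | some none => cc n (RY H)
    | some (some i) => cc (e i) (cc n (RY H))
  have hR : ∀ a, PairM M x (R a) := by
    rintro (_ | _ | i)
    · exact hP
    · exact pairM_cc hP hxn
    · exact pairM_cc (pairM_cc hP hxn) ((hCmem _).1 (he i)).2
  have hcl : Subgroup.closure ({x} ∪ ⋃ a, (R a : Set Y)) = ⊤ := by
    set K := Subgroup.closure ({x} ∪ ⋃ a, (R a : Set Y)) with hK
    have hRK : ∀ a, R a ≤ K := by
      intro a y hy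
      apply Subgroup.subset_closure
      exact Or.inr (Set.mem_iUnion.2 ⟨a, hy⟩)
    have h1 : RY H ≤ K := hRK none
    have h2 : cc n (RY H) ≤ K := hRK (some none)
    have h3 : ∀ i, cc (e i) (cc n (RY H)) ≤ K := fun i => hRK (some (some i))
    have hZK : Z ≤ K := H.Z_le_RY.trans h1
    have hZK' : cc n Z ≤ K := (cc_mono H.Z_le_RY).trans h2
    have hLK : Z ⊔ cc n Z ≤ K := sup_le hZK hZK'
    have hnK : n ∈ K := hLK hn
    have hhK : h ∈ K := hLK hh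
    -- the conjugates of `h`
    have hhe : ∀ i, e i * h * (e i)⁻¹ ∈ K := by
      intro i
      have h4 : cc (e i) (Z ⊔ cc n Z) ≤ K := by
        unfold cc
        rw [Subgroup.map_sup]
        refine sup_le ?_ ((map_mono (map_mono H.Z_le_RY)).trans (h3 i))
        rintro _ ⟨z, hz, rfl⟩
        have h5 := H.c2.cen z hz _ ((hCmem _).1 (he i)).1
        show e i * z * (e i)⁻¹ ∈ K
        rw [← h5, mul_inv_cancel_right]
        exact hZK hz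
      exact h4 (conj_mem_cc hh)
    -- `e i ∈ K`
    have heK : ∀ i, e i ∈ K := by
      intro i
      let V : Subgroup Y := K ⊓ Q
      have hV : ∀ y ∈ V, h * y * h⁻¹ ∈ V := fun y hy =>
        mem_inf.2 ⟨mul_mem (mul_mem hhK (mem_inf.1 hy).1) (inv_mem hhK), S.hQ y (mem_inf.1 hy).2⟩
      have hZV : Z ≤ V := le_inf hZK H.c2.le
      have heQ := ((hCmem _).1 (he i)).1
      have h4 : ⁅h, e i⁆ ∈ V := by
        refine mem_inf.2 ⟨?_, ?_⟩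
        · have h5 : ⁅h, e i⁆ = h * (e i * h * (e i)⁻¹)⁻¹ := by rw [commutatorElement_def]; group
          rw [h5]
          exact mul_mem hhK (inv_mem (hhe i))
        · rw [commutatorElement_def]
          exact mul_mem (S.hQ _ heQ) (inv_mem heQ)
      have hf : ∀ v ∈ Q, ⁅h, v⁆ ∈ Z → v ∈ Z := by
        intro v hv h5
        apply S.free 1 one_pos (by have := S.two; omega) v hv
        rwa [pow_one]
      exact (mem_inf.1 (H.c2.free_sub S.hZ hf hZV inf_le_right hV heQ h4)).1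
    have hCK : C ≤ K := hgenC K hZK (fun y hy => mul_mem (mul_mem hhK hy) (inv_mem hhK)) heK
    have hQK : Q ≤ K := by
      intro w hw
      obtain ⟨c, hc, v, hv, hxc, rfl⟩ := H.decomp hw
      exact mul_mem (hCK ((hCmem c).2 ⟨hc, hxc.symm⟩)) (h1 hv)
    rw [eq_top_iff, ← hgen]
    exact sup_le hQK (cc_le hnK hQK)
  have h4 := T3M_uGood hM1 R hR hcl
  have h5 : Fintype.card (Option (Option (Fin D))) = D + 2 := by
    rw [Fintype.card_option, Fintype.card_option, Fintype.card_fin]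
  rw [h5] at h4
  have h6 : M + (D + 2) - 1 = M + D + 1 := by omega
  rwa [h6] at h4


end Cfsg.Agent.H441.FPR.Heis
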