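import Cfsg.Agent.H79.SimpleGen
import Cfsg.Agent.TitsThree.KExcBase
import Cfsg.Agent.LieClassical.SLGen

/-!
# Natural modules for subgroups `SL_n(K)` of the Chevalley groups (table check)

* `NatOK D r ε g u` : the table check for a family `g : Fin n → ℕ` of roots on which the elements
  `x_{r a b}(ε c)` act as the transvections of the natural module;
* `ev` : the homomorphism `(Fin n → K) → D.group K`; `act` : `φ A * ev v * (φ A)⁻¹ = ev (A v)`.
-/

set_option autoImplicit false

namespace Cfsg.Agent.H441.FPR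

open Cfsg.Lie Cfsg.Agent.ChevalleyStructure Cfsg.Agent.ChevalleyStructure.Elts Cfsg.Agent.H79.SimpleGen Matrix

universe u

variable {K : Type u} [Field K] {D : ChevalleyDatum} (hD : InList D)

theorem xS_comm {r s : ℕ} (hr : r < D.nroots) (hs : s < D.nroots) (hrs : s ≠ r)
    (hneg : s ≠ D.neg r) (h : D.commTerms r s = []) (t u : K) :
    xS hD r t * xS hD s u = xS hD s u * xS hD r t :=
  Subtype.ext (Cfsg.Agent.TitsThree.KExcBase.comm_nil hD hr hs hrs hneg h t u)

/-- the commutator formula with one term -/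
theorem xS_one {r s k : ℕ} {N : ℤ} (hr : r < D.nroots) (hs : s < D.nroots) (hrs : s ≠ r)
    (hneg : s ≠ D.neg r) (h : D.commTerms r s = [(k, N, 1, 1)]) (t u : K) :
    xS hD r t * xS hD s u = xS hD s u * xS hD r t * xS hD k ((N : K) * t * u) := by
  have h1 := Cfsg.Agent.S1025.result (F := K) D hD r s hr hs hrs hneg t u
  have h2 : D.commWord K r s t u = [(k, (N : K) * (-t) ^ 1 * u ^ 1)] := by
    show (D.commTerms r s).map _ = _
    rw [h]; rfl
  rw [h2, wordMat_cons, wordMat_nil, mul_one] at h1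
  have h3 : xS hD s u * xS hD r t = xS hD r t * xS hD s u * xS hD k (-((N : K) * t * u)) := by
    apply Subtype.ext
    apply Units.ext
    change D.x K s u * D.x K r t = D.x K r t * D.x K s u * D.x K k (-((N : K) * t * u))
    rw [h1]
    congr 2
    ring
  rw [h3, mul_assoc, xS_mul, neg_add_cancel, xS_zero, mul_one]

/-- the step: `X r ≤ M`, `X s ≤ M` imply `X k ≤ M` -/
theorem step_mem {M : Subgroup ↥(D.group K)} {r s k : ℕ} {N : ℤ} (hr : r < D.nroots) (hs : s < D.nroots)
    (hrs : s ≠ r) (hneg : s ≠ D.neg r) (h : D.commTerms r s = [(k, N, 1, 1)]) (hN : N * N = 1)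
    (h1 : ∀ t, xS hD r t ∈ M) (h2 : ∀ t, xS hD s t ∈ M) (t : K) : xS hD k t ∈ M := by
  have h3 := xS_one hD (K := K) hr hs hrs hneg h ((N : K) * t) 1
  have hNK : (N : K) * (N : K) = 1 := by rw [← Int.cast_mul, hN, Int.cast_one]
  have h4 : (N : K) * ((N : K) * t) * 1 = t := by rw [mul_one, ← mul_assoc, hNK, one_mul]
  rw [h4] at h3
  have h5 : xS hD k t = (xS hD s 1 * xS hD r ((N : K) * t))⁻¹ * (xS hD r ((N : K) * t) * xS hD s 1) := by
    rw [h3]; group
  rw [h5]
  exact mul_mem (inv_mem (mul_mem (h2 _) (h1 _))) (mul_mem (h1 _) (h2 _))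

section Mod

variable {n : ℕ} (D)

/-- first part of the table check -/
def NatA (g : Fin n → ℕ) (u : Fin n → ℤ) : Prop := ∀ a, g a < D.nroots ∧ u a * u a = 1

/-- second part of the table check -/
def NatB (g : Fin n → ℕ) : Prop :=
  ∀ a b, a ≠ b → g b ≠ g a ∧ g b ≠ D.neg (g a) ∧ D.commTerms (g a) (g b) = []

/-- third part of the table check -/
def NatC (r : Fin n → Fin n → ℕ) (ε : ℤ) (g : Fin n → ℕ) (u : Fin n → ℤ) : Prop :=
  ∀ a b, a ≠ b → g b ≠ r a b ∧ g b ≠ D.neg (r a b) ∧ D.commTerms (r a b) (g b) = [(g a, ε * u b * u a, 1, 1)]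

/-- fourth part of the table check -/
def NatE (r : Fin n → Fin n → ℕ) (g : Fin n → ℕ) : Prop :=
  ∀ a b j, a ≠ b ∧ j ≠ b → g j ≠ r a b ∧ g j ≠ D.neg (r a b) ∧ D.commTerms (r a b) (g j) = []

instance (g : Fin n → ℕ) (u : Fin n → ℤ) : Decidable (NatA D g u) := by
  unfold NatA; infer_instance
instance (g : Fin n → ℕ) : Decidable (NatB D g) := by
  unfold NatB; infer_instance
instance (r : Fin n → Fin n → ℕ) (ε : ℤ) (g : Fin n → ℕ) (u : Fin n → ℤ) : Decidable (NatC D r ε g u) := by
  unfold NatC; infer_instance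
instance (r : Fin n → Fin n → ℕ) (g : Fin n → ℕ) : Decidable (NatE D r g) := by
  unfold NatE; infer_instance

/-- the table check for a natural module -/
def NatOK (r : Fin n → Fin n → ℕ) (ε : ℤ) (g : Fin n → ℕ) (u : Fin n → ℤ) : Prop :=
  NatA D g u ∧ NatB D g ∧ NatC D r ε g u ∧ NatE D r g ∧ ε * ε = 1

instance (r : Fin n → Fin n → ℕ) (ε : ℤ) (g : Fin n → ℕ) (u : Fin n → ℤ) : Decidable (NatOK D r ε g u) := by
  unfold NatOK; infer_instance

variable {D}

/-- the homomorphism of one root -/
def rootHom (r : ℕ) (c : K) : Multiplicative K →* ↥(D.group K) where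
  toFun t := xS hD r (c * t.toAdd)
  map_one' := by rw [toAdd_one, mul_zero, xS_zero]
  map_mul' a b := by rw [toAdd_mul, mul_add, xS_mul]

variable {r : Fin n → Fin n → ℕ} {ε : ℤ} {g : Fin n → ℕ} {u : Fin n → ℤ}

include hD in
theorem NatOK.comm (h : NatOK D r ε g u) :
    Pairwise fun i j => ∀ (x y : Multiplicative K),
      Commute (rootHom hD (g i) (u i : K) x) (rootHom hD (g j) (u j : K) y) := by
  intro i j hij x y
  obtain ⟨h1, h2, h3⟩ := h.2.1 i j hij
  exact xS_comm hD (h.1 i).1 (h.1 j).1 h1 h2 h3 _ _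

/-- the module as a homomorphism -/
noncomputable def ev (h : NatOK D r ε g u) : (Fin n → Multiplicative K) →* ↥(D.group K) :=
  MonoidHom.noncommPiCoprod (fun i => rootHom hD (g i) (u i : K)) (h.comm hD)

/-- the element of the vector `v` -/
noncomputable def e (h : NatOK D r ε g u) (v : Fin n → K) : ↥(D.group K) :=
  ev hD h fun i => Multiplicative.ofAdd (v i)

variable (h : NatOK D r ε g u)

theorem e_zero : e hD h (0 : Fin n → K) = 1 := map_one (ev hD h)

theorem e_add (v w : Fin n → K) : e hD h (v + w) = e hD h v * e hD h w := by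
  unfold e
  rw [← map_mul]
  rfl

theorem e_neg (v : Fin n → K) : e hD h (-v) = (e hD h v)⁻¹ := by
  apply eq_inv_of_mul_eq_one_left
  rw [← e_add, neg_add_cancel, e_zero]

theorem e_single (i : Fin n) (t : K) : e hD h (Pi.single i t) = xS hD (g i) ((u i : K) * t) := by
  unfold e ev
  have h1 : (fun j => Multiplicative.ofAdd ((Pi.single i t : Fin n → K) j)) =
      Pi.mulSingle i (Multiplicative.ofAdd t) := by
    funext j
    by_cases hj : j = i
    · subst hj; simp
    · rw [Pi.single_eq_of_ne hj, Pi.mulSingle_eq_of_ne hj]; rfl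
  rw [h1, MonoidHom.noncommPiCoprod_mulSingle]
  rfl

/-- an additive induction on vectors -/
theorem vec_induction {P : (Fin n → K) → Prop} (h0 : P 0) (ha : ∀ v w, P v → P w → P (v + w))
    (hs : ∀ i t, P (Pi.single i t)) (v : Fin n → K) : P v := by
  have h1 : v = ∑ i, Pi.single i (v i) := (Finset.univ_sum_single v).symm
  rw [h1]
  exact Finset.sum_induction _ P ha h0 fun i _ => hs i _

/-- the action of a transvection -/
theorem act_tr {a b : Fin n} (hab : a ≠ b) (hr : r a b < D.nroots) (c : K) (v : Fin n → K) :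
    xS hD (r a b) ((ε : K) * c) * e hD h v * (xS hD (r a b) ((ε : K) * c))⁻¹ =
      e hD h ((Matrix.transvection a b c).mulVec v) := by
  refine vec_induction (P := fun v => xS hD (r a b) ((ε : K) * c) * e hD h v * (xS hD (r a b) ((ε : K) * c))⁻¹ =
      e hD h ((Matrix.transvection a b c).mulVec v)) ?_ ?_ ?_ v
  · rw [Matrix.mulVec_zero, e_zero]; group
  · intro v w hv hw
    rw [Matrix.mulVec_add, e_add, e_add, ← hv, ← hw]
    group
  · intro j t
    by_cases hj : j = b
    · subst hj
      have h1 : (Matrix.transvection a j c).mulVec (Pi.single j t) = Pi.single j t + Pi.single a (c * t) := by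
        rw [Matrix.transvection, Matrix.add_mulVec, Matrix.one_mulVec]
        congr 1
        funext i
        rw [Matrix.mulVec_single]
        by_cases hi : i = a
        · subst hi; simp
        · rw [Pi.single_eq_of_ne hi]
          simp [Ne.symm hi]
      rw [h1, e_add, e_single, e_single]
      obtain ⟨g1, g2, g3⟩ := h.2.2.1 a j hab
      have h2 := xS_one hD (K := K) hr (h.1 j).1 g1 g2 g3 ((ε : K) * c) ((u j : K) * t)
      obtain ⟨k1, k2, k3⟩ := h.2.2.2.1 a j a ⟨hab, hab⟩
      have h3 := xS_comm hD (K := K) hr (h.1 a).1 k1 k2 k3 ((ε : K) * c)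
      have huK : ((u j : ℤ) : K) * (u j : K) = 1 := by
        rw [← Int.cast_mul, (h.1 j).2, Int.cast_one]
      have hεK : ((ε : ℤ) : K) * (ε : K) = 1 := by
        rw [← Int.cast_mul, h.2.2.2.2, Int.cast_one]
      have h4 : ((ε * u j * u a : ℤ) : K) * ((ε : K) * c) * ((u j : K) * t) = (u a : K) * (c * t) := by
        rw [Int.cast_mul, Int.cast_mul]
        linear_combination ((u a : K) * c * t) * ((ε : K) * (ε : K)) * huK + ((u a : K) * c * t) * hεK
      rw [h4] at h2
      calc xS hD (r a j) ((ε : K) * c) * xS hD (g j) ((u j : K) * t) * (xS hD (r a j) ((ε : K) * c))⁻¹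
          = xS hD (g j) ((u j : K) * t) * (xS hD (r a j) ((ε : K) * c) * xS hD (g a) ((u a : K) * (c * t))) *
              (xS hD (r a j) ((ε : K) * c))⁻¹ := by rw [h2]; group
        _ = _ := by rw [h3]; group
    · have h1 : (Matrix.transvection a b c).mulVec (Pi.single j t) = Pi.single j t := by
        rw [Matrix.transvection, Matrix.add_mulVec, Matrix.one_mulVec]
        convert add_zero _
        funext i
        rw [Matrix.mulVec_single]
        simp [Ne.symm hj]
      rw [h1, e_single]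
      obtain ⟨k1, k2, k3⟩ := h.2.2.2.1 a b j ⟨hab, hj⟩
      rw [xS_comm hD (K := K) hr (h.1 j).1 k1 k2 k3]
      group

/-- **The action of `SL_n(K)`.** -/
theorem act (hr : ∀ a b, a ≠ b → r a b < D.nroots) {φ : SpecialLinearGroup (Fin n) K →* ↥(D.group K)}
    (hφ : ∀ a b (hab : a ≠ b) c, φ (SpecialLinearGroup.transvection hab c) = xS hD (r a b) ((ε : K) * c))
    (A : SpecialLinearGroup (Fin n) K) : ∀ v : Fin n → K,
    φ A * e hD h v * (φ A)⁻¹ = e hD h ((A : Matrix (Fin n) (Fin n) K).mulVec v) := by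
  have h1 : A ∈ Subgroup.closure (Cfsg.Agent.LieClassical.SLGen.transvections (Fin n) K) := by
    rw [Cfsg.Agent.LieClassical.SLGen.closure_transvections]
    exact Subgroup.mem_top A
  refine Subgroup.closure_induction (p := fun A _ => ∀ v : Fin n → K,
    φ A * e hD h v * (φ A)⁻¹ = e hD h ((A : Matrix (Fin n) (Fin n) K).mulVec v)) ?_ ?_ ?_ ?_ h1
  · rintro A ⟨a, b, hab, c, rfl⟩ v
    rw [hφ]
    exact act_tr hD h hab (hr a b hab) c v
  · intro v
    rw [map_one, show ((1 : SpecialLinearGroup (Fin n) K) : Matrix (Fin n) (Fin n) K) = 1 from rfl,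
      Matrix.one_mulVec]
    group
  · intro A B _ _ hA hB v
    rw [map_mul, show ((A * B : SpecialLinearGroup (Fin n) K) : Matrix (Fin n) (Fin n) K) =
      (A : Matrix (Fin n) (Fin n) K) * (B : Matrix (Fin n) (Fin n) K) from rfl, ← Matrix.mulVec_mulVec, ← hA, ← hB]
    group
  · intro A _ hA v
    have h2 := hA (((A⁻¹ : SpecialLinearGroup (Fin n) K) : Matrix (Fin n) (Fin n) K).mulVec v)
    rw [Matrix.mulVec_mulVec] at h2
    have h3 : (A : Matrix (Fin n) (Fin n) K) * ((A⁻¹ : SpecialLinearGroup (Fin n) K) : Matrix (Fin n) (Fin n) K) =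
        1 := congrArg Subtype.val (mul_inv_cancel A)
    rw [h3, Matrix.one_mulVec] at h2
    rw [map_inv, ← h2]
    group

end Mod

end Cfsg.Agent.H441.FPR
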