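import Cfsg.Agent.H441.FPR.Blk
import Cfsg.Agent.Lib.CoprimeCommutator
import Cfsg.Agent.S2540

/-!
# Radicals `[U, x]` and normal closures in the Levi subgroup
-/

set_option autoImplicit false

namespace Cfsg.Agent.H441.FPR

open Cfsg.Lie Cfsg.Agent.ChevalleyStructure Cfsg.Agent.ChevalleyStructure.Elts Cfsg.Agent.H79.SimpleGen Matrix
open Cfsg.Agent.H398.FPR
open scoped commutatorElement

universe u

variable {K : Type u} [Field K] {D : ChevalleyDatum} (hD : InList D)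

/-! ### Words -/

/-- the word of the commutator formula -/
noncomputable def wd (hD : InList D) (l : List (ℕ × ℤ × ℕ × ℕ)) (t u : K) : ↥(D.group K) :=
  (l.map fun c => xS hD c.1 ((c.2.1 : K) * (-t) ^ c.2.2.1 * u ^ c.2.2.2)).prod

theorem mat_wd (l : List (ℕ × ℤ × ℕ × ℕ)) (t u : K) :
    (((wd hD l t u : ↥(D.group K)) : GL D.Idx K) : Matrix D.Idx D.Idx K) =
      D.wordMat K (l.map fun c => (c.1, (c.2.1 : K) * (-t) ^ c.2.2.1 * u ^ c.2.2.2)) := by
  induction l with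
  | nil =>
    rw [List.map_nil, wordMat_nil]
    rfl
  | cons c l ih =>
    rw [List.map_cons, wordMat_cons, ← ih]
    rfl

theorem xS_word {r s : ℕ} (hr : r < D.nroots) (hs : s < D.nroots) (hrs : s ≠ r) (hneg : s ≠ D.neg r) (t u : K) :
    xS hD s u * xS hD r t = xS hD r t * xS hD s u * wd hD (D.commTerms r s) t u := by
  apply Subtype.ext
  apply Units.ext
  have h1 := Cfsg.Agent.S1025.result (F := K) D hD r s hr hs hrs hneg t u
  change D.x K s u * D.x K r t = D.x K r t * D.x K s u * _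
  rw [h1, mat_wd]
  rfl

theorem wd_mem {M : Subgroup ↥(D.group K)} {l : List (ℕ × ℤ × ℕ × ℕ)}
    (h : ∀ c ∈ l, ∀ t : K, xS hD c.1 t ∈ M) (t u : K) : wd hD l t u ∈ M := by
  apply Subgroup.list_prod_mem
  intro x hx
  obtain ⟨c, hc, rfl⟩ := List.mem_map.1 hx
  exact h c hc _

theorem wd_append (l l' : List (ℕ × ℤ × ℕ × ℕ)) (t u : K) : wd hD (l ++ l') t u = wd hD l t u * wd hD l' t u := by
  unfold wd
  rw [List.map_append, List.prod_append]

theorem wd_cons (c : ℕ × ℤ × ℕ × ℕ) (l : List (ℕ × ℤ × ℕ × ℕ)) (t u : K) :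
    wd hD (c :: l) t u = xS hD c.1 ((c.2.1 : K) * (-t) ^ c.2.2.1 * u ^ c.2.2.2) * wd hD l t u := by
  unfold wd
  rw [List.map_cons, List.prod_cons]

/-- the word as a commutator -/
theorem wd_of_comm {M : Subgroup ↥(D.group K)} {r s : ℕ} (hr : r < D.nroots) (hs : s < D.nroots) (hrs : s ≠ r)
    (hneg : s ≠ D.neg r)
    (h : ∀ t u : K, xS hD s u * xS hD r t * (xS hD s u)⁻¹ * (xS hD r t)⁻¹ ∈ M) (t u : K) :
    wd hD (D.commTerms r s) t u ∈ M := by
  have h1 := xS_word hD hr hs hrs hneg t u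
  have h2 := h (-t) (-u)
  rw [← xS_inv hD s u, ← xS_inv hD r t, inv_inv, inv_inv] at h2
  have h3 : (xS hD s u)⁻¹ * (xS hD r t)⁻¹ * xS hD s u * xS hD r t = wd hD (D.commTerms r s) t u := by
    rw [mul_assoc ((xS hD s u)⁻¹ * (xS hD r t)⁻¹), h1]
    group
  rwa [h3] at h2

/-- conjugation by a root element -/
theorem conj_word {r s : ℕ} (hr : r < D.nroots) (hs : s < D.nroots) (hrs : s ≠ r) (hneg : s ≠ D.neg r) (t u : K) :
    xS hD r t * xS hD s u * (xS hD r t)⁻¹ = xS hD s u * wd hD (D.commTerms r s) (-t) u := by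
  rw [xS_inv, mul_assoc, xS_word hD hr hs hrs hneg (-t) u, ← xS_inv]
  group

/-! ### Closure steps -/

/-- the unique term outside `S` -/
def pick (S : List ℕ) : List (ℕ × ℤ × ℕ × ℕ) → Option (ℕ × ℤ × ℕ × ℕ)
  | [] => none
  | c :: l => if c.1 ∈ S then pick S l else if ∀ d ∈ l, d.1 ∈ S then some c else none

theorem pick_spec {S : List ℕ} {l : List (ℕ × ℤ × ℕ × ℕ)} {c : ℕ × ℤ × ℕ × ℕ} (h : pick S l = some c) :
    ∃ l1 l2, l = l1 ++ c :: l2 ∧ (∀ d ∈ l1, d.1 ∈ S) ∧ ∀ d ∈ l2, d.1 ∈ S := by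
  induction l with
  | nil => simp [pick] at h
  | cons a l ih =>
    unfold pick at h
    split_ifs at h with h1 h2
    · obtain ⟨l1, l2, h3, h4, h5⟩ := ih h
      refine ⟨a :: l1, l2, by rw [h3]; rfl, ?_, h5⟩
      intro d hd
      rcases List.mem_cons.1 hd with rfl | hd
      · exact h1
      · exact h4 d hd
    · rw [Option.some_inj] at h
      subst h
      exact ⟨[], l, rfl, fun d hd => absurd hd (List.not_mem_nil), h2⟩

/-- one step of the closure -/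
def gst (D : ChevalleyDatum) (L Γ S : List ℕ) (rs : ℕ × ℕ) : List ℕ :=
  if ((rs.1 ∈ S ∧ rs.2 ∈ S) ∨ (rs.1 ∈ L ∧ rs.2 ∈ Γ)) ∧ rs.1 < D.nroots ∧ rs.2 < D.nroots ∧ rs.2 ≠ rs.1 ∧
      rs.2 ≠ D.neg rs.1 then
    match pick S (D.commTerms rs.1 rs.2) with
    | some (k, N, i, j) => if N * N = 1 ∧ (i = 1 ∨ j = 1) then k :: S else S
    | none => S
  else S

theorem gst_sound {M : Subgroup ↥(D.group K)} {L Γ S : List ℕ}
    (hL : ∀ r ∈ L, ∀ s ∈ Γ, ∀ t u : K, xS hD s u * xS hD r t * (xS hD s u)⁻¹ * (xS hD r t)⁻¹ ∈ M)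
    (hS : ∀ k ∈ S, ∀ t : K, xS hD k t ∈ M) (rs : ℕ × ℕ) : ∀ k ∈ gst D L Γ S rs, ∀ t : K, xS hD k t ∈ M := by
  unfold gst
  split_ifs with h
  · obtain ⟨h1, h3, h4, h5, h6⟩ := h
    have hc : ∀ t u : K, xS hD rs.2 u * xS hD rs.1 t * (xS hD rs.2 u)⁻¹ * (xS hD rs.1 t)⁻¹ ∈ M := by
      rcases h1 with ⟨h1, h2⟩ | ⟨h1, h2⟩
      · intro t u
        exact mul_mem (mul_mem (mul_mem (hS _ h2 _) (hS _ h1 _)) (inv_mem (hS _ h2 _))) (inv_mem (hS _ h1 _))
      · exact hL _ h1 _ h2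
    have hw := wd_of_comm hD h3 h4 h5 h6 hc
    split
    · rename_i k N i j hk
      split_ifs with hN
      · obtain ⟨l1, l2, h7, h8, h9⟩ := pick_spec hk
        rw [h7] at hw
        have hw2 : ∀ t u : K, xS hD k ((N : K) * (-t) ^ i * u ^ j) ∈ M := by
          intro t u
          have h10 := hw t u
          rw [wd_append, wd_cons] at h10
          have h11 := (Subgroup.mul_mem_cancel_left M (wd_mem hD (fun c hc t => hS _ (h8 c hc) t) t u)).1 h10
          exact (Subgroup.mul_mem_cancel_right M (wd_mem hD (fun c hc t => hS _ (h9 c hc) t) t u)).1 h11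
        have hNK : (N : K) * (N : K) = 1 := by rw [← Int.cast_mul, hN.1, Int.cast_one]
        intro k' hk' c
        rcases List.mem_cons.1 hk' with rfl | hk'
        · rcases hN.2 with rfl | rfl
          · have h12 := hw2 (-((N : K) * c)) 1
            rwa [neg_neg, pow_one, one_pow, mul_one, ← mul_assoc, hNK, one_mul] at h12
          · have h12 := hw2 (-1) ((N : K) * c)
            rwa [neg_neg, one_pow, mul_one, pow_one, ← mul_assoc, hNK, one_mul] at h12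
        · exact hS _ hk' c
      · exact hS
    · exact hS
  · exact hS

/-- the closure along a list of steps -/
def gal (D : ChevalleyDatum) (L Γ S : List ℕ) (steps : List (ℕ × ℕ)) : List ℕ := steps.foldl (gst D L Γ) S

theorem gal_sound {M : Subgroup ↥(D.group K)} {L Γ : List ℕ}
    (hL : ∀ r ∈ L, ∀ s ∈ Γ, ∀ t u : K, xS hD s u * xS hD r t * (xS hD s u)⁻¹ * (xS hD r t)⁻¹ ∈ M)
    (steps : List (ℕ × ℕ)) : ∀ {S : List ℕ}, (∀ k ∈ S, ∀ t : K, xS hD k t ∈ M) →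
      ∀ k ∈ gal D L Γ S steps, ∀ t : K, xS hD k t ∈ M := by
  induction steps with
  | nil => intro S hS; exact hS
  | cons a steps ih =>
    intro S hS
    unfold gal
    rw [List.foldl_cons]
    exact ih (gst_sound hD hL hS a)

/-- all fundamental roots and their negatives -/
def AllS (D : ChevalleyDatum) (S : List ℕ) : Prop := ∀ i < D.rank, D.simple i ∈ S ∧ D.neg (D.simple i) ∈ S

instance (S : List ℕ) : Decidable (AllS D S) := by
  unfold AllS; infer_instance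

/-! ### Unipotent subgroups of lists of roots -/

/-- the subgroup generated by the root subgroups of a list -/
def UG (hD : InList D) (K : Type u) [Field K] (Γ : List ℕ) : Subgroup ↥(D.group K) :=
  Subgroup.closure {g | ∃ k ∈ Γ, ∃ t : K, g = xS hD k t}

theorem xS_mem_UG {Γ : List ℕ} {k : ℕ} (hk : k ∈ Γ) (t : K) : xS hD k t ∈ UG hD K Γ :=
  Subgroup.subset_closure ⟨k, hk, t, rfl⟩

theorem UG_le {Γ : List ℕ} {M : Subgroup ↥(D.group K)} (h : ∀ k ∈ Γ, ∀ t : K, xS hD k t ∈ M) :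
    UG hD K Γ ≤ M := by
  unfold UG
  rw [Subgroup.closure_le]
  rintro _ ⟨k, hk, t, rfl⟩
  exact h k hk t

theorem UG_pos [Finite K] (r0 : ℕ) [Fact r0.Prime] [CharP K r0] {Γ : List ℕ} (h : ∀ k ∈ Γ, D.IsPosRoot k) :
    IsPGroup r0 ↥(UG hD K Γ) := by
  refine pgroup_of_map ?_ (pgroup_pos hD r0)
  rw [Subgroup.map_le_iff_le_comap]
  exact UG_le hD fun k hk t => xS_pos hD (h k hk) t

theorem UG_neg [Finite K] (r0 : ℕ) [Fact r0.Prime] [CharP K r0] {Γ : List ℕ} (h : ∀ k ∈ Γ, D.IsNegRoot k) :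
    IsPGroup r0 ↥(UG hD K Γ) := by
  refine pgroup_of_map ?_ (pgroup_neg hD r0)
  rw [Subgroup.map_le_iff_le_comap]
  exact UG_le hD fun k hk t => xS_neg hD (h k hk) t

/-- the list `Γ` is stable under the root `r` -/
def Inv (D : ChevalleyDatum) (Γ : List ℕ) (r : ℕ) : Prop :=
  r < D.nroots ∧ ∀ k ∈ Γ, k < D.nroots ∧ k ≠ r ∧ k ≠ D.neg r ∧ ∀ c ∈ D.commTerms r k, c.1 ∈ Γ

instance (Γ : List ℕ) (r : ℕ) : Decidable (Inv D Γ r) := by
  unfold Inv; infer_instance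

theorem Inv.conj_mem {Γ : List ℕ} {r : ℕ} (h : Inv D Γ r) (t : K) {y : ↥(D.group K)} (hy : y ∈ UG hD K Γ) :
    xS hD r t * y * (xS hD r t)⁻¹ ∈ UG hD K Γ := by
  have h1 : UG hD K Γ ≤ (UG hD K Γ).comap (MulAut.conj (xS hD r t)).toMonoidHom := by
    apply UG_le
    intro k hk u
    obtain ⟨h2, h3, h4, h5⟩ := h.2 k hk
    change xS hD r t * xS hD k u * (xS hD r t)⁻¹ ∈ UG hD K Γ
    rw [conj_word hD h.1 h2 h3 h4]
    exact mul_mem (xS_mem_UG hD hk u) (wd_mem hD (fun c hc t => xS_mem_UG hD (h5 c hc) t) _ _)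
  exact h1 hy

/-- stability under `SL_n(K)` -/
theorem conj_UG [Finite K] {n : ℕ} {r : Fin n → Fin n → ℕ} {ε : ℤ}
    {φ : SpecialLinearGroup (Fin n) K →* ↥(D.group K)}
    (hφ : ∀ a b (hab : a ≠ b) c, φ (SpecialLinearGroup.transvection hab c) = xS hD (r a b) ((ε : K) * c))
    {Γ L : List ℕ} {st : List (ℕ × ℕ)} (h : ∀ k ∈ L, Inv D Γ k)
    (hst : ∀ a b, a ≠ b → r a b ∈ gal D [] [] L st) (A : SpecialLinearGroup (Fin n) K) :
    ∀ y ∈ UG hD K Γ, φ A * y * (φ A)⁻¹ ∈ UG hD K Γ := by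
  have h2 : ∀ k ∈ L, ∀ t : K, xS hD k t ∈ Subgroup.normalizer (UG hD K Γ : Set ↥(D.group K)) :=
    fun k hk t => mem_norm_of_conj fun y hy => (h k hk).conj_mem hD t hy
  have h3 := gal_sound hD (L := []) (Γ := []) (fun r hr => absurd hr List.not_mem_nil) st h2
  have h1 : (⊤ : Subgroup (SpecialLinearGroup (Fin n) K)) ≤
      (Subgroup.normalizer (UG hD K Γ : Set ↥(D.group K))).comap φ := by
    rw [← Cfsg.Agent.LieClassical.SLGen.closure_transvections, Subgroup.closure_le]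
    rintro _ ⟨a, b, hab, c, rfl⟩
    change φ _ ∈ Subgroup.normalizer (UG hD K Γ : Set ↥(D.group K))
    rw [hφ]
    exact h3 _ (hst a b hab) _
  intro y hy
  exact (Subgroup.mem_normalizer_iff.1 (h1 (Subgroup.mem_top A)) y).1 hy

/-! ### The normal closure argument -/

theorem nc_mem {G L : Type*} [Group G] [Group L] {φ : L →* G} {U M : Subgroup G}
    (hU : ∀ z, ∀ u ∈ U, φ z * u * (φ z)⁻¹ ∈ U) (hM : ∀ z, φ z ∈ M) {y : L}
    (hy : ∀ u ∈ U, φ y * u * (φ y)⁻¹ * u⁻¹ ∈ M) (hnc : ∀ N : Subgroup L, N.Normal → y ∈ N → N = ⊤) (z : L) :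
    ∀ u ∈ U, φ z * u * (φ z)⁻¹ * u⁻¹ ∈ M := by
  have hUc : ∀ z, ∀ u ∈ U, φ z * u * (φ z)⁻¹ * u⁻¹ ∈ U := fun z u hu => mul_mem (hU z u hu) (inv_mem hu)
  let N : Subgroup L :=
    { carrier := {z | ∀ u ∈ U, φ z * u * (φ z)⁻¹ * u⁻¹ ∈ M}
      one_mem' := by
        intro u _
        rw [map_one]
        simp
      mul_mem' := by
        intro a b ha hb u hu
        have h1 : φ (a * b) * u * (φ (a * b))⁻¹ * u⁻¹ =
            (φ a * (φ b * u * (φ b)⁻¹ * u⁻¹) * (φ a)⁻¹ * (φ b * u * (φ b)⁻¹ * u⁻¹)⁻¹) *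
              (φ b * u * (φ b)⁻¹ * u⁻¹) * (φ a * u * (φ a)⁻¹ * u⁻¹) := by
          rw [map_mul]; group
        rw [h1]
        exact mul_mem (mul_mem (ha _ (hUc b u hu)) (hb u hu)) (ha u hu)
      inv_mem' := by
        intro a ha u hu
        have h1 := ha ((φ a)⁻¹ * u * φ a) (by
          have := hU a⁻¹ u hu
          rwa [map_inv, inv_inv] at this)
        have h2 : φ a⁻¹ * u * (φ a⁻¹)⁻¹ * u⁻¹ =
            (φ a * ((φ a)⁻¹ * u * φ a) * (φ a)⁻¹ * ((φ a)⁻¹ * u * φ a)⁻¹)⁻¹ := by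
          rw [map_inv]; group
        rw [h2]
        exact inv_mem h1 }
  have hN : N.Normal := by
    constructor
    intro a ha g u hu
    have h1 := ha ((φ g)⁻¹ * u * φ g) (by
      have := hU g⁻¹ u hu
      rwa [map_inv, inv_inv] at this)
    have h2 : φ (g * a * g⁻¹) * u * (φ (g * a * g⁻¹))⁻¹ * u⁻¹ =
        φ g * (φ a * ((φ g)⁻¹ * u * φ g) * (φ a)⁻¹ * ((φ g)⁻¹ * u * φ g)⁻¹) * (φ g)⁻¹ := by
      rw [map_mul, map_mul, map_inv]; group
    rw [h2]
    exact mul_mem (mul_mem (hM g) h1) (inv_mem (hM g))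
  have h3 := hnc N hN hy
  have h4 : z ∈ N := by rw [h3]; trivial
  exact h4

/-! ### The radicals `[U, x]` -/

theorem comm_le_of {G : Type*} [Group G] [Finite G] {R R' : Subgroup G} {x : G}
    (hn : ∀ y ∈ R, x * y * x⁻¹ ∈ R) (h : ∀ r ∈ R, x * r * x⁻¹ * r⁻¹ ∈ R') :
    ⁅R, Subgroup.zpowers x⁆ ≤ R' := by
  have hpow : ∀ m : ℕ, ∀ r ∈ R, x ^ m * r * (x ^ m)⁻¹ * r⁻¹ ∈ R' := by
    intro m
    induction m with
    | zero => intro r _; simp
    | succ m ih =>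
      intro r hr
      have h1 := ih _ (hn r hr)
      have h2 : x ^ (m + 1) * r * (x ^ (m + 1))⁻¹ * r⁻¹ =
          (x ^ m * (x * r * x⁻¹) * (x ^ m)⁻¹ * (x * r * x⁻¹)⁻¹) * (x * r * x⁻¹ * r⁻¹) := by
        rw [pow_succ]; group
      rw [h2]
      exact mul_mem h1 (h r hr)
  rw [Subgroup.commutator_comm, Subgroup.commutator_le]
  intro y hy r hr
  have hy' : y ∈ Submonoid.powers x := mem_powers_iff_mem_zpowers.2 hy
  obtain ⟨m, rfl⟩ := hy'
  exact hpow m r hr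

/-- **The radical `[U, x]`.** -/
theorem pair_comm {G : Type*} [Group G] [Finite G] {p k r : ℕ} (hp : p.Prime) (hr : r.Prime) (hpr : p ≠ r)
    {x : G} (hx : x ^ p ^ k = 1) {U : Subgroup G} (hU : IsPGroup r U) (hxU : ∀ y ∈ U, x * y * x⁻¹ ∈ U) :
    Pair p 0 x ⁅U, Subgroup.zpowers x⁆ ∧ IsPGroup r ↥⁅U, Subgroup.zpowers x⁆ := by
  have : Fact p.Prime := ⟨hp⟩
  have : Fact r.Prime := ⟨hr⟩
  have hnorm : x ∈ Subgroup.normalizer (U : Set G) := mem_norm_of_conj hxU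
  have hz : Subgroup.zpowers x ≤ Subgroup.normalizer (U : Set G) := by
    rwa [Subgroup.zpowers_le]
  have hle : ⁅U, Subgroup.zpowers x⁆ ≤ U := by
    rw [Subgroup.commutator_le]
    intro u hu y hy
    have h1 := (Subgroup.mem_normalizer_iff.1 (hz hy) u⁻¹).1 (inv_mem hu)
    have h2 : ⁅u, y⁆ = u * (y * u⁻¹ * y⁻¹) := by rw [commutatorElement_def]; group
    rw [h2]
    exact mul_mem hu h1
  have hpg : IsPGroup r ↥⁅U, Subgroup.zpowers x⁆ := hU.to_le hle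
  have hcop : (Nat.card (Subgroup.zpowers x)).Coprime (Nat.card U) := by
    obtain ⟨m, hm⟩ := IsPGroup.iff_card.1 hU
    rw [hm, Nat.card_zpowers]
    obtain ⟨i, -, hi⟩ := (Nat.dvd_prime_pow hp).1 (orderOf_dvd_of_pow_eq_one hx)
    rw [hi]
    exact Nat.Coprime.pow _ _ ((Nat.coprime_primes hp hr).2 hpr)
  have hcc := Cfsg.Agent.Lib.CoprimeCommutator.commutator_commutator_eq (Subgroup.zpowers x) U hz hcop
  have hnR : ∀ y ∈ ⁅U, Subgroup.zpowers x⁆, x * y * x⁻¹ ∈ ⁅U, Subgroup.zpowers x⁆ := by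
    have h1 : ⁅U, Subgroup.zpowers x⁆ ≤ (⁅U, Subgroup.zpowers x⁆).comap (MulAut.conj x).toMonoidHom := by
      rw [Subgroup.commutator_le]
      intro u hu y hy
      change x * ⁅u, y⁆ * x⁻¹ ∈ ⁅U, Subgroup.zpowers x⁆
      have h2 : x * ⁅u, y⁆ * x⁻¹ = ⁅x * u * x⁻¹, x * y * x⁻¹⁆ := by
        simp only [commutatorElement_def]; group
      rw [h2]
      exact Subgroup.commutator_mem_commutator (hxU u hu)
        (mul_mem (mul_mem (Subgroup.mem_zpowers x) hy) (inv_mem (Subgroup.mem_zpowers x)))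
    exact fun y hy => h1 hy
  refine ⟨⟨hpg.isNilpotent, mem_norm_of_conj hnR, ?_⟩, hpg⟩
  intro R' hR' hc
  rw [pow_zero, pow_one] at hc
  have h1 := comm_le_of hnR hc
  rw [hcc] at h1
  exact absurd hR' (not_lt_of_ge h1)

theorem mem_comm_zpowers {G : Type*} [Group G] {U : Subgroup G} {x u : G} (hu : u ∈ U) :
    x * u * x⁻¹ * u⁻¹ ∈ ⁅U, Subgroup.zpowers x⁆ := by
  rw [Subgroup.commutator_comm]
  exact Subgroup.commutator_mem_commutator (Subgroup.mem_zpowers x) hu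

end Cfsg.Agent.H441.FPR
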