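import Cfsg.Agent.H441.FPR.FTab

/-!
# Rows from the criterion with normal closures
-/

set_option autoImplicit false

namespace Cfsg.Agent.H441.FPR

open Cfsg.Lie Cfsg.Agent.ChevalleyStructure Cfsg.Agent.ChevalleyStructure.Elts Cfsg.Agent.H79.SimpleGen Matrix
open Cfsg.Agent.H398.FPR Cfsg.Agent.TitsThree.KExcRT Cfsg.Agent.ChevalleyStructure.RootVec Cfsg.Agent.Nodes.RGDChev
open Cfsg.Agent.H162.GaussExcMain Cfsg.Agent.KFacts.RgdChevCoord

universe u

variable {K : Type u} [Field K] {D : ChevalleyDatum}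

/-- the homomorphism of `SL_n(K)` -/
theorem exists_hom {l : ℕ} {M : CoxeterMatrix (Fin l)} (hp : IsType D l M) {n : ℕ}
    {r : Fin (n + 3) → Fin (n + 3) → ℕ} {ε : ℤ} (hε : ε * ε = 1)
    (ha : RTa D r) (hb : RTb D r fun _ _ => ε) (hc : RTc D r) (hneg : ∀ i j, i ≠ j → r j i = D.neg (r i j)) :
    ∃ φ : SpecialLinearGroup (Fin (n + 3)) K →* ↥(D.group K), ∀ a b (hab : a ≠ b) c,
      φ (SpecialLinearGroup.transvection hab c) = xS hp.inList (r a b) ((ε : K) * c) := by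
  obtain ⟨φ, hφ⟩ := exists_hom_D hp (K := K) hε ha hb hc hneg
  refine ⟨φ, fun a b hab c => ?_⟩
  rw [hφ]
  apply Subtype.ext
  rw [coe_xc hp (ha a b hab)]
  rfl

/-- `p` divides `q - 1` iff the order is `1` -/
theorem not_dvd_of_ord [Fintype K] {p : ℕ} (h1 : orderOf (Fintype.card K : ZMod p) ≠ 1) :
    ¬ p ∣ Fintype.card K - 1 := by
  intro h
  apply h1
  rw [orderOf_eq_one_iff]
  have h2 : ((Fintype.card K - 1 : ℕ) : ZMod p) = 0 := (ZMod.natCast_eq_zero_iff _ _).2 h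
  rw [Nat.cast_sub Fintype.card_pos, Nat.cast_one, sub_eq_zero] at h2
  exact h2

theorem ne_char [Fintype K] {p r0 : ℕ} [CharP K r0] (hpK : (p : K) ≠ 0) : p ≠ r0 := by
  rintro rfl
  exact hpK (CharP.cast_eq_zero K p)

/-- an element of `SL_n(K)` -/
theorem exists_sl_free [Fintype K] {p : ℕ} (hp' : p.Prime) (hpK : (p : K) ≠ 0)
    (h1 : orderOf (Fintype.card K : ZMod p) ≠ 1) {n : ℕ} (hn : orderOf (Fintype.card K : ZMod p) ∣ n) :
    ∃ A : SpecialLinearGroup (Fin n) K, A ^ p ^ 1 = 1 ∧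
      ∀ v : Fin n → K, (A : Matrix (Fin n) (Fin n) K).mulVec v = v → v = 0 := by
  have : Fact p.Prime := ⟨hp'⟩
  obtain ⟨x, hx1, hx2, hx3⟩ := Cfsg.Agent.H956.FreeElt.exists_free (F := K) rfl hpK h1 hn
  obtain ⟨A, hA⟩ : ∃ A : SpecialLinearGroup (Fin n) K,
      (A : Matrix (Fin n) (Fin n) K) = x := ⟨⟨x, hx1⟩, rfl⟩
  refine ⟨A, ?_, fun v hv => hx3 v (by rwa [hA] at hv)⟩
  apply Subtype.ext
  rw [pow_one]
  change (A : Matrix (Fin n) (Fin n) K) ^ p = 1
  rw [hA]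
  exact congrArg Units.val hx2

/-- the full case -/
theorem CB.tr_ord [Fintype K] {r0 : ℕ} [Fact r0.Prime] [CharP K r0] {l : ℕ} {M : CoxeterMatrix (Fin l)}
    (hp : IsType D l M) {n m m' : ℕ}
    {r : Fin (n + 3) → Fin (n + 3) → ℕ} {ε : ℤ} (hε : ε * ε = 1)
    (ha : RTa D r) (hb : RTb D r fun _ _ => ε) (hc : RTc D r) (hneg : ∀ i j, i ≠ j → r j i = D.neg (r i j))
    {g : Fin m → Fin (n + 3) → ℕ} {u u' : Fin m → Fin (n + 3) → ℤ} {h : Fin m' → Fin (n + 3) → ℕ}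
    {v v' : Fin m' → Fin (n + 3) → ℤ} {Γ Lg : List ℕ} {stg st0 st1 : List (ℕ × ℕ)}
    (C : CB D r ε g u u' h v v' Γ (fun _ => true) Lg stg st0 st1) {p : ℕ} (hp' : p.Prime) (hpK : (p : K) ≠ 0)
    (h1 : orderOf (Fintype.card K : ZMod p) ≠ 1) (hn : orderOf (Fintype.card K : ZMod p) ∣ n + 3) :
    TR r0 p ↥(D.group K) := by
  obtain ⟨φ, hφ⟩ := exists_hom (K := K) hp hε ha hb hc hneg
  obtain ⟨A, hA1, hA2⟩ := exists_sl_free hp' hpK h1 hn
  exact C.tr hp.inList hε hφ hp' (ne_char hpK) (ne_two_of_ord hp' hpK h1) hA1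
    (fun a _ t => exists_sub hA2 _) (fun a _ t => exists_sub (itr_free hA2) _)
    (nc_top (by omega) (not_center_of_free hp' (not_dvd_of_ord h1) hA1 hA2))

/-! ### `1 ⊕ B` -/

/-- `1 ⊕ B` as a matrix -/
def embM (B : Matrix (Fin 2) (Fin 2) K) : Matrix (Fin 3) (Fin 3) K := !![1, 0, 0; 0, B 0 0, B 0 1; 0, B 1 0, B 1 1]

theorem embM_mul (B C : Matrix (Fin 2) (Fin 2) K) : embM (B * C) = embM B * embM C := by
  ext i j
  fin_cases i <;> fin_cases j <;> simp [embM, Matrix.mul_apply, Fin.sum_univ_three, Fin.sum_univ_two]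

theorem embM_one : embM (1 : Matrix (Fin 2) (Fin 2) K) = 1 := by
  ext i j
  fin_cases i <;> fin_cases j <;> simp [embM]

theorem embM_transpose (B : Matrix (Fin 2) (Fin 2) K) : (embM B)ᵀ = embM Bᵀ := by
  ext i j
  fin_cases i <;> fin_cases j <;> simp [embM]

theorem embM_det (B : Matrix (Fin 2) (Fin 2) K) : (embM B).det = B.det := by
  rw [Matrix.det_fin_two, Matrix.det_fin_three]
  simp [embM]

/-- `1 ⊕ B` -/
def emb (K : Type u) [Field K] : SpecialLinearGroup (Fin 2) K →* SpecialLinearGroup (Fin 3) K where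
  toFun B := ⟨embM B, by rw [embM_det]; exact B.2⟩
  map_one' := Subtype.ext embM_one
  map_mul' B C := Subtype.ext (embM_mul _ _)

theorem coe_emb (B : SpecialLinearGroup (Fin 2) K) : (emb K B : Matrix (Fin 3) (Fin 3) K) = embM B := rfl

theorem emb_transpose (B : SpecialLinearGroup (Fin 2) K) : (emb K B).transpose = emb K B.transpose :=
  Subtype.ext (embM_transpose _)

theorem itr_emb (B : SpecialLinearGroup (Fin 2) K) : itr 3 K (emb K B) = emb K (itr 2 K B) := by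
  change ((emb K B)⁻¹).transpose = emb K ((B⁻¹).transpose)
  rw [← map_inv, emb_transpose]

theorem emb_mulVec (B : SpecialLinearGroup (Fin 2) K) (w : Fin 3 → K) :
    (emb K B : Matrix (Fin 3) (Fin 3) K).mulVec w =
      ![w 0, (B : Matrix (Fin 2) (Fin 2) K).mulVec ![w 1, w 2] 0, (B : Matrix (Fin 2) (Fin 2) K).mulVec ![w 1, w 2] 1] := by
  rw [coe_emb]
  ext i
  fin_cases i <;> simp [embM, Matrix.mulVec, dotProduct, Fin.sum_univ_three, Fin.sum_univ_two]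

theorem emb_sub {B : SpecialLinearGroup (Fin 2) K}
    (hB : ∀ v : Fin 2 → K, (B : Matrix (Fin 2) (Fin 2) K).mulVec v = v → v = 0) (a : Fin 3)
    (ha : ![false, true, true] a = true) (t : K) :
    ∃ w : Fin 3 → K, (emb K B : Matrix (Fin 3) (Fin 3) K).mulVec w - w = Pi.single a t := by
  have key : ∀ s : Fin 2 → K, ∃ w : Fin 3 → K, (emb K B : Matrix (Fin 3) (Fin 3) K).mulVec w - w = ![0, s 0, s 1] := by
    intro s
    obtain ⟨v, hv⟩ := exists_sub hB s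
    refine ⟨![0, v 0, v 1], ?_⟩
    rw [emb_mulVec]
    have h1 : ![(![0, v 0, v 1] : Fin 3 → K) 1, (![0, v 0, v 1] : Fin 3 → K) 2] = v := by
      ext i; fin_cases i <;> rfl
    rw [h1, ← hv]
    ext i
    fin_cases i <;> simp
  fin_cases a
  · simp at ha
  · obtain ⟨w, hw⟩ := key ![t, 0]
    refine ⟨w, ?_⟩
    rw [hw]
    ext i
    fin_cases i <;> simp
  · obtain ⟨w, hw⟩ := key ![0, t]
    refine ⟨w, ?_⟩
    rw [hw]
    ext i
    fin_cases i <;> simp

theorem emb_not_center {B : SpecialLinearGroup (Fin 2) K}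
    (hB : ∀ v : Fin 2 → K, (B : Matrix (Fin 2) (Fin 2) K).mulVec v = v → v = 0) :
    emb K B ∉ Subgroup.center (SpecialLinearGroup (Fin 3) K) := by
  intro h
  obtain ⟨c, -, hc⟩ := Matrix.SpecialLinearGroup.mem_center_iff.1 h
  have h1 : c = 1 := by
    have h3 := congrFun (congrFun hc 0) 0
    rw [Matrix.scalar_apply, Matrix.diagonal_apply_eq] at h3
    rw [h3]
    rfl
  rw [h1, map_one, coe_emb] at hc
  have h2 : (B : Matrix (Fin 2) (Fin 2) K) = 1 := by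
    ext i j
    have h3 := congrFun (congrFun hc i.succ) j.succ
    fin_cases i <;> fin_cases j <;> simpa [embM] using h3.symm
  have h6 := hB (Pi.single 0 1) (by rw [h2, Matrix.one_mulVec])
  have h7 := congrFun h6 0
  rw [Pi.single_eq_same] at h7
  exact one_ne_zero h7

/-- the case `1 ⊕ B` -/
theorem CB.tr_emb [Fintype K] {r0 : ℕ} [Fact r0.Prime] [CharP K r0] {l : ℕ} {M : CoxeterMatrix (Fin l)}
    (hp : IsType D l M) {m m' : ℕ}
    {r : Fin 3 → Fin 3 → ℕ} {ε : ℤ} (hε : ε * ε = 1)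
    (ha : RTa D r) (hb : RTb D r fun _ _ => ε) (hc : RTc D r) (hneg : ∀ i j, i ≠ j → r j i = D.neg (r i j))
    {g : Fin m → Fin 3 → ℕ} {u u' : Fin m → Fin 3 → ℤ} {h : Fin m' → Fin 3 → ℕ}
    {v v' : Fin m' → Fin 3 → ℤ} {Γ Lg : List ℕ} {stg st0 st1 : List (ℕ × ℕ)}
    (C : CB D r ε g u u' h v v' Γ ![false, true, true] Lg stg st0 st1) {p : ℕ} (hp' : p.Prime) (hpK : (p : K) ≠ 0)
    (h1 : orderOf (Fintype.card K : ZMod p) ≠ 1) (hn : orderOf (Fintype.card K : ZMod p) ∣ 2) :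
    TR r0 p ↥(D.group K) := by
  obtain ⟨φ, hφ⟩ := exists_hom (K := K) (n := 0) hp hε ha hb hc hneg
  obtain ⟨B, hB1, hB2⟩ := exists_sl_free hp' hpK h1 hn
  refine C.tr hp.inList hε hφ hp' (ne_char hpK) (ne_two_of_ord hp' hpK h1) (A := emb K B) (k := 1)
    (by rw [← map_pow, hB1, map_one]) (emb_sub hB2) ?_ (nc_top le_rfl (emb_not_center hB2))
  rw [itr_emb]
  exact emb_sub (itr_free hB2)

end Cfsg.Agent.H441.FPR
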